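import Mathlib
import Cfsg.Agent.Lib.Classical.Eichler

/-!
Elements of the Eichler subgroup of `xy + Q`: swaps, tori and their conjugation rules.
-/

set_option autoImplicit false

namespace Cfsg.Agent.Lib.MinDegree.Orth

open QuadraticMap Cfsg.Agent.Lib.Classical

variable {F : Type*} [Field F] {V : Type*} [AddCommGroup V] [Module F V] {Q : QuadraticForm F V}

theorem scale_siegel (c : Fˣ) (a : V) :
    hypScale c * hypSiegel Q a = hypSiegel Q ((c : F) • a) * hypScale c := by
  apply LinearEquiv.ext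
  intro p
  simp only [LinearEquiv.mul_apply, hypScale_apply, hypSiegel_apply, polar_smul_left, QuadraticMap.map_smul,
    smul_eq_mul]
  refine Prod.ext ?_ (Prod.ext rfl ?_)
  · field_simp
  · simp only [smul_smul]
    congr 2
    field_simp

theorem scale_siegel' (c : Fˣ) (a : V) :
    hypScale c * hypSiegel' Q a = hypSiegel' Q ((c : F)⁻¹ • a) * hypScale c := by
  apply LinearEquiv.ext
  intro p
  simp only [LinearEquiv.mul_apply, hypScale_apply, hypSiegel'_apply, polar_smul_left, QuadraticMap.map_smul,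
    smul_eq_mul]
  refine Prod.ext rfl (Prod.ext ?_ ?_)
  · field_simp
  · simp only [smul_smul]
    congr 2
    field_simp

theorem ind_siegel {g : V ≃ₗ[F] V} (hg : g ∈ isoGroup Q) (a : V) :
    hypInd g * hypSiegel Q a = hypSiegel Q (g a) * hypInd g := by
  apply LinearEquiv.ext
  intro p
  simp only [LinearEquiv.mul_apply, hypInd_apply, hypSiegel_apply, isometry_polar hg, hg a, map_add, map_smul]

theorem ind_siegel' {g : V ≃ₗ[F] V} (hg : g ∈ isoGroup Q) (a : V) :
    hypInd g * hypSiegel' Q a = hypSiegel' Q (g a) * hypInd g := by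
  apply LinearEquiv.ext
  intro p
  simp only [LinearEquiv.mul_apply, hypInd_apply, hypSiegel'_apply, isometry_polar hg, hg a, map_add, map_smul]

theorem hypInd_mul (g h : V ≃ₗ[F] V) : hypInd (g * h) = hypInd g * hypInd h :=
  LinearEquiv.ext fun _ => rfl

theorem hypInd_one : hypInd (1 : V ≃ₗ[F] V) = 1 := LinearEquiv.ext fun _ => rfl

theorem hypInd_inv (g : V ≃ₗ[F] V) : hypInd g⁻¹ = (hypInd g)⁻¹ :=
  eq_inv_of_mul_eq_one_left (by rw [← hypInd_mul, inv_mul_cancel, hypInd_one])

theorem scale_mul (c d : Fˣ) :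
    (hypScale c : (F × F × V) ≃ₗ[F] _) * hypScale d = hypScale (c * d) := by
  apply LinearEquiv.ext
  intro p
  simp only [LinearEquiv.mul_apply, hypScale_apply, Units.val_mul, mul_inv, mul_assoc]

theorem scale_one : (hypScale (1 : Fˣ) : (F × F × V) ≃ₗ[F] _) = 1 :=
  LinearEquiv.ext fun p => by simp [hypScale_apply]

theorem scale_inv (c : Fˣ) : (hypScale c⁻¹ : (F × F × V) ≃ₗ[F] _) = (hypScale c)⁻¹ :=
  eq_inv_of_mul_eq_one_left (by rw [scale_mul, inv_mul_cancel, scale_one])

theorem scale_ind (c : Fˣ) (g : V ≃ₗ[F] V) :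
    hypScale c * hypInd g = hypInd g * hypScale c := by
  apply LinearEquiv.ext
  intro p
  simp [LinearEquiv.mul_apply, hypScale_apply, hypInd_apply]

/-- `diag (c, c⁻¹, g)` -/
def lev (c : Fˣ) (g : V ≃ₗ[F] V) : (F × F × V) ≃ₗ[F] (F × F × V) := hypScale c * hypInd g

theorem lev_apply (c : Fˣ) (g : V ≃ₗ[F] V) (p : F × F × V) :
    lev c g p = ((c : F) * p.1, (c : F)⁻¹ * p.2.1, g p.2.2) := by
  simp [lev, LinearEquiv.mul_apply, hypScale_apply, hypInd_apply]

theorem lev_mul (c d : Fˣ) (g h : V ≃ₗ[F] V) : lev c g * lev d h = lev (c * d) (g * h) := by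
  apply LinearEquiv.ext
  intro p
  simp [LinearEquiv.mul_apply, lev_apply, mul_assoc, mul_comm, mul_left_comm]

theorem lev_one_left (g : V ≃ₗ[F] V) : lev 1 g = hypInd g := by rw [lev, scale_one, one_mul]

theorem lev_one_right (c : Fˣ) : lev c (1 : V ≃ₗ[F] V) = hypScale c := by rw [lev, hypInd_one, mul_one]

theorem lev_mem_iso {c : Fˣ} {g : V ≃ₗ[F] V} (hg : g ∈ isoGroup Q) : lev c g ∈ isoGroup (hypExt Q) :=
  mul_mem (hypScale_mem Q c) (hypInd_mem hg)

theorem lev_siegel {c : Fˣ} {g : V ≃ₗ[F] V} (hg : g ∈ isoGroup Q) (a : V) :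
    lev c g * hypSiegel Q a = hypSiegel Q ((c : F) • g a) * lev c g := by
  rw [lev, mul_assoc, ind_siegel hg, ← mul_assoc, scale_siegel, mul_assoc]

theorem lev_siegel' {c : Fˣ} {g : V ≃ₗ[F] V} (hg : g ∈ isoGroup Q) (a : V) :
    lev c g * hypSiegel' Q a = hypSiegel' Q ((c : F)⁻¹ • g a) * lev c g := by
  rw [lev, mul_assoc, ind_siegel' hg, ← mul_assoc, scale_siegel', mul_assoc]

/-- an element carrying the generators to generators normalises `E` -/
theorem eichler_normalised {x : (F × F × V) ≃ₗ[F] (F × F × V)}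
    (h : ∀ k ∈ eichlerGens Q, x * k * x⁻¹ ∈ eichlerGroup Q) {k : (F × F × V) ≃ₗ[F] (F × F × V)}
    (hk : k ∈ eichlerGroup Q) : x * k * x⁻¹ ∈ eichlerGroup Q := by
  have hle : (eichlerGroup Q).map (MulAut.conj x).toMonoidHom ≤ eichlerGroup Q := by
    rw [eichlerGroup, MonoidHom.map_closure, Subgroup.closure_le]
    rintro _ ⟨k, hk, rfl⟩
    exact h k hk
  exact hle ⟨k, hk, rfl⟩

theorem lev_normalises {c : Fˣ} {g : V ≃ₗ[F] V} (hg : g ∈ isoGroup Q)
    {k : (F × F × V) ≃ₗ[F] (F × F × V)} (hk : k ∈ eichlerGroup Q) :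
    lev c g * k * (lev c g)⁻¹ ∈ eichlerGroup Q := by
  refine eichler_normalised ?_ hk
  rintro _ (⟨a, rfl⟩ | ⟨a, rfl⟩)
  · rw [lev_siegel hg, mul_inv_cancel_right]; exact hypSiegel_mem_eichler Q _
  · rw [lev_siegel' hg, mul_inv_cancel_right]; exact hypSiegel'_mem_eichler Q _

theorem ind_normalises {g : V ≃ₗ[F] V} (hg : g ∈ isoGroup Q)
    {k : (F × F × V) ≃ₗ[F] (F × F × V)} (hk : k ∈ eichlerGroup Q) :
    hypInd g * k * (hypInd g)⁻¹ ∈ eichlerGroup Q := by
  rw [← lev_one_left]; exact lev_normalises hg hk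

/-- `S'(b) S(b/Q b) S'(b)` -/
def swapB (Q : QuadraticForm F V) (b : V) : (F × F × V) ≃ₗ[F] (F × F × V) :=
  hypSiegel' Q b * hypSiegel Q ((Q b)⁻¹ • b) * hypSiegel' Q b

theorem swapB_mem (b : V) : swapB Q b ∈ eichlerGroup Q :=
  mul_mem (mul_mem (hypSiegel'_mem_eichler Q _) (hypSiegel_mem_eichler Q _)) (hypSiegel'_mem_eichler Q _)

theorem swapB_apply {b : V} (hb : Q b ≠ 0) (p : F × F × V) :
    swapB Q b p = (-(Q b)⁻¹ * p.2.1, -Q b * p.1, p.2.2 - ((Q b)⁻¹ * polar Q b p.2.2) • b) := by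
  simp only [swapB, LinearEquiv.mul_apply, hypSiegel'_apply, hypSiegel_apply, polar_smul_left, polar_smul_right,
    polar_add_right, QuadraticMap.map_smul, polar_self, smul_eq_mul, nsmul_eq_mul, Nat.cast_ofNat]
  refine Prod.ext ?_ (Prod.ext ?_ ?_)
  · field_simp; ring
  · field_simp; ring
  · match_scalars <;> field_simp <;> ring

/-- the reflection at `b` on the middle part -/
theorem swapB_siegel {b : V} (hb : Q b ≠ 0) (a : V) :
    swapB Q b * hypSiegel Q a
      = hypSiegel' Q ((-Q b) • (a - ((Q b)⁻¹ * polar Q b a) • b)) * swapB Q b := by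
  apply LinearEquiv.ext
  intro p
  rw [LinearEquiv.mul_apply, LinearEquiv.mul_apply, hypSiegel_apply, swapB_apply hb, swapB_apply hb,
    hypSiegel'_apply]
  simp only [polar_add_left, polar_add_right, polar_sub_left, polar_sub_right, polar_smul_left, polar_smul_right,
    QuadraticMap.map_smul, polar_self, sub_eq_add_neg, polar_neg_left, polar_neg_right, QuadraticMap.map_add (⇑Q),
    QuadraticMap.map_neg, smul_eq_mul, nsmul_eq_mul, Nat.cast_ofNat, polar_comm (⇑Q) a b]
  refine Prod.ext ?_ (Prod.ext ?_ ?_)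
  · ring
  · field_simp; ring
  · match_scalars <;> field_simp <;> ring

theorem exists_nonsing [Nontrivial V] (hQ : ∀ z, (∀ w, polar Q z w = 0) → z = 0) : ∃ b, Q b ≠ 0 := by
  by_contra h
  push Not at h
  obtain ⟨z, hz⟩ := exists_ne (0 : V)
  exact hz (hQ z fun w => by simp [polar, h])

section plane

variable {W : Type*} [AddCommGroup W] [Module F W] {P : QuadraticForm F W}

/-- the exchange `e₁ → -e₂ → -e₁` of two planes -/
def planeSwap (P : QuadraticForm F W) : (F × F × (F × F × W)) ≃ₗ[F] (F × F × (F × F × W)) :=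
  hypSiegel (hypExt P) (0, -1, 0) * hypSiegel' (hypExt P) (-1, 0, 0) * hypSiegel (hypExt P) (0, -1, 0)

theorem planeSwap_mem : planeSwap P ∈ eichlerGroup (hypExt P) :=
  mul_mem (mul_mem (hypSiegel_mem_eichler _ _) (hypSiegel'_mem_eichler _ _)) (hypSiegel_mem_eichler _ _)

theorem planeSwap_apply (p : F × F × (F × F × W)) :
    planeSwap P p = (p.2.2.1, p.2.2.2.1, (-p.1, -p.2.1, p.2.2.2.2)) := by
  simp only [planeSwap, LinearEquiv.mul_apply, hypSiegel_apply, hypSiegel'_apply, polar_hypExt, hypExt_apply,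
    polar_zero_left, map_zero, Prod.fst_add, Prod.snd_add, Prod.smul_fst, Prod.smul_snd, smul_eq_mul, smul_zero,
    add_zero, mul_zero, zero_mul]
  refine Prod.ext ?_ (Prod.ext ?_ (Prod.ext ?_ (Prod.ext ?_ ?_))) <;>
    simp only [Prod.fst_add, Prod.snd_add, Prod.smul_fst, Prod.smul_snd, smul_eq_mul, smul_zero, add_zero] <;> ring

theorem planeSwap_ind_siegel (c : W) :
    planeSwap P * hypInd (hypSiegel P c) = hypSiegel (hypExt P) (0, 0, c) * planeSwap P := by
  apply LinearEquiv.ext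
  intro p
  simp only [LinearEquiv.mul_apply, planeSwap_apply, hypInd_apply, hypSiegel_apply, polar_hypExt, hypExt_apply,
    zero_mul, mul_zero, zero_add]
  refine Prod.ext rfl (Prod.ext rfl ?_)
  simp

theorem planeSwap_ind_siegel' (c : W) :
    planeSwap P * hypInd (hypSiegel' P c) = hypSiegel' (hypExt P) (0, 0, c) * planeSwap P := by
  apply LinearEquiv.ext
  intro p
  simp only [LinearEquiv.mul_apply, planeSwap_apply, hypInd_apply, hypSiegel'_apply, polar_hypExt, hypExt_apply,
    zero_mul, mul_zero, zero_add]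
  refine Prod.ext rfl (Prod.ext rfl ?_)
  simp

theorem planeSwap_siegel_mid (c : W) :
    planeSwap P * hypSiegel (hypExt P) (0, 0, c) = hypInd (hypSiegel P (-c)) * planeSwap P := by
  apply LinearEquiv.ext
  intro p
  simp only [LinearEquiv.mul_apply, planeSwap_apply, hypInd_apply, hypSiegel_apply, polar_hypExt, hypExt_apply,
    zero_mul, mul_zero, zero_add, polar_neg_left, QuadraticMap.map_neg]
  refine Prod.ext ?_ (Prod.ext ?_ (Prod.ext ?_ (Prod.ext ?_ ?_))) <;>
    simp only [Prod.fst_add, Prod.snd_add, Prod.smul_fst, Prod.smul_snd, smul_eq_mul, smul_zero, mul_zero, add_zero,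
      neg_smul, smul_neg, neg_neg] <;> ring

theorem planeSwap_siegel_e (t : F) :
    planeSwap P * hypSiegel (hypExt P) (t, 0, 0) = hypSiegel (hypExt P) (t, 0, 0) * planeSwap P := by
  apply LinearEquiv.ext
  intro p
  simp only [LinearEquiv.mul_apply, planeSwap_apply, hypSiegel_apply, polar_hypExt, hypExt_apply, polar_zero_left,
    map_zero, zero_mul, mul_zero, zero_add, add_zero]
  refine Prod.ext ?_ (Prod.ext ?_ (Prod.ext ?_ (Prod.ext ?_ ?_))) <;>
    simp only [Prod.fst_add, Prod.snd_add, Prod.smul_fst, Prod.smul_snd, smul_eq_mul, smul_zero, mul_zero, add_zero] <;>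
    ring

/-- `hypInd` as a homomorphism -/
def indM : (W ≃ₗ[F] W) →* ((F × F × W) ≃ₗ[F] (F × F × W)) :=
  { toFun := hypInd, map_one' := hypInd_one, map_mul' := hypInd_mul }

/-- `E(P)` acts inside `E(xy + P)` -/
theorem hypInd_mem_eichler {k : (F × F × W) ≃ₗ[F] (F × F × W)} (hk : k ∈ eichlerGroup P) :
    hypInd k ∈ eichlerGroup (hypExt P) := by
  have hle : (eichlerGroup P).map indM ≤ eichlerGroup (hypExt P) := by
    rw [eichlerGroup, MonoidHom.map_closure, Subgroup.closure_le]
    rintro _ ⟨_, (⟨c, rfl⟩ | ⟨c, rfl⟩), rfl⟩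
    · show hypInd (hypSiegel P c) ∈ _
      have := mul_mem (mul_mem (inv_mem (planeSwap_mem (P := P))) (hypSiegel_mem_eichler (hypExt P) (0, 0, c)))
        (planeSwap_mem (P := P))
      rwa [mul_assoc, ← planeSwap_ind_siegel, inv_mul_cancel_left] at this
    · show hypInd (hypSiegel' P c) ∈ _
      have := mul_mem (mul_mem (inv_mem (planeSwap_mem (P := P))) (hypSiegel'_mem_eichler (hypExt P) (0, 0, c)))
        (planeSwap_mem (P := P))
      rwa [mul_assoc, ← planeSwap_ind_siegel', inv_mul_cancel_left] at this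
  exact hle ⟨k, hk, rfl⟩

/-- `diag (c, c⁻¹)` on the two planes -/
theorem lev_scale_inv_mem (c : Fˣ) :
    lev c (hypScale c⁻¹ : (F × F × W) ≃ₗ[F] _) ∈ eichlerGroup (hypExt P) := by
  have h : hypScale c * planeSwap P * (hypScale c)⁻¹ * (planeSwap P)⁻¹ ∈ eichlerGroup (hypExt P) := by
    refine mul_mem ?_ (inv_mem planeSwap_mem)
    have := lev_normalises (Q := hypExt P) (c := c) (one_mem _) (planeSwap_mem (P := P))
    rwa [lev_one_right] at this
  have e : hypScale c * planeSwap P = lev c (hypScale c⁻¹ : (F × F × W) ≃ₗ[F] _) * planeSwap P * hypScale c := by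
    apply LinearEquiv.ext
    intro p
    simp only [LinearEquiv.mul_apply, hypScale_apply, planeSwap_apply, lev_apply, Units.val_inv_eq_inv_val, inv_inv]
    refine Prod.ext rfl (Prod.ext rfl (Prod.ext ?_ (Prod.ext ?_ rfl))) <;> field_simp
  rw [e] at h
  simpa [mul_assoc] using h

theorem hypSwap_scale (c : Fˣ) :
    (hypSwap : (F × F × W) ≃ₗ[F] _) * hypScale c⁻¹ * hypSwap = hypScale c := by
  apply LinearEquiv.ext
  intro p
  simp [LinearEquiv.mul_apply, hypScale_apply, hypSwap_apply]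

/-- `diag (c, c)` on the two planes -/
theorem lev_scale_mem (c : Fˣ) :
    lev c (hypScale c : (F × F × W) ≃ₗ[F] _) ∈ eichlerGroup (hypExt P) := by
  have h := ind_normalises (hypSwap_mem P) (lev_scale_inv_mem (P := P) c)
  have hs : (hypInd (hypSwap : (F × F × W) ≃ₗ[F] _))⁻¹ = hypInd hypSwap := by
    rw [← hypInd_inv, inv_eq_of_mul_eq_one_right (hypSwap_mul_self (F := F) (V := W))]
  rw [hs, lev, ← mul_assoc, ← scale_ind, mul_assoc, mul_assoc, ← hypInd_mul, ← hypInd_mul, ← mul_assoc,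
    hypSwap_scale] at h
  exact h

/-- squares on the second plane -/
theorem ind_scale_sq_mem (c : Fˣ) :
    hypInd (hypScale (c * c) : (F × F × W) ≃ₗ[F] _) ∈ eichlerGroup (hypExt P) := by
  have h := mul_mem (lev_scale_mem (P := P) c) (inv_mem (lev_scale_inv_mem (P := P) c))
  have e : (lev c (hypScale c⁻¹ : (F × F × W) ≃ₗ[F] _))⁻¹ = lev c⁻¹ (hypScale c) := by
    refine inv_eq_of_mul_eq_one_right ?_
    rw [lev_mul, mul_inv_cancel, scale_mul, inv_mul_cancel, scale_one, lev_one_left, hypInd_one]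
  rwa [e, lev_mul, mul_inv_cancel, scale_mul, lev_one_left] at h

/-- squares on the first plane -/
theorem scale_sq_mem (c : Fˣ) :
    (hypScale (c * c) : (F × F × (F × F × W)) ≃ₗ[F] _) ∈ eichlerGroup (hypExt P) := by
  have h := mul_mem (lev_scale_mem (P := P) c) (lev_scale_inv_mem (P := P) c)
  rwa [lev_mul, scale_mul, mul_inv_cancel, scale_one, lev_one_right] at h

end plane

/-- squares on the plane, any non-zero non-degenerate middle form -/
theorem scale_sq_mem_of_nonsing {b : V} (hb : Q b ≠ 0) (c : Fˣ) :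
    (hypScale (c * c) : (F × F × V) ≃ₗ[F] _) ∈ eichlerGroup Q := by
  have hc : (c : F) ≠ 0 := c.ne_zero
  have hb' : Q ((c : F) • b) ≠ 0 := by
    rw [QuadraticMap.map_smul, smul_eq_mul]; exact mul_ne_zero (mul_ne_zero hc hc) hb
  have e : swapB Q ((c : F) • b) * swapB Q b = hypScale (c * c)⁻¹ := by
    apply LinearEquiv.ext
    intro p
    simp only [LinearEquiv.mul_apply, swapB_apply hb, swapB_apply hb', hypScale_apply, Units.val_inv_eq_inv_val,
      Units.val_mul, polar_smul_left, polar_sub_right, polar_smul_right, QuadraticMap.map_smul, polar_self,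
      smul_eq_mul, nsmul_eq_mul, Nat.cast_ofNat]
    refine Prod.ext ?_ (Prod.ext ?_ ?_)
    · field_simp
    · field_simp
    · match_scalars <;> field_simp <;> ring
  have h := mul_mem (swapB_mem (Q := Q) ((c : F) • b)) (swapB_mem (Q := Q) b)
  rw [e, scale_inv] at h
  simpa using inv_mem h

end Cfsg.Agent.Lib.MinDegree.Orth
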