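import Mathlib
import Cfsg.Agent.Lib.MinDegree.Siegel
import Cfsg.Agent.Lib.MinDegree.Orth.Elements

/-!
A representation of `E(Q)` restricted to the radical `S(V)`: characters, eigenspaces, monomial traces.
-/

set_option autoImplicit false

namespace Cfsg.Agent.Lib.MinDegree.Orth

open QuadraticMap Module Cfsg.Agent.Lib.Classical

variable {F : Type*} [Field F] [Fintype F] {V : Type*} [AddCommGroup V] [Module F V]

/-- the character of `V` attached to `w` -/
noncomputable def chW (Q : QuadraticForm F V) (w : V) : AddChar V ℂ :=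
  (psi0 F).compAddMonoidHom (polarBilin Q w).toAddMonoidHom

theorem chW_apply (Q : QuadraticForm F V) (w a : V) : chW Q w a = psi0 F (polar Q w a) := rfl

theorem chW_zero (Q : QuadraticForm F V) : chW Q 0 = 0 :=
  DFunLike.ext _ _ fun a => by
    rw [chW_apply, polar_zero_left, AddChar.map_zero_eq_one, AddChar.zero_apply]

theorem psi0_eq_one_of_forall {r : F} (h : ∀ t, psi0 F (t * r) = 1) : r = 0 := by
  by_contra hr
  refine AddChar.FiniteField.primitiveChar_to_Complex_isPrimitive F hr (DFunLike.ext _ _ fun t => ?_)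
  rw [AddChar.mulShift_apply, AddChar.one_apply, mul_comm]
  exact h t

variable {Q : QuadraticForm F V}

theorem chW_injective (hQ : ∀ z, (∀ w, polar Q z w = 0) → z = 0) : Function.Injective (chW Q) := by
  intro w w' h
  refine sub_eq_zero.1 (hQ _ fun a => psi0_eq_one_of_forall fun t => ?_)
  have h1 : chW Q w (t • a) = chW Q w' (t • a) := by rw [h]
  rw [chW_apply, chW_apply, polar_smul_right, polar_smul_right, smul_eq_mul, smul_eq_mul] at h1
  have h2 := (psi0 F).map_add_eq_mul (t * polar Q (w - w') a) (t * polar Q w' a)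
  rw [show t * polar Q (w - w') a + t * polar Q w' a = t * polar Q w a by
    rw [polar_sub_left]; ring, h1] at h2
  exact mul_right_cancel₀ (by rw [← norm_ne_zero_iff, AddChar.norm_apply]; exact one_ne_zero)
    ((one_mul _).trans h2).symm

variable [Fintype V]

theorem chW_bijective (hQ : ∀ z, (∀ w, polar Q z w = 0) → z = 0) : Function.Bijective (chW Q) :=
  (Fintype.bijective_iff_injective_and_card _).2 ⟨chW_injective hQ, AddChar.card_eq.symm⟩

theorem eigProj_of_mem_other {A : Type*} [AddCommGroup A] [Fintype A] {U : Type*} [AddCommGroup U] [Module ℂ U]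
    {z : A → Module.End ℂ U} {χ ψ : AddChar A ℂ} (h : χ ≠ ψ) {u : U} (hu : u ∈ eigSpace z χ) :
    eigProj z ψ u = 0 := by
  rw [eigProj, LinearMap.smul_apply, LinearMap.sum_apply]
  simp only [LinearMap.smul_apply, hu _, smul_smul]
  rw [← Finset.sum_smul]
  have hne : χ - ψ ≠ 0 := sub_ne_zero.2 h
  have hs := AddChar.sum_eq_ite (χ - ψ)
  rw [if_neg hne] at hs
  have hs' : ∑ a, ψ (-a) * χ a = 0 := by
    rw [← hs]
    exact Finset.sum_congr rfl fun a _ => by rw [AddChar.sub_apply', mul_comm, AddChar.map_neg_eq_inv]; rfl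
  rw [hs', zero_smul, smul_zero]

variable {U : Type*} [AddCommGroup U] [Module ℂ U] (ρ : Representation ℂ (eichlerGroup Q) U)

/-- the radical acting -/
abbrev zU (a : V) : Module.End ℂ U := ρ ⟨hypSiegel Q a, hypSiegel_mem_eichler Q a⟩

omit [Fintype F] [Fintype V] in
theorem zU_zero : zU ρ 0 = 1 := by
  rw [zU, show (⟨hypSiegel Q 0, hypSiegel_mem_eichler Q 0⟩ : eichlerGroup Q) = 1 from
    Subtype.ext (LinearEquiv.ext fun p => by simp [hypSiegel_apply]), map_one]

omit [Fintype F] [Fintype V] in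
theorem zU_add (a b : V) : zU ρ (a + b) = zU ρ a * zU ρ b := by
  rw [zU, zU, zU, ← map_mul]
  exact congrArg ρ (Subtype.ext (hypSiegel_add Q a b).symm)

/-- the eigenspace of `w` -/
noncomputable abbrev eigW (w : V) : Submodule ℂ U := eigSpace (zU ρ) (chW Q w)

/-- the component in the eigenspace of `w` -/
noncomputable abbrev projW (w : V) : Module.End ℂ U := eigProj (zU ρ) (chW Q w)

theorem projW_mem (w : V) (u : U) : projW ρ w u ∈ eigW ρ w := eigProj_mem (zU_add ρ) _ u

theorem sum_projW (hQ : ∀ z, (∀ w, polar Q z w = 0) → z = 0) (u : U) : ∑ w, projW ρ w u = u := by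
  rw [← LinearMap.sum_apply, show ∑ w, projW ρ w = ∑ ψ, eigProj (zU ρ) ψ from
    (Equiv.ofBijective _ (chW_bijective hQ)).sum_comp (fun ψ => eigProj (zU ρ) ψ),
    sum_eigProj (zU_zero ρ), Module.End.one_apply]

/-- a component is fixed by whatever commutes and fixes the vector -/
theorem projW_commute (w : V) {M : Module.End ℂ U} (hM : ∀ a, zU ρ a * M = M * zU ρ a) (u : U) :
    projW ρ w (M u) = M (projW ρ w u) := by
  simp only [projW, eigProj, LinearMap.smul_apply, LinearMap.sum_apply, map_smul, map_sum]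
  congr 1
  exact Finset.sum_congr rfl fun a _ => by rw [← Module.End.mul_apply, hM, Module.End.mul_apply]

theorem projW_scalar (w b : V) {u : U} {c : ℂ} (hu : zU ρ b u = c • u) (h : projW ρ w u ≠ 0) :
    psi0 F (polar Q w b) = c := by
  have h1 := projW_commute ρ w (M := zU ρ b) (fun a => by rw [← zU_add, ← zU_add, add_comm]) u
  rw [hu, map_smul, projW_mem ρ w u b, chW_apply] at h1
  exact (smul_left_injective ℂ h h1).symm

section transfer

variable {c : Fˣ} {g : V ≃ₗ[F] V} (hg : g ∈ isoGroup Q) (hx : lev c g ∈ eichlerGroup Q)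

include hg hx

omit [Fintype F] [Fintype V] in
theorem zU_lev (a : V) :
    zU ρ a * ρ ⟨lev c g, hx⟩ = ρ ⟨lev c g, hx⟩ * zU ρ ((c : F)⁻¹ • g.symm a) := by
  rw [zU, zU, ← map_mul, ← map_mul]
  refine congrArg ρ (Subtype.ext ?_)
  show hypSiegel Q a * lev c g = lev c g * hypSiegel Q _
  rw [lev_siegel hg, map_smul, g.apply_symm_apply, smul_smul, mul_inv_cancel₀ c.ne_zero, one_smul]

omit [Fintype V] in
theorem lev_mem_eig {w : V} {u : U} (hu : u ∈ eigW ρ w) :
    ρ ⟨lev c g, hx⟩ u ∈ eigW ρ ((c : F)⁻¹ • g w) := fun a => by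
  rw [← Module.End.mul_apply, zU_lev ρ hg hx, Module.End.mul_apply, hu, map_smul, chW_apply, chW_apply,
    polar_smul_left, polar_smul_right]
  congr 2
  conv_rhs => rw [← g.apply_symm_apply a, isometry_polar hg]

theorem projW_lev (hQ : ∀ z, (∀ w, polar Q z w = 0) → z = 0) (w : V) (u : U) :
    projW ρ ((c : F)⁻¹ • g w) (ρ ⟨lev c g, hx⟩ u) = ρ ⟨lev c g, hx⟩ (projW ρ w u) := by
  conv_lhs => rw [← sum_projW ρ hQ u]
  rw [map_sum, map_sum, Finset.sum_eq_single w]
  · exact eigProj_of_mem _ (lev_mem_eig ρ hg hx (projW_mem ρ w u))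
  · intro v _ hv
    refine eigProj_of_mem_other (fun h => hv (g.injective ?_)) (lev_mem_eig ρ hg hx (projW_mem ρ v u))
    exact smul_right_injective V (inv_ne_zero c.ne_zero) (chW_injective hQ h)
  · exact fun h => absurd (Finset.mem_univ _) h

omit [Fintype V] in
theorem lev_symm_mem : lev c⁻¹ g⁻¹ ∈ eichlerGroup Q := by
  have : lev c⁻¹ g⁻¹ = (lev c g)⁻¹ :=
    eq_inv_of_mul_eq_one_left (by rw [lev_mul, inv_mul_cancel, inv_mul_cancel, lev_one_left, hypInd_one])
  rw [this]
  exact inv_mem hx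

omit [Fintype V] in
theorem finrank_eig_lev [FiniteDimensional ℂ U] (w : V) :
    finrank ℂ (eigW ρ ((c : F)⁻¹ • g w)) = finrank ℂ (eigW ρ w) := by
  have inj : ∀ (x : eichlerGroup Q), Function.Injective (ρ x) := fun x =>
    Function.LeftInverse.injective (g := ρ x⁻¹) fun u => by
      rw [← Module.End.mul_apply, ← map_mul, inv_mul_cancel, map_one, Module.End.one_apply]
  apply le_antisymm
  · have hmaps : ∀ u ∈ eigW ρ ((c : F)⁻¹ • g w),
        ρ ⟨lev c⁻¹ g⁻¹, lev_symm_mem hg hx⟩ u ∈ eigW ρ w := fun u hu => by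
      have := lev_mem_eig ρ (inv_mem hg) (lev_symm_mem hg hx) hu
      rwa [map_smul, smul_smul, Units.val_inv_eq_inv_val, inv_inv, mul_inv_cancel₀ c.ne_zero, one_smul,
        show g⁻¹ (g w) = w from g.symm_apply_apply w] at this
    exact LinearMap.finrank_le_finrank_of_injective (f := LinearMap.restrict _ hmaps)
      fun a b h => Subtype.ext (inj _ (congrArg Subtype.val h))
  · exact LinearMap.finrank_le_finrank_of_injective
      (f := LinearMap.restrict _ fun u hu => lev_mem_eig ρ hg hx hu)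
      fun a b h => Subtype.ext (inj _ (congrArg Subtype.val h))

end transfer

/-- the space fixed by the radical -/
noncomputable abbrev fixU : Submodule ℂ U := eigSpace (zU ρ) (0 : AddChar V ℂ)

theorem mem_fixU {u : U} : u ∈ fixU ρ ↔ ∀ a, zU ρ a u = u :=
  forall_congr' fun a => by rw [AddChar.zero_apply, one_smul]

theorem eigW_zero : eigW ρ (0 : V) = fixU ρ := by rw [eigW, chW_zero]

/-- only singular non-zero characters, each at most once -/
structure Small : Prop where
  bot : ∀ w, Q w ≠ 0 → eigW ρ w = ⊥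
  le_one : ∀ w, w ≠ 0 → finrank ℂ (eigW ρ w) ≤ 1

variable [FiniteDimensional ℂ U] [DecidableEq V]

theorem finrank_eq_sum (hQ : ∀ z, (∀ w, polar Q z w = 0) → z = 0) :
    finrank ℂ U = finrank ℂ (fixU ρ) + ∑ w ∈ Finset.univ.erase (0 : V), finrank ℂ (eigW ρ w) := by
  refine (Nat.cast_inj (R := ℂ)).1 ?_
  rw [← sum_finrank (zU_zero ρ) (zU_add ρ),
    ← (Equiv.ofBijective _ (chW_bijective hQ)).sum_comp (fun ψ => (finrank ℂ (eigSpace (zU ρ) ψ) : ℂ)),
    ← Finset.add_sum_erase _ _ (Finset.mem_univ (0 : V)), Nat.cast_add, Nat.cast_sum]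
  rw [show (Equiv.ofBijective _ (chW_bijective hQ)) (0 : V) = (0 : AddChar V ℂ) from chW_zero Q]
  rfl

/-- trace of an operator permuting the eigenspaces, scalar on the fixed ones -/
theorem trace_monomial (hQ : ∀ z, (∀ w, polar Q z w = 0) → z = 0) {M : Module.End ℂ U} {π : V → V}
    (hπ : ∀ w, ∀ u ∈ eigW ρ w, M u ∈ eigW ρ (π w)) (hf : ∀ u ∈ fixU ρ, M u ∈ fixU ρ) {c : V → ℂ}
    (hc : ∀ w, w ≠ 0 → π w = w → ∀ u ∈ eigW ρ w, M u = c w • u) :
    LinearMap.trace ℂ U M = LinearMap.trace ℂ (fixU ρ) (M.restrict hf) +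
      ∑ w ∈ Finset.univ.erase (0 : V), if π w = w then c w * finrank ℂ (eigW ρ w) else 0 := by
  have hmaps : ∀ (ψ : AddChar V ℂ) (v : U), (eigProj (zU ρ) ψ * M) v ∈ eigSpace (zU ρ) ψ :=
    fun ψ v => eigProj_mem (zU_add ρ) ψ _
  conv_lhs => rw [← one_mul M, ← sum_eigProj (zU_zero ρ), Finset.sum_mul, map_sum]
  rw [← (Equiv.ofBijective _ (chW_bijective hQ)).sum_comp, ← Finset.add_sum_erase _ _ (Finset.mem_univ (0 : V))]
  simp only [Equiv.ofBijective_apply]
  congr 1
  · rw [chW_zero, ← LinearMap.trace_restrict_eq_of_forall_mem (fixU ρ) _ (hmaps 0)]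
    congr 1
    exact LinearMap.ext fun v => Subtype.ext (eigProj_of_mem _ (hf v.1 v.2))
  · refine Finset.sum_congr rfl fun w hw => ?_
    rw [← LinearMap.trace_restrict_eq_of_forall_mem (eigW ρ w) _ (hmaps _)]
    split_ifs with h
    · rw [show (eigProj (zU ρ) (chW Q w) * M).restrict (fun v _ => hmaps (chW Q w) v) =
          c w • (1 : Module.End ℂ (eigW ρ w)) from LinearMap.ext fun v => Subtype.ext (by
            show eigProj (zU ρ) (chW Q w) (M v.1) = c w • v.1
            rw [hc w (Finset.ne_of_mem_erase hw) h v.1 v.2, map_smul, eigProj_of_mem _ v.2]),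
        map_smul, LinearMap.trace_one, smul_eq_mul]
    · rw [show (eigProj (zU ρ) (chW Q w) * M).restrict (fun v _ => hmaps (chW Q w) v) = 0 from
          LinearMap.ext fun v => Subtype.ext (eigProj_of_mem_other
            (fun e => h (chW_injective hQ e)) (hπ w v.1 v.2)),
        LinearMap.map_zero]

omit [Fintype F] [Fintype V] [FiniteDimensional ℂ U] [DecidableEq V] in
/-- the radical generates normally -/
theorem eq_one_of_zU {b : V} (hb : Q b ≠ 0) (h : ∀ a, zU ρ a = 1) (x : eichlerGroup Q) : ρ x = 1 := by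
  have hle : eichlerGens Q ⊆ {k | ∃ hk : k ∈ eichlerGroup Q, ρ ⟨k, hk⟩ = 1} := by
    rintro _ (⟨a, rfl⟩ | ⟨a, rfl⟩)
    · exact ⟨hypSiegel_mem_eichler Q a, h a⟩
    · refine ⟨hypSiegel'_mem_eichler Q a, ?_⟩
      set a0 := (-Q b)⁻¹ • (a - ((Q b)⁻¹ * polar Q b a) • b) with ha0
      have e : (-Q b) • (a0 - ((Q b)⁻¹ * polar Q b a0) • b) = a := by
        rw [ha0]
        simp only [polar_smul_right, polar_sub_right, polar_self, smul_eq_mul, nsmul_eq_mul, Nat.cast_ofNat]
        match_scalars <;> field_simp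
        ring
      have h1 := swapB_siegel hb a0
      rw [e] at h1
      have h2 : (⟨_, hypSiegel'_mem_eichler Q a⟩ : eichlerGroup Q) =
          ⟨_, swapB_mem b⟩ * ⟨_, hypSiegel_mem_eichler Q a0⟩ * (⟨_, swapB_mem b⟩ : eichlerGroup Q)⁻¹ :=
        Subtype.ext (eq_mul_inv_of_mul_eq h1.symm)
      rw [h2, map_mul, map_mul, show ρ ⟨_, hypSiegel_mem_eichler Q a0⟩ = 1 from h a0, mul_one, ← map_mul,
        mul_inv_cancel, map_one]
  obtain ⟨k, hk⟩ := x
  suffices ∃ hk : k ∈ eichlerGroup Q, ρ ⟨k, hk⟩ = 1 from this.2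
  induction hk using Subgroup.closure_induction with
  | mem k hk => exact hle hk
  | one => exact ⟨one_mem _, map_one ρ⟩
  | mul a b _ _ iha ihb =>
    obtain ⟨ha, ea⟩ := iha; obtain ⟨hb', eb⟩ := ihb
    refine ⟨mul_mem ha hb', ?_⟩
    rw [show (⟨a * b, mul_mem ha hb'⟩ : eichlerGroup Q) = ⟨a, ha⟩ * ⟨b, hb'⟩ from rfl, map_mul, ea, eb, mul_one]
  | inv a _ iha =>
    obtain ⟨ha, ea⟩ := iha
    refine ⟨inv_mem ha, ?_⟩
    have e := map_mul ρ (⟨a⁻¹, inv_mem ha⟩ : eichlerGroup Q) ⟨a, ha⟩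
    rw [ea, mul_one, show (⟨a⁻¹, inv_mem ha⟩ : eichlerGroup Q) * ⟨a, ha⟩ = 1 from Subtype.ext (inv_mul_cancel a),
      map_one] at e
    exact e.symm

theorem exists_eig_ne_bot (hQ : ∀ z, (∀ w, polar Q z w = 0) → z = 0) [Nontrivial V]
    {x : eichlerGroup Q} (hne : ρ x ≠ 1) : ∃ w, w ≠ 0 ∧ eigW ρ w ≠ ⊥ := by
  by_contra hcon
  push Not at hcon
  obtain ⟨b, hb⟩ := exists_nonsing hQ
  refine hne (eq_one_of_zU ρ hb (fun a => eq_one_of_forall_eq_bot (zU_zero ρ) (zU_add ρ) (fun ψ hψ => ?_) a) x)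
  obtain ⟨w, rfl⟩ := (chW_bijective hQ).2 ψ
  exact hcon w fun h => hψ (by rw [h, chW_zero])

end Cfsg.Agent.Lib.MinDegree.Orth
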