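import Mathlib
import Cfsg.Agent.Lib.MinDegree.Orth.Chars

/-!
The fixed space of the radical as a representation of `E(Q')`: it inherits smallness.
-/

set_option autoImplicit false

namespace Cfsg.Agent.Lib.MinDegree.Orth

open QuadraticMap Module Cfsg.Agent.Lib.Classical

variable {F : Type*} [Field F] {V : Type*} [AddCommGroup V] [Module F V] {Q : QuadraticForm F V}

theorem nondeg_hypExt (hQ : ∀ z, (∀ w, polar Q z w = 0) → z = 0) :
    ∀ z : F × F × V, (∀ w, polar (hypExt Q) z w = 0) → z = 0 := by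
  intro z hz
  have hx : z.1 = 0 := by simpa [polar_hypExt] using hz (0, 1, 0)
  have hy : z.2.1 = 0 := by simpa [polar_hypExt] using hz (1, 0, 0)
  have hw : z.2.2 = 0 := hQ _ fun w => by simpa [polar_hypExt] using hz (0, 0, w)
  exact Prod.ext hx (Prod.ext hy hw)

variable (Q) in
/-- `E(Q) → E(xy + Q)` -/
def indE : eichlerGroup Q →* eichlerGroup (hypExt Q) where
  toFun k := ⟨hypInd k.1, hypInd_mem_eichler k.2⟩
  map_one' := Subtype.ext hypInd_one
  map_mul' a b := Subtype.ext (hypInd_mul a.1 b.1)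

variable (Q) in
/-- the exchange of planes as an element -/
def planeE : eichlerGroup (hypExt Q) := ⟨planeSwap Q, planeSwap_mem⟩

variable (Q) in
/-- the radical as elements -/
abbrev radE (a : V) : eichlerGroup Q := ⟨hypSiegel Q a, hypSiegel_mem_eichler Q a⟩

theorem rep_injective {G : Type*} [Group G] {U : Type*} [AddCommGroup U] [Module ℂ U] (ρ : Representation ℂ G U)
    (x : G) : Function.Injective (ρ x) :=
  Function.LeftInverse.injective (g := ρ x⁻¹) fun u => by
    rw [← Module.End.mul_apply, ← map_mul, inv_mul_cancel, map_one, Module.End.one_apply]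

variable {U : Type*} [AddCommGroup U] [Module ℂ U] (ρ : Representation ℂ (eichlerGroup (hypExt Q)) U)

theorem plane_ind (c : V) :
    zU ρ (0, 0, c) * ρ (planeE Q) = ρ (planeE Q) * ρ (indE Q (radE Q c)) := by
  rw [zU, ← map_mul, ← map_mul]
  exact congrArg ρ (Subtype.ext (planeSwap_ind_siegel c).symm)

theorem plane_e (t : F) : zU ρ (t, 0, 0) * ρ (planeE Q) = ρ (planeE Q) * zU ρ (t, 0, 0) := by
  rw [zU, ← map_mul, ← map_mul]
  exact congrArg ρ (Subtype.ext (planeSwap_siegel_e t).symm)

theorem plane_mid (c : V) :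
    ρ (planeE Q) * zU ρ (0, 0, c) = ρ (indE Q (radE Q (-c))) * ρ (planeE Q) := by
  rw [zU, ← map_mul, ← map_mul]
  exact congrArg ρ (Subtype.ext (planeSwap_siegel_mid c))

variable [Fintype F] [Fintype V]

omit [Fintype V] in
theorem indE_lev (k : eichlerGroup Q) :
    indE Q k = ⟨lev 1 k.1, by rw [lev_one_left]; exact hypInd_mem_eichler k.2⟩ :=
  Subtype.ext (lev_one_left _).symm

omit [Fintype V] in
theorem ind_mem_eig (k : eichlerGroup Q) {w : F × F × V} {u : U} (hu : u ∈ eigW ρ w) :
    ρ (indE Q k) u ∈ eigW ρ (k.1 w) := by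
  have h := lev_mem_eig ρ (c := 1) (eichlerGroup_le Q k.2) (by rw [lev_one_left]; exact hypInd_mem_eichler k.2) hu
  rw [← indE_lev, Units.val_one, inv_one, one_smul] at h
  exact h

theorem ind_mem_fix (k : eichlerGroup Q) {u : U} (hu : u ∈ fixU ρ) : ρ (indE Q k) u ∈ fixU ρ := by
  rw [← eigW_zero] at hu ⊢
  have h := ind_mem_eig ρ k hu
  rwa [map_zero] at h

/-- `E(Q)` on the fixed space -/
noncomputable def descRep : Representation ℂ (eichlerGroup Q) (fixU ρ) where
  toFun k := (ρ (indE Q k)).restrict fun _ hu => ind_mem_fix ρ k hu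
  map_one' := LinearMap.ext fun u => Subtype.ext (by
    show ρ (indE Q 1) u.1 = u.1
    rw [map_one, map_one]; rfl)
  map_mul' a b := LinearMap.ext fun u => Subtype.ext (by
    show ρ (indE Q (a * b)) u.1 = ρ (indE Q a) (ρ (indE Q b) u.1)
    rw [map_mul, map_mul]; rfl)

theorem descRep_apply (k : eichlerGroup Q) (u : fixU ρ) : (descRep ρ k u).1 = ρ (indE Q k) u.1 := rfl

/-- the components of an exchanged eigenvector -/
theorem plane_component (hQ : ∀ z, (∀ w, polar Q z w = 0) → z = 0) {w : V} {u : U}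
    (he : ∀ t, zU ρ (t, 0, 0) u = u) (hw : ∀ c, ρ (indE Q (radE Q c)) u = chW Q w c • u) {w' : F × F × V}
    (h : projW ρ w' (ρ (planeE Q) u) ≠ 0) : w'.2.1 = 0 ∧ w'.2.2 = w := by
  constructor
  · refine psi0_eq_one_of_forall fun t => ?_
    have h1 := projW_scalar ρ w' (t, 0, 0) (u := ρ (planeE Q) u) (c := 1) (by
      rw [← Module.End.mul_apply, plane_e, Module.End.mul_apply, he, one_smul]) h
    simpa [polar_hypExt] using h1
  · refine chW_injective hQ (DFunLike.ext _ _ fun c => ?_)
    have h1 := projW_scalar ρ w' (0, 0, c) (u := ρ (planeE Q) u) (c := chW Q w c) (by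
      rw [← Module.End.mul_apply, plane_ind, Module.End.mul_apply, hw, map_smul]) h
    simpa [polar_hypExt, chW_apply] using h1

theorem Small.desc [FiniteDimensional ℂ U] (hQ : ∀ z, (∀ w, polar Q z w = 0) → z = 0) (hs : Small ρ) :
    Small (descRep ρ) := by
  classical
  have hQ' := nondeg_hypExt hQ
  have he : ∀ (u : fixU ρ) (t : F), zU ρ (t, 0, 0) u.1 = u.1 := fun u t => (mem_fixU ρ).1 u.2 _
  have hw : ∀ (w : V) (u : fixU ρ), u ∈ eigW (descRep ρ) w → ∀ c, ρ (indE Q (radE Q c)) u.1 = chW Q w c • u.1 :=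
    fun w u hu c => congrArg Subtype.val (hu c)
  constructor
  · intro w hw0
    rw [eq_bot_iff]
    intro u hu
    have hz : ∀ w', projW ρ w' (ρ (planeE Q) u.1) = 0 := fun w' => by
      by_contra h
      obtain ⟨h1, h2⟩ := plane_component ρ hQ (he u) (hw w u hu) h
      have hne : hypExt Q w' ≠ 0 := by rw [hypExt_apply, h1, h2, mul_zero, zero_add]; exact hw0
      have := projW_mem ρ w' (ρ (planeE Q) u.1)
      rw [hs.bot w' hne, Submodule.mem_bot] at this
      exact h this
    have h0 := sum_projW ρ hQ' (ρ (planeE Q) u.1)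
    rw [Finset.sum_eq_zero fun w' _ => hz w'] at h0
    rw [Submodule.mem_bot]
    refine Subtype.ext (rep_injective ρ (planeE Q) ?_)
    rw [← h0]
    exact (map_zero _).symm
  · intro w hw0
    let Φ : eigW (descRep ρ) w →ₗ[ℂ] eigW ρ ((0 : F), (0 : F), w) :=
      LinearMap.codRestrict _ ((projW ρ ((0 : F), (0 : F), w)).comp
        ((ρ (planeE Q)).comp ((fixU ρ).subtype.comp (eigW (descRep ρ) w).subtype))) fun u => projW_mem ρ _ _
    refine (LinearMap.finrank_le_finrank_of_injective (f := Φ) ?_).trans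
      (hs.le_one _ fun h => hw0 (congrArg (fun p : F × F × V => p.2.2) h))
    rw [← LinearMap.ker_eq_bot, LinearMap.ker_eq_bot']
    intro u hu
    have h00 : projW ρ ((0 : F), (0 : F), w) (ρ (planeE Q) u.1.1) = 0 := congrArg Subtype.val hu
    have hp : ∀ p : F, projW ρ (p, (0 : F), w) (ρ (planeE Q) u.1.1) = 0 := by
      intro p
      obtain ⟨d, hd⟩ : ∃ d, polar Q (-d) w = -p := by
        obtain ⟨x, hx⟩ : ∃ x, polar Q w x ≠ 0 := by
          by_contra hne; push Not at hne; exact hw0 (hQ w hne)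
        refine ⟨(p * (polar Q w x)⁻¹) • x, ?_⟩
        rw [← neg_smul, polar_smul_left, polar_comm (⇑Q) x w, smul_eq_mul]
        field_simp
      have hfix : ρ (indE Q (radE Q (-d))) (ρ (planeE Q) u.1.1) = ρ (planeE Q) u.1.1 := by
        rw [← Module.End.mul_apply, ← plane_mid, Module.End.mul_apply, (mem_fixU ρ).1 u.1.2]
      have hx : lev 1 (hypSiegel Q (-d)) ∈ eichlerGroup (hypExt Q) := by
        rw [lev_one_left]; exact hypInd_mem_eichler (hypSiegel_mem_eichler Q _)
      have h := projW_lev ρ (c := 1) (hypSiegel_mem Q (-d)) hx hQ' ((0 : F), (0 : F), w) (ρ (planeE Q) u.1.1)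
      rw [← indE_lev (radE Q (-d)), hfix, h00, map_zero, Units.val_one, inv_one, one_smul] at h
      rwa [show hypSiegel Q (-d) ((0 : F), (0 : F), w) = (p, (0 : F), w) by
        rw [hypSiegel_apply]; simp [hd]] at h
    have h0 := sum_projW ρ hQ' (ρ (planeE Q) u.1.1)
    rw [Finset.sum_eq_zero fun w' _ => ?_] at h0
    · exact Subtype.ext (Subtype.ext (rep_injective ρ (planeE Q) (by rw [← h0]; exact (map_zero _).symm)))
    · by_contra h
      obtain ⟨h1, h2⟩ := plane_component ρ hQ (he u.1) (hw w u.1 u.2) h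
      apply h
      rw [show w' = (w'.1, (0 : F), w) from Prod.ext rfl (Prod.ext h1 h2)]
      exact hp _

end Cfsg.Agent.Lib.MinDegree.Orth
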