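import Mathlib
import Cfsg.Agent.Lib.MinDegree.LinearClass
import Cfsg.Agent.Lib.MinDegree.Orth.Descent

/-!
Fixed vectors, moving parts and irreducible parts of representations.
-/

set_option autoImplicit false

namespace Cfsg.Agent.Lib.MinDegree.Orth

open Module Cfsg.Agent.Lib.Classical

section general

variable {G : Type*} [Group G]

/-- every non-trivial irreducible representation has degree at least `d` -/
def DegBound (G : Type*) [Group G] (d : ℕ) : Prop :=
  ∀ (k : ℕ) (σ : Representation ℂ G (Fin k → ℂ)), σ.IsIrreducible → (∃ x, σ x ≠ 1) → d ≤ k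

theorem DegBound.le_finrank [Finite G] {d : ℕ} (hd : DegBound G d) {U : Type} [AddCommGroup U] [Module ℂ U]
    [FiniteDimensional ℂ U] (ρ : Representation ℂ G U) {g : G} (hg : ρ g ≠ 1) : d ≤ finrank ℂ U := by
  obtain ⟨k, σ, h1, h2, h3⟩ := exists_irreducible_moving ρ hg
  exact (hd k σ h1 ⟨g, h3⟩).trans h2

variable {U : Type*} [AddCommGroup U] [Module ℂ U] (ρ : Representation ℂ G U)

/-- no non-zero vector is fixed by all -/
def NoFix : Prop := ∀ u, (∀ g, ρ g u = u) → u = 0

theorem noFix_of_irreducible [ρ.IsIrreducible] [FiniteDimensional ℂ U] {g : G} (hg : ρ g ≠ 1) : NoFix ρ := by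
  intro u hu
  by_contra hne
  let S : Subrepresentation ρ := ⟨Submodule.span ℂ {u}, fun x w hw => by
    obtain ⟨c, rfl⟩ := Submodule.mem_span_singleton.1 hw
    rw [map_smul, hu x]; exact hw⟩
  rcases (inferInstance : ρ.IsIrreducible).eq_bot_or_eq_top S with hb | ht
  · have : u ∈ S.toSubmodule := Submodule.mem_span_singleton_self u
    rw [hb] at this
    exact hne this
  · refine hg (LinearMap.ext fun v => ?_)
    have : v ∈ S.toSubmodule := by rw [ht]; trivial
    obtain ⟨c, rfl⟩ := Submodule.mem_span_singleton.1 this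
    rw [map_smul, hu g]; rfl

/-- an irreducible part -/
theorem exists_irreducible_sub [FiniteDimensional ℂ U] [Nontrivial U] :
    ∃ S : Subrepresentation ρ, S.toRepresentation.IsIrreducible := by
  have hex : ∃ d, ∃ S : Subrepresentation ρ, S.toSubmodule ≠ ⊥ ∧ finrank ℂ S.toSubmodule = d :=
    ⟨_, ⊤, top_ne_bot, rfl⟩
  classical
  obtain ⟨S, hS, hd⟩ := Nat.find_spec hex
  haveI : Nontrivial S.toSubmodule := Submodule.nontrivial_iff_ne_bot.2 hS
  haveI : Nontrivial (Subrepresentation S.toRepresentation) :=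
    ⟨⊥, ⊤, fun h => bot_ne_top (α := Submodule ℂ S.toSubmodule) (congrArg Subrepresentation.toSubmodule h)⟩
  refine ⟨S, ⟨fun T => ?_⟩⟩
  let T' : Subrepresentation ρ := ⟨T.toSubmodule.map S.toSubmodule.subtype, by
    rintro g _ ⟨w, hw, rfl⟩
    exact ⟨S.toRepresentation g w, T.apply_mem_toSubmodule g hw, rfl⟩⟩
  by_cases hT : T.toSubmodule = ⊥
  · exact Or.inl (Subrepresentation.toSubmodule_injective hT)
  · right
    have hT' : T'.toSubmodule ≠ ⊥ := fun h => hT (by
      rw [eq_bot_iff]
      intro w hw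
      have hw' : S.toSubmodule.subtype w ∈ T'.toSubmodule := ⟨w, hw, rfl⟩
      rw [h, Submodule.mem_bot] at hw'
      rw [Submodule.mem_bot]
      exact Subtype.ext hw')
    have hle : finrank ℂ S.toSubmodule ≤ finrank ℂ T'.toSubmodule := by
      rw [hd]; exact Nat.find_min' hex ⟨T', hT', rfl⟩
    rw [show finrank ℂ T'.toSubmodule = finrank ℂ T.toSubmodule from
      Submodule.finrank_map_subtype_eq _ _] at hle
    exact Subrepresentation.toSubmodule_injective
      (Submodule.eq_top_of_finrank_eq (le_antisymm (Submodule.finrank_le _) hle))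

variable [Fintype G]

/-- the projection to the fixed vectors -/
noncomputable def fixAvg : Module.End ℂ U := (Fintype.card G : ℂ)⁻¹ • ∑ g, ρ g

theorem fixAvg_fixed (g : G) (u : U) : ρ g (fixAvg ρ u) = fixAvg ρ u := by
  rw [fixAvg, LinearMap.smul_apply, map_smul, LinearMap.sum_apply, map_sum]
  refine congrArg _ (Fintype.sum_equiv (Equiv.mulLeft g) _ _ fun x => ?_)
  rw [← Module.End.mul_apply, ← map_mul]; rfl

theorem fixAvg_of_fixed {u : U} (hu : ∀ g, ρ g u = u) : fixAvg ρ u = u := by
  rw [fixAvg, LinearMap.smul_apply, LinearMap.sum_apply, Finset.sum_congr rfl fun g _ => hu g, Finset.sum_const,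
    Finset.card_univ, ← Nat.cast_smul_eq_nsmul ℂ, smul_smul, inv_mul_cancel₀ (Nat.cast_ne_zero.2 Fintype.card_ne_zero),
    one_smul]

theorem fixAvg_apply_rep (g : G) (u : U) : fixAvg ρ (ρ g u) = fixAvg ρ u := by
  rw [fixAvg, LinearMap.smul_apply, LinearMap.smul_apply, LinearMap.sum_apply, LinearMap.sum_apply]
  refine congrArg _ (Fintype.sum_equiv (Equiv.mulRight g) _ _ fun x => ?_)
  rw [← Module.End.mul_apply, ← map_mul]; rfl

theorem fixAvg_commute {M : Module.End ℂ U} (φ : G ≃ G) (h : ∀ g, M * ρ g = ρ (φ g) * M) (u : U) :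
    fixAvg ρ (M u) = M (fixAvg ρ u) := by
  rw [fixAvg, LinearMap.smul_apply, LinearMap.smul_apply, map_smul, LinearMap.sum_apply, LinearMap.sum_apply, map_sum]
  refine congrArg _ (Fintype.sum_equiv φ _ _ fun g => ?_).symm
  rw [← Module.End.mul_apply, h]; rfl

/-- the moving part -/
noncomputable def movingPart : Subrepresentation ρ :=
  ⟨LinearMap.ker (fixAvg ρ), fun g u hu => by
    rw [LinearMap.mem_ker] at hu ⊢
    rw [fixAvg_apply_rep, hu]⟩

theorem sub_fixAvg_mem (u : U) : u - fixAvg ρ u ∈ (movingPart ρ).toSubmodule := by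
  show _ ∈ LinearMap.ker _
  rw [LinearMap.mem_ker, map_sub, fixAvg_of_fixed ρ (fun g => fixAvg_fixed ρ g u), sub_self]

theorem noFix_movingPart : NoFix (movingPart ρ).toRepresentation := fun u hu => by
  refine Subtype.ext ?_
  have h := fixAvg_of_fixed ρ (u := u.1) fun g => congrArg Subtype.val (hu g)
  rw [LinearMap.mem_ker.1 u.2] at h
  exact h.symm

/-- moving and fixed vectors add up -/
theorem finrank_moving_add [FiniteDimensional ℂ U] {u : U} (hu : ∀ g, ρ g u = u) (hne : u ≠ 0) :
    finrank ℂ (movingPart ρ).toSubmodule + 1 ≤ finrank ℂ U := by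
  refine Submodule.finrank_lt fun h => hne ?_
  have : u ∈ (movingPart ρ).toSubmodule := by rw [h]; trivial
  rw [← fixAvg_of_fixed ρ hu]
  exact LinearMap.mem_ker.1 this

/-- a group moving the space moves the moving part -/
theorem moving_ne_one {g : G} (hg : ρ g ≠ 1) : (movingPart ρ).toRepresentation g ≠ 1 := by
  intro h
  refine hg (LinearMap.ext fun v => ?_)
  have h1 : ρ g (v - fixAvg ρ v) = v - fixAvg ρ v :=
    congrArg Subtype.val (LinearMap.congr_fun h ⟨_, sub_fixAvg_mem ρ v⟩)
  rw [map_sub, fixAvg_fixed, sub_left_inj] at h1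
  exact h1

end general

section small

open QuadraticMap

variable {F : Type*} [Field F] [Fintype F] {V : Type*} [AddCommGroup V] [Module F V] [Fintype V]
  {Q : QuadraticForm F V} {U U' : Type*} [AddCommGroup U] [Module ℂ U] [AddCommGroup U'] [Module ℂ U']
  [FiniteDimensional ℂ U] {ρ : Representation ℂ (eichlerGroup Q) U} {σ : Representation ℂ (eichlerGroup Q) U'}

/-- smallness descends to parts -/
theorem Small.of_injective (hs : Small ρ) {f : U' →ₗ[ℂ] U} (hf : Function.Injective f)
    (h : ∀ g u, f (σ g u) = ρ g (f u)) : Small σ := by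
  have hmaps : ∀ w, ∀ u ∈ eigW σ w, f u ∈ eigW ρ w := fun w u hu a => by
    rw [zU, ← h, ← map_smul]; exact congrArg f (hu a)
  constructor
  · intro w hw
    rw [eq_bot_iff]
    intro u hu
    have := hmaps w u hu
    rw [hs.bot w hw, Submodule.mem_bot] at this
    exact hf (this.trans (map_zero f).symm)
  · intro w hw
    exact (LinearMap.finrank_le_finrank_of_injective (f := f.restrict (hmaps w))
      fun a b e => Subtype.ext (hf (congrArg Subtype.val e))).trans (hs.le_one w hw)

theorem Small.sub (hs : Small ρ) (S : Subrepresentation ρ) : Small S.toRepresentation :=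
  hs.of_injective (f := S.toSubmodule.subtype) (Submodule.injective_subtype _) fun _ _ => rfl

end small

/-- Eichler groups of finite spaces are finite -/
theorem finite_eichler {F : Type*} [Field F] [Finite F] {V : Type*} [AddCommGroup V] [Module F V] [Finite V]
    (Q : QuadraticForm F V) : Finite (eichlerGroup Q) :=
  Finite.of_injective (fun k => (k.1 : F × F × V → F × F × V))
    fun _ _ h => Subtype.ext (DFunLike.coe_injective h)

end Cfsg.Agent.Lib.MinDegree.Orth
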