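import Mathlib
import Cfsg.Agent.Lib.MinDegree.Orth.Descent

/-!
Level counts of a hyperbolic extension and orbits of `E(Q)` on its vectors.
-/

set_option autoImplicit false

namespace Cfsg.Agent.Lib.MinDegree.Orth

open QuadraticMap Cfsg.Agent.Lib.Classical

variable {F : Type*} [Field F] {V : Type*} [AddCommGroup V] [Module F V] {Q : QuadraticForm F V}

/-- the number of vectors of value `c` -/
noncomputable def cnt (Q : QuadraticForm F V) (c : F) : ℕ := Nat.card {w : V // Q w = c}

theorem cnt_hypExt [Fintype F] [Finite V] (c : F) :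
    cnt (hypExt Q) c + Nat.card V = Nat.card F * Nat.card V + Nat.card F * cnt Q c := by
  classical
  have := Fintype.ofFinite V
  have e : {u : F × F × V // hypExt Q u = c} ≃ (Fˣ × V) ⊕ (F × {z : V // Q z = c}) :=
    { toFun := fun u => if h : u.1.1 = 0 then
          Sum.inr (u.1.2.1, ⟨u.1.2.2, by simpa [hypExt_apply, h] using u.2⟩)
        else Sum.inl (Units.mk0 u.1.1 h, u.1.2.2)
      invFun := fun s => match s with
        | Sum.inl (x, z) => ⟨((x : F), (x : F)⁻¹ * (c - Q z), z), by rw [hypExt_apply]; field_simp; ring⟩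
        | Sum.inr (y, z) => ⟨(0, y, z.1), by rw [hypExt_apply, z.2]; ring⟩
      left_inv := by
        rintro ⟨⟨x, y, z⟩, h⟩
        rw [hypExt_apply] at h
        by_cases hx : x = 0
        · subst hx; simp
        · simp only [dif_neg hx]
          apply Subtype.ext
          refine Prod.ext rfl (Prod.ext ?_ rfl)
          simp only [Units.val_mk0]
          field_simp
          linear_combination -h
      right_inv := by
        rintro (⟨x, z⟩ | ⟨y, z⟩) <;> simp }
  rw [cnt, cnt, Nat.card_congr e, Nat.card_sum, Nat.card_prod, Nat.card_prod, Nat.card_units]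
  have : 0 < Nat.card F := Nat.card_pos
  obtain ⟨q, hq⟩ := Nat.exists_eq_add_of_le this
  rw [hq]
  simp only [Nat.succ_eq_add_one, zero_add, add_tsub_cancel_left]
  ring

theorem cnt_pos [Finite V] : 1 ≤ cnt Q 0 :=
  (Nat.card_pos_iff.2 ⟨⟨⟨0, map_zero Q⟩⟩, Subtype.finite⟩ : 0 < cnt Q 0)

theorem card_space [Fintype F] [Finite V] :
    Nat.card (F × F × V) = Nat.card F ^ 2 * Nat.card V := by
  rw [Nat.card_prod, Nat.card_prod]; ring

/-- every non-zero vector is moved by `E(Q)` to one with non-zero first coordinate, then into the plane -/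
theorem exists_plane_form [Nontrivial V] (hQ : ∀ z, (∀ w, polar Q z w = 0) → z = 0) (v : F × F × V)
    (hv : v ≠ 0) : ∃ k ∈ eichlerGroup Q, ∃ x : F, x ≠ 0 ∧ k (x, hypExt Q v / x, 0) = v := by
  obtain ⟨k, hk, hx⟩ : ∃ k ∈ eichlerGroup Q, (k v).1 ≠ 0 := by
    by_cases hx : v.1 = 0
    · by_cases hy : v.2.1 = 0
      · have hz : v.2.2 ≠ 0 := fun h => hv (Prod.ext hx (Prod.ext hy h))
        obtain ⟨w, hw⟩ : ∃ w, polar Q v.2.2 w ≠ 0 := by
          by_contra hne; push Not at hne; exact hz (hQ _ hne)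
        refine ⟨hypSiegel Q w, hypSiegel_mem_eichler Q w, ?_⟩
        rw [hypSiegel_apply]
        simp only [hx, hy, mul_zero, sub_zero, zero_sub, neg_ne_zero]
        rwa [polar_comm]
      · obtain ⟨b, hb⟩ := exists_nonsing hQ
        exact ⟨swapB Q b, swapB_mem b, by rw [swapB_apply hb]; exact mul_ne_zero (neg_ne_zero.2 (inv_ne_zero hb)) hy⟩
    · exact ⟨1, one_mem _, hx⟩
  obtain ⟨w, hw⟩ := eichler_clear (Q := Q) (k v) hx
  have hc : hypExt Q (k v) = hypExt Q v := eichlerGroup_le Q hk v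
  rw [hc] at hw
  refine ⟨(hypSiegel' Q w * k)⁻¹, inv_mem (mul_mem (hypSiegel'_mem_eichler Q w) hk), (k v).1, hx, ?_⟩
  show (hypSiegel' Q w * k).symm _ = v
  rw [LinearEquiv.symm_apply_eq, LinearEquiv.mul_apply, hw]

end Cfsg.Agent.Lib.MinDegree.Orth
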