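import Mathlib
import Cfsg.Agent.Lib.MinDegree.Orth.Counting

/-!
A root element of the Levi complement and of the radical: the two traces force a non-trivial fixed part.
-/

set_option autoImplicit false

namespace Cfsg.Agent.Lib.MinDegree.Orth

open QuadraticMap Module Cfsg.Agent.Lib.Classical

variable {F : Type*} [Field F] [Fintype F] [DecidableEq F]

theorem sum_psi0 : ∑ t : F, psi0 F t = 0 := by
  refine AddChar.sum_eq_zero_of_ne_one fun h => ?_
  exact one_ne_zero (psi0_eq_one_of_forall (F := F) (r := 1) fun t => by rw [h, AddChar.one_apply])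

/-- the sum over a level of the character of the second coordinate -/
theorem sum_level {V : Type*} [AddCommGroup V] [Module F V] [Fintype V] [DecidableEq V] (Q : QuadraticForm F V) (c : F) :
    ∑ w ∈ Finset.univ.filter (fun w : F × F × V => hypExt Q w = c), psi0 F w.2.1
      = (Fintype.card F : ℂ) * cnt Q c - Fintype.card V := by
  have inner : ∀ y : F, y ≠ 0 → ∀ v : V, (∑ x : F, if x * y + Q v = c then psi0 F y else 0) = psi0 F y := by
    intro y hy v
    rw [Finset.sum_eq_single ((c - Q v) / y)]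
    · rw [if_pos]; field_simp; ring
    · intro x _ hx
      rw [if_neg]
      intro h
      exact hx (by rw [eq_div_iff hy]; linear_combination h)
    · exact fun h => absurd (Finset.mem_univ _) h
  rw [show Finset.univ.filter (fun w : F × F × V => hypExt Q w = c) =
      Finset.univ.filter (fun w : F × F × V => w.1 * w.2.1 + Q w.2.2 = c) from
    Finset.filter_congr fun w _ => by rw [hypExt_apply], Finset.sum_filter]
  simp only [Fintype.sum_prod_type]
  rw [Finset.sum_comm, ← Finset.add_sum_erase _ _ (Finset.mem_univ (0 : F))]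
  have h1 : ∀ y ∈ Finset.univ.erase (0 : F), (∑ x : F, ∑ v : V, if x * y + Q v = c then psi0 F y else 0) =
      (Fintype.card V : ℂ) * psi0 F y := fun y hy => by
    rw [Finset.sum_comm, Finset.sum_congr rfl fun v _ => inner y (Finset.ne_of_mem_erase hy) v, Finset.sum_const,
      Finset.card_univ, nsmul_eq_mul]
  rw [Finset.sum_congr rfl h1, ← Finset.mul_sum, Finset.sum_erase_eq_sub (Finset.mem_univ _), sum_psi0]
  simp only [mul_zero, zero_add, AddChar.map_zero_eq_one]
  rw [← Finset.sum_filter, Finset.sum_const, Finset.sum_const, cnt, Nat.card_eq_fintype_card, Fintype.card_subtype,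
    Finset.card_univ]
  simp only [nsmul_eq_mul, mul_one]
  ring

variable {W : Type*} [AddCommGroup W] [Module F W] [Fintype W] [DecidableEq W] {P : QuadraticForm F W}
  {U : Type*} [AddCommGroup U] [Module ℂ U]
  (ρ : Representation ℂ (eichlerGroup (hypExt (hypExt P))) U)

omit [Fintype F] [DecidableEq F] in
theorem trace_conj_eq {G : Type*} [Group G] {U : Type*} [AddCommGroup U] [Module ℂ U] (ρ : Representation ℂ G U)
    {g x y : G} (h : g * x = y * g) : LinearMap.trace ℂ U (ρ x) = LinearMap.trace ℂ U (ρ y) := by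
  have e : y = g * x * g⁻¹ := by rw [h, mul_inv_cancel_right]
  rw [e, map_mul, LinearMap.trace_mul_comm, ← map_mul]
  congr 2
  group

/-- the root element of the Levi complement -/
abbrev tauE (P : QuadraticForm F W) : eichlerGroup (hypExt P) := radE (hypExt P) (1, 0, 0)

omit [Fintype F] [DecidableEq F] [Fintype W] [DecidableEq W] in
theorem trace_tau :
    LinearMap.trace ℂ U (ρ (indE (hypExt P) (tauE P))) = LinearMap.trace ℂ U (zU ρ (1, 0, 0)) := by
  set k : eichlerGroup (hypExt P) := (planeE P)⁻¹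
  have hk : k.1 (1, 0, 0) = (0, 0, (1, 0, 0)) := by
    show (planeSwap P).symm _ = _
    rw [LinearEquiv.symm_apply_eq, planeSwap_apply]
    simp [Prod.ext_iff]
  rw [trace_conj_eq ρ (g := planeE (hypExt P)) (x := indE (hypExt P) (tauE P))
    (y := radE (hypExt (hypExt P)) (0, 0, (1, 0, 0))) (Subtype.ext (planeSwap_ind_siegel _))]
  refine (trace_conj_eq ρ (g := indE (hypExt P) k) (x := radE (hypExt (hypExt P)) (1, 0, 0)) (Subtype.ext ?_)).symm
  show hypInd k.1 * hypSiegel _ (1, 0, 0) = hypSiegel _ (0, 0, (1, 0, 0)) * hypInd k.1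
  rw [ind_siegel (eichlerGroup_le _ k.2), hk]

/-- what is needed of the innermost vectors of value `c` -/
def PhaseOK (P : QuadraticForm F W) (c : F) : Prop :=
  ∀ v0, P v0 = c → (∃ d c0, polar P d v0 = 0 ∧ polar P c0 v0 = 0 ∧ polar P d c0 = -1) ∨ (v0 ≠ 0 ∧ 3 < Fintype.card F)

variable [FiniteDimensional ℂ U]

omit [DecidableEq F] [DecidableEq W] in
theorem tau_phase (hP : ∀ z, (∀ w, polar P z w = 0) → z = 0) {c : F} (hc : PhaseOK P c)
    {w : F × F × (F × F × W)} (hw : hypExt (hypExt P) w = c)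
    (hy : w.2.1 = 0) (hr : w.2.2.2.1 = 0) (h1 : finrank ℂ (eigW ρ w) = 1) {u : U} (hu : u ∈ eigW ρ w) :
    ρ (indE (hypExt P) (tauE P)) u = u := by
  classical
  obtain ⟨x, y, p, r, v0⟩ := w
  simp only at hy hr
  subst hy hr
  have hv0 : P v0 = c := by simpa [hypExt_apply] using hw
  have scal : ∀ K : eichlerGroup (hypExt P), K.1 ((x, 0, (p, 0, v0))) = (x, 0, (p, 0, v0)) →
      ∃ s : ℂ, ∀ u ∈ eigW ρ (x, 0, (p, 0, v0)), ρ (indE _ K) u = s • u := by
    intro K hK
    obtain ⟨b, hb0, hb⟩ := finrank_eq_one_iff'.1 h1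
    obtain ⟨s, hs⟩ := hb ⟨_, show ρ (indE _ K) b.1 ∈ eigW ρ (x, 0, (p, 0, v0)) by
      have := ind_mem_eig ρ K b.2; rwa [hK] at this⟩
    refine ⟨s, fun u hu => ?_⟩
    obtain ⟨t, ht⟩ := hb ⟨u, hu⟩
    have ht' : t • b.1 = u := congrArg Subtype.val ht
    rw [← ht', map_smul, show ρ (indE _ K) b.1 = s • b.1 from (congrArg Subtype.val hs).symm, smul_comm]
  have key : ∀ (g : (F × F × W) ≃ₗ[F] (F × F × W)) (hg : g ∈ eichlerGroup P) (e : F × F × W),
      g (p, 0, v0) = (p, 0, v0) → e.2.1 = 0 → polar P e.2.2 v0 = 0 → g e = e + (1, 0, 0) →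
      ρ (indE (hypExt P) (tauE P)) u = u := by
    intro g hg e hgv he1 he2 hge
    set K : eichlerGroup (hypExt P) := indE P ⟨g, hg⟩
    set H : eichlerGroup (hypExt P) := radE (hypExt P) e
    have hK : K.1 (x, 0, (p, 0, v0)) = (x, 0, (p, 0, v0)) := by
      show hypInd g _ = _
      rw [hypInd_apply, hgv]
    have hH : H.1 (x, 0, (p, 0, v0)) = (x, 0, (p, 0, v0)) := by
      show hypSiegel (hypExt P) e _ = _
      rw [hypSiegel_apply]
      simp [polar_hypExt, he1, he2]
    have hcomm : tauE P * H * K = K * H := by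
      refine Subtype.ext ?_
      show hypSiegel (hypExt P) (1, 0, 0) * hypSiegel (hypExt P) e * hypInd g = hypInd g * hypSiegel (hypExt P) e
      rw [ind_siegel (eichlerGroup_le _ hg), hge, hypSiegel_add, add_comm]
    obtain ⟨s, hs⟩ := scal K hK
    obtain ⟨t, ht⟩ := scal H hH
    by_cases hu0 : u = 0
    · rw [hu0, map_zero]
    have hs0 : s ≠ 0 := fun h0 => hu0 (rep_injective ρ (indE _ K) (by rw [hs u hu, h0, zero_smul, map_zero]))
    have ht0 : t ≠ 0 := fun h0 => hu0 (rep_injective ρ (indE _ H) (by rw [ht u hu, h0, zero_smul, map_zero]))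
    have e1 := congrArg (fun L => ρ (indE (hypExt P) L) u) hcomm
    simp only [map_mul, Module.End.mul_apply, hs u hu, ht u hu, map_smul, smul_smul] at e1
    refine smul_right_injective U (mul_ne_zero hs0 ht0) (e1.trans ?_)
    show (t * s) • u = (s * t) • u
    rw [mul_comm]
  rcases hc v0 hv0 with ⟨d, c0, hd, hc0, hdc⟩ | ⟨hv, hq⟩
  · refine key (hypSiegel P d) (hypSiegel_mem_eichler P d) (0, 0, c0) ?_ rfl hc0 ?_
    · rw [hypSiegel_apply]; simp [hd]
    · rw [hypSiegel_apply]; simp [hdc]
  · obtain ⟨l, hl⟩ : ∃ l : Fˣ, ((l * l : Fˣ) : F) ≠ 1 := by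
      by_contra hcon
      push Not at hcon
      have hsub : (Finset.univ : Finset F) ⊆ {0, 1, -1} := fun a _ => by
        by_cases ha : a = 0
        · simp [ha]
        · have := hcon (Units.mk0 a ha)
          rw [Units.val_mul, Units.val_mk0, mul_self_eq_one_iff] at this
          simp [this]
      have := (Finset.card_le_card hsub).trans Finset.card_le_three
      rw [Finset.card_univ] at this
      omega
    haveI : Nontrivial W := ⟨⟨v0, 0, hv⟩⟩
    obtain ⟨b, hb⟩ := exists_nonsing hP
    set L : Fˣ := l * l with hL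
    have hL1 : (L : F) - 1 ≠ 0 := sub_ne_zero.2 hl
    obtain ⟨d, hd⟩ : ∃ d, (L : F) * (p - polar P d v0) = p := by
      obtain ⟨z, hz⟩ : ∃ z, polar P v0 z ≠ 0 := by
        by_contra hne; push Not at hne; exact hv (hP _ hne)
      refine ⟨((p - p / L) / polar P v0 z) • z, ?_⟩
      rw [polar_smul_left, polar_comm (⇑P) z v0, smul_eq_mul]
      field_simp
      ring
    refine key (hypScale L * hypSiegel P d)
      (mul_mem (scale_sq_mem_of_nonsing hb l) (hypSiegel_mem_eichler P d)) (((L : F) - 1)⁻¹, 0, 0) ?_ rfl ?_ ?_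
    · rw [LinearEquiv.mul_apply, hypSiegel_apply, hypScale_apply]
      simp [hd]
    · simp
    · rw [LinearEquiv.mul_apply, hypSiegel_apply, hypScale_apply]
      refine Prod.ext ?_ (Prod.ext ?_ ?_)
      · simp only [polar_zero_right, mul_zero, sub_zero, Prod.fst_add]
        field_simp
        ring
      · simp
      · simp

set_option maxHeartbeats 400000 in
/-- the trace identity -/
theorem fixed_trace_deficit (hP : ∀ z, (∀ w, polar P z w = 0) → z = 0) {c : F}
    (h1 : ∀ w, w ≠ 0 → hypExt (hypExt P) w = c → finrank ℂ (eigW ρ w) = 1)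
    (h0 : ∀ w, w ≠ 0 → hypExt (hypExt P) w ≠ c → eigW ρ w = ⊥) (hc : PhaseOK P c) :
    LinearMap.trace ℂ _ (descRep ρ (tauE P)) + (Fintype.card F * Fintype.card W : ℕ)
      = (finrank ℂ (fixU ρ) : ℂ) := by
  classical
  have hQ := nondeg_hypExt (nondeg_hypExt hP)
  -- first evaluation
  set S1 := Finset.univ.filter (fun w : F × F × (F × F × W) => hypExt (hypExt P) w = c) with hS1
  have hz : ∀ (a b : F × F × (F × F × W)), zU ρ b * zU ρ a = zU ρ a * zU ρ b := fun a b => by
    rw [← zU_add, ← zU_add, add_comm]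
  have hdim : ∀ w ∈ Finset.univ.erase (0 : F × F × (F × F × W)),
      (finrank ℂ (eigW ρ w) : ℂ) = if hypExt (hypExt P) w = c then 1 else 0 := fun w hw => by
    split_ifs with h
    · rw [h1 w (Finset.ne_of_mem_erase hw) h, Nat.cast_one]
    · rw [h0 w (Finset.ne_of_mem_erase hw) h, finrank_bot, Nat.cast_zero]
  have hA := trace_monomial ρ hQ (M := zU ρ (1, 0, 0)) (π := id)
    (fun w u hu => apply_mem_eigSpace (fun a => hz _ a) hu) (fun u hu => apply_mem_eigSpace (fun a => hz _ a) hu)
    (c := fun w => chW _ w (1, 0, 0)) (fun w _ _ u hu => hu _)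
  rw [show (zU ρ ((1 : F), (0 : F), (0 : F × F × W))).restrict
      (fun u hu => apply_mem_eigSpace (fun a => hz _ a) hu) = (1 : Module.End ℂ (fixU ρ)) from
    LinearMap.ext fun v => Subtype.ext ((mem_fixU ρ).1 v.2 _), LinearMap.trace_one] at hA
  -- second evaluation
  set M := ρ (indE (hypExt P) (tauE P)) with hM
  set π : F × F × (F × F × W) → F × F × (F × F × W) := fun w => (tauE P).1 w with hπ
  have hfix : ∀ w, π w = w ↔ w.2.1 = 0 ∧ w.2.2.2.1 = 0 := by
    intro w
    obtain ⟨x, y, p, r, v0⟩ := w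
    show hypSiegel (hypExt P) _ _ = _ ↔ _
    rw [hypSiegel_apply]
    simp [polar_hypExt, hypExt_apply, Prod.ext_iff, and_comm]
  have hB := trace_monomial ρ hQ (M := M) (π := π) (fun w u hu => ind_mem_eig ρ (tauE P) hu)
    (fun u hu => ind_mem_fix ρ (tauE P) hu) (c := fun _ => 1) (fun w hw0 hw u hu => by
      rw [one_smul]
      by_cases hcw : hypExt (hypExt P) w = c
      · exact tau_phase ρ hP hc hcw ((hfix w).1 hw).1 ((hfix w).1 hw).2 (h1 w hw0 hcw) hu
      · rw [h0 w hw0 hcw, Submodule.mem_bot] at hu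
        rw [hu, map_zero])
  rw [show M.restrict (fun u hu => ind_mem_fix ρ (tauE P) hu) = descRep ρ (tauE P) from rfl] at hB
  rw [trace_tau, hA] at hB
  set e := fun w : F × F × (F × F × W) => (if hypExt (hypExt P) w = c then (1 : ℂ) else 0) with he
  have sA : (∑ w ∈ Finset.univ.erase (0 : F × F × (F × F × W)),
      if id w = w then chW (hypExt (hypExt P)) w (1, 0, 0) * (finrank ℂ (eigW ρ w) : ℂ) else 0)
      = (Fintype.card F : ℂ) * cnt (hypExt P) c - Fintype.card (F × F × W) - e 0 := by
    rw [← sum_level (hypExt P) c, Finset.sum_filter]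
    rw [Finset.sum_congr rfl fun w hw => show (if id w = w then chW (hypExt (hypExt P)) w (1, 0, 0) *
        (finrank ℂ (eigW ρ w) : ℂ) else 0) = if hypExt (hypExt P) w = c then psi0 F w.2.1 else 0 by
      rw [if_pos (show id w = w from rfl), hdim w hw, chW_apply]
      simp [polar_hypExt], Finset.sum_erase_eq_sub (Finset.mem_univ _)]
    congr 1
    simp [he, AddChar.map_zero_eq_one]
  have sB : (∑ w ∈ Finset.univ.erase (0 : F × F × (F × F × W)),
      if π w = w then (1 : ℂ) * (finrank ℂ (eigW ρ w) : ℂ) else 0)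
      = (Fintype.card F : ℂ) * Fintype.card F * cnt P c - e 0 := by
    rw [Finset.sum_congr rfl fun w hw => show (if π w = w then (1 : ℂ) * (finrank ℂ (eigW ρ w) : ℂ) else 0) =
        if hypExt (hypExt P) w = c ∧ π w = w then (1 : ℂ) else 0 by
      rw [one_mul, hdim w hw]
      by_cases hA' : π w = w <;> by_cases hB' : hypExt (hypExt P) w = c <;>
        simp only [hA', hB', if_true, if_false, and_true, and_false, true_and, false_and],
      Finset.sum_erase_eq_sub (Finset.mem_univ _)]
    congr 1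
    · rw [← Finset.sum_filter, Finset.sum_const, nsmul_eq_mul, mul_one]
      have e : {w : F × F × (F × F × W) // hypExt (hypExt P) w = c ∧ π w = w} ≃ F × F × {v : W // P v = c} :=
        { toFun := fun w => (w.1.1, w.1.2.2.1, ⟨w.1.2.2.2.2, by
            have h := w.2.1
            rw [hypExt_apply, hypExt_apply, ((hfix w.1).1 w.2.2).1, ((hfix w.1).1 w.2.2).2] at h
            simpa using h⟩)
          invFun := fun s => ⟨(s.1, 0, (s.2.1, 0, s.2.2.1)), by simp [hypExt_apply, s.2.2.2], (hfix _).2 ⟨rfl, rfl⟩⟩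
          left_inv := fun w => by
            have h := (hfix w.1).1 w.2.2
            exact Subtype.ext (Prod.ext rfl (Prod.ext h.1.symm (Prod.ext rfl (Prod.ext h.2.symm rfl))))
          right_inv := fun _ => rfl }
      rw [← Fintype.card_subtype, Fintype.card_congr e, Fintype.card_prod, Fintype.card_prod, cnt,
        Nat.card_eq_fintype_card]
      push_cast
      ring
    · show (if hypExt (hypExt P) 0 = c ∧ π 0 = 0 then (1 : ℂ) else 0) = if hypExt (hypExt P) 0 = c then (1 : ℂ) else 0
      simp only [(hfix 0).2 ⟨rfl, rfl⟩, and_true]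
  rw [sA, sB] at hB
  have hrec := congrArg (fun n : ℕ => (n : ℂ)) (cnt_hypExt (Q := P) c)
  push_cast [Nat.card_eq_fintype_card] at hrec
  rw [Fintype.card_prod, Fintype.card_prod] at hB
  push_cast at hB ⊢
  linear_combination -hB + (Fintype.card F : ℂ) * hrec

end Cfsg.Agent.Lib.MinDegree.Orth
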