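import Mathlib
import Cfsg.Agent.Lib.MinDegree.Orth.Trace

/-!
Orbits on the characters of the radical; counting bounds.
-/

set_option autoImplicit false

namespace Cfsg.Agent.Lib.MinDegree.Orth

open QuadraticMap Module Cfsg.Agent.Lib.Classical

variable {F : Type*} [Field F] {W : Type*} [AddCommGroup W] [Module F W] {P : QuadraticForm F W}

theorem plane_scale (c : Fˣ) :
    planeSwap P * hypScale c = hypInd (hypScale c : (F × F × W) ≃ₗ[F] _) * planeSwap P := by
  apply LinearEquiv.ext
  intro p
  simp [LinearEquiv.mul_apply, planeSwap_apply, hypScale_apply, hypInd_apply]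

/-- `c` on the first and the third plane -/
theorem lev_outer_mem (c : Fˣ) :
    lev c (hypInd (hypScale c : (F × F × W) ≃ₗ[F] _)) ∈ eichlerGroup (hypExt (hypExt P)) := by
  have hs : planeSwap P ∈ isoGroup (hypExt (hypExt P)) := eichlerGroup_le _ planeSwap_mem
  have h := ind_normalises hs (lev_scale_mem (P := hypExt P) c)
  have e : hypInd (planeSwap P) * lev c (hypScale c : (F × F × (F × F × W)) ≃ₗ[F] _)
      = lev c (hypInd (hypScale c : (F × F × W) ≃ₗ[F] _)) * hypInd (planeSwap P) := by
    rw [← lev_one_left, lev_mul, lev_mul, one_mul, mul_one, plane_scale]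
  rwa [e, mul_inv_cancel_right] at h

theorem exists_sq_ne_one [Fintype F] (hq : 3 < Fintype.card F) : ∃ l : Fˣ, ((l * l : Fˣ) : F) ≠ 1 := by
  classical
  by_contra hcon
  push Not at hcon
  have hsub : (Finset.univ : Finset F) ⊆ {0, 1, -1} := fun a _ => by
    by_cases ha : a = 0
    · simp [ha]
    · have := hcon (Units.mk0 a ha)
      rw [Units.val_mul, Units.val_mk0, mul_self_eq_one_iff] at this
      simp [this]
  have := (Finset.card_le_card hsub).trans Finset.card_le_three
  rw [Finset.card_univ] at this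
  omega

variable [Fintype F] [DecidableEq F] {U : Type*} [AddCommGroup U] [Module ℂ U] [FiniteDimensional ℂ U]

section one

variable [Fintype W] [DecidableEq W] (ρ : Representation ℂ (eichlerGroup (hypExt P)) U)

omit [DecidableEq F] [DecidableEq W] in
theorem finrank_eig_ind (k : eichlerGroup P) (w : F × F × W) :
    finrank ℂ (eigW ρ (k.1 w)) = finrank ℂ (eigW ρ w) := by
  have h := finrank_eig_lev ρ (c := 1) (eichlerGroup_le P k.2)
    (by rw [lev_one_left]; exact hypInd_mem_eichler k.2) w
  rwa [Units.val_one, inv_one, one_smul] at h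

omit [DecidableEq F] [DecidableEq W] in
theorem finrank_eig_sing {e f : W} (h : IsotropicNondeg P e f) {w : F × F × W} (hw : w ≠ 0)
    (hs : hypExt P w = 0) : finrank ℂ (eigW ρ w) = finrank ℂ (eigW ρ ((1 : F), (0 : F), (0 : W))) := by
  obtain ⟨k, hk, hkw⟩ := eichler_move_singular h w hw hs
  rw [← hkw]
  exact finrank_eig_ind ρ ⟨k, hk⟩ _

omit [DecidableEq F] [DecidableEq W] in
theorem finrank_eig_level {e f : W} (h : IsotropicNondeg P e f) {w : F × F × W} (hw : w ≠ 0) :
    finrank ℂ (eigW ρ w) = finrank ℂ (eigW ρ ((1 : F), hypExt P w, (0 : W))) := by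
  obtain ⟨k, hk, hkw⟩ := eichler_move h w hw
  conv_lhs => rw [← hkw]
  exact finrank_eig_ind ρ ⟨k, hk⟩ _

omit [DecidableEq F] [DecidableEq W] in
/-- levels differing by a square have equal multiplicity -/
theorem finrank_eig_sq {e f : W} (h : IsotropicNondeg P e f) {c : F} (hc : c ≠ 0) (l : Fˣ) :
    finrank ℂ (eigW ρ ((1 : F), c / (l * l : Fˣ), (0 : W))) = finrank ℂ (eigW ρ ((1 : F), c, (0 : W))) := by
  have h1 := finrank_eig_lev ρ (c := l) (g := hypScale l⁻¹) (hypScale_mem P _) (lev_scale_inv_mem l)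
    ((1 : F), c, (0 : W))
  rw [← h1, finrank_eig_level ρ h (w := (l : F)⁻¹ • (hypScale l⁻¹ : (F × F × W) ≃ₗ[F] _) ((1 : F), c, (0 : W))) ?_]
  · rw [show hypExt P ((l : F)⁻¹ • (hypScale l⁻¹ : (F × F × W) ≃ₗ[F] _) ((1 : F), c, (0 : W))) = c / (l * l : Fˣ) by
      simp only [hypScale_apply, hypExt_apply, Prod.smul_mk, smul_eq_mul, smul_zero, map_zero, add_zero,
        Units.val_inv_eq_inv_val, inv_inv, Units.val_mul, mul_one]
      field_simp]
  · intro h0
    have := congrArg Prod.fst h0
    simp [hypScale_apply] at this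

omit [DecidableEq F] in
/-- the eigenspaces of a set of characters fit into the space -/
theorem sum_le_finrank (hP : ∀ z, (∀ w, polar P z w = 0) → z = 0) (S : Finset (F × F × W)) (hS : (0 : F × F × W) ∉ S) :
    finrank ℂ (fixU ρ) + ∑ w ∈ S, finrank ℂ (eigW ρ w) ≤ finrank ℂ U := by
  classical
  rw [finrank_eq_sum ρ (nondeg_hypExt hP)]
  refine Nat.add_le_add_left (Finset.sum_le_sum_of_subset fun w hw => Finset.mem_erase.2 ⟨?_, Finset.mem_univ _⟩) _
  rintro rfl
  exact hS hw

omit [DecidableEq W] [FiniteDimensional ℂ U] in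
theorem card_level (c : F) :
    (Finset.univ.filter fun w : F × F × W => hypExt P w = c).card = cnt (hypExt P) c := by
  rw [cnt, Nat.card_eq_fintype_card, Fintype.card_subtype]

/-- if all multiplicities on a set are equal, their total -/
theorem finrank_of_level (hP : ∀ z, (∀ w, polar P z w = 0) → z = 0) (c : F)
    (h1 : ∀ w, w ≠ 0 → hypExt P w = c → finrank ℂ (eigW ρ w) = 1)
    (h0 : ∀ w, w ≠ 0 → hypExt P w ≠ c → eigW ρ w = ⊥) :
    finrank ℂ U + (if (0 : F) = c then 1 else 0) = finrank ℂ (fixU ρ) + cnt (hypExt P) c := by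
  rw [finrank_eq_sum ρ (nondeg_hypExt hP), add_assoc, ← card_level c]
  congr 1
  rw [Finset.sum_congr rfl fun w hw => show finrank ℂ (eigW ρ w) = if hypExt P w = c then 1 else 0 by
    split_ifs with h
    · exact h1 w (Finset.ne_of_mem_erase hw) h
    · rw [h0 w (Finset.ne_of_mem_erase hw) h, finrank_bot], Finset.card_filter,
    ← Finset.add_sum_erase _ _ (Finset.mem_univ (0 : F × F × W)), map_zero, add_comm]

end one

section two

variable [Fintype W] (ρ : Representation ℂ (eichlerGroup (hypExt (hypExt P))) U)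

omit [DecidableEq F] in
/-- an element scaling the first plane transports eigenspaces of the fixed space -/
theorem finrank_desc_outer {c : Fˣ} {g : (F × F × W) ≃ₗ[F] (F × F × W)} (hg : g ∈ isoGroup (hypExt P))
    (hx : lev c (hypInd g) ∈ eichlerGroup (hypExt (hypExt P))) (w : F × F × W) :
    finrank ℂ (eigW (descRep ρ) w) ≤ finrank ℂ (eigW (descRep ρ) (g w)) := by
  set X : eichlerGroup (hypExt (hypExt P)) := ⟨_, hx⟩
  have hfix : ∀ u ∈ fixU ρ, ρ X u ∈ fixU ρ := fun u hu => by
    rw [← eigW_zero] at hu ⊢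
    have := lev_mem_eig ρ (hypInd_mem hg) hx hu
    rwa [map_zero, smul_zero] at this
  have hconj : ∀ a, ρ (indE (hypExt P) (radE (hypExt P) a)) * ρ X
      = ρ X * ρ (indE (hypExt P) (radE (hypExt P) (g.symm a))) := fun a => by
    rw [← map_mul, ← map_mul]
    refine congrArg ρ (Subtype.ext ?_)
    show hypInd (hypSiegel (hypExt P) a) * lev c (hypInd g) = lev c (hypInd g) * hypInd (hypSiegel (hypExt P) (g.symm a))
    rw [← lev_one_left, ← lev_one_left (hypSiegel (hypExt P) (g.symm a)), lev_mul, lev_mul, one_mul, mul_one,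
      ind_siegel hg, g.apply_symm_apply]
  have hmaps : ∀ u ∈ eigW (descRep ρ) w, ((ρ X).restrict hfix) u ∈ eigW (descRep ρ) (g w) := fun u hu a => by
    refine Subtype.ext ?_
    show ρ (indE _ (radE _ a)) (ρ X u.1) = _ • ρ X u.1
    rw [← Module.End.mul_apply, hconj, Module.End.mul_apply,
      show ρ (indE _ (radE _ (g.symm a))) u.1 = chW (hypExt P) w (g.symm a) • u.1 from congrArg Subtype.val (hu _),
      map_smul, chW_apply, chW_apply]
    congr 2
    conv_rhs => rw [← g.apply_symm_apply a, isometry_polar hg]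
  exact LinearMap.finrank_le_finrank_of_injective (f := LinearMap.restrict _ hmaps)
    fun a b h => Subtype.ext (Subtype.ext (rep_injective ρ X (congrArg (fun u => u.1.1) h)))

end two

end Cfsg.Agent.Lib.MinDegree.Orth
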