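import Mathlib
import Cfsg.Agent.Lib.MinDegree.Orth.Orbits
import Cfsg.Agent.Lib.MinDegree.Orth.Moving

/-!
Below the threshold only singular characters occur, each once; the fixed space is then moved by the complement.
-/

set_option autoImplicit false

namespace Cfsg.Agent.Lib.MinDegree.Orth

open QuadraticMap Module Cfsg.Agent.Lib.Classical

variable {F : Type*} [Field F] [Fintype F]

theorem iso_hypExt {W : Type*} [AddCommGroup W] [Module F W] {P : QuadraticForm F W}
    (hP : ∀ z, (∀ w, polar P z w = 0) → z = 0) : IsotropicNondeg (hypExt P) (1, 0, 0) (0, 1, 0) :=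
  ⟨nondeg_hypExt hP, by simp [hypExt_apply], by simp [hypExt_apply], by simp [polar_hypExt]⟩

/-- levels of a plane extension are large -/
theorem le_cnt_hypExt {W : Type*} [AddCommGroup W] [Module F W] [Fintype W] (P : QuadraticForm F W) (c : F) :
    (Fintype.card F - 1) * Fintype.card W + Fintype.card F * cnt P c = cnt (hypExt P) c := by
  have h := cnt_hypExt (Q := P) c
  rw [Nat.card_eq_fintype_card, Nat.card_eq_fintype_card] at h
  obtain ⟨q, hq⟩ := Nat.exists_eq_add_of_le (Fintype.card_pos (α := F))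
  rw [hq] at h ⊢
  simp only [Nat.succ_eq_add_one, zero_add, add_tsub_cancel_left, add_mul, one_mul] at h ⊢
  omega

section one

variable {W : Type*} [AddCommGroup W] [Module F W] [Fintype W] {P : QuadraticForm F W}
  {U : Type*} [AddCommGroup U] [Module ℂ U] [FiniteDimensional ℂ U]
  (ρ : Representation ℂ (eichlerGroup (hypExt P)) U)

/-- the multiplicity of a level -/
noncomputable def mult (c : F) : ℕ := finrank ℂ (eigW ρ ((1 : F), c, (0 : W)))

theorem finrank_eig_eq_mult {e f : W} (h : IsotropicNondeg P e f) {w : F × F × W} (hw : w ≠ 0) :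
    finrank ℂ (eigW ρ w) = mult ρ (hypExt P w) := by
  classical
  exact finrank_eig_level ρ h hw

/-- the space by levels -/
theorem finrank_eq_levels [DecidableEq F] {e f : W} (h : IsotropicNondeg P e f) :
    finrank ℂ U = finrank ℂ (fixU ρ) +
      ∑ c : F, mult ρ c * (cnt (hypExt P) c - if c = 0 then 1 else 0) := by
  classical
  rw [finrank_eq_sum ρ (nondeg_hypExt h.nondeg)]
  congr 1
  rw [← Finset.sum_fiberwise _ (fun w => hypExt P w)]
  refine Finset.sum_congr rfl fun c _ => ?_
  rw [Finset.sum_congr rfl fun w hw => show finrank ℂ (eigW ρ w) = mult ρ c by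
      rw [Finset.mem_filter, Finset.mem_erase] at hw
      rw [finrank_eig_eq_mult ρ h hw.1.1, hw.2], Finset.sum_const, smul_eq_mul, mul_comm]
  congr 1
  rw [← card_level (P := P) c, Finset.filter_erase]
  split_ifs with hc
  · rw [Finset.card_erase_of_mem (by simp [hc])]
  · rw [Finset.erase_eq_of_notMem (by simp [Ne.symm hc]), Nat.sub_zero]

theorem mult_mul_le [DecidableEq F] {e f : W} (h : IsotropicNondeg P e f) (S : Finset F) :
    finrank ℂ (fixU ρ) + ∑ c ∈ S, mult ρ c * (cnt (hypExt P) c - if c = 0 then 1 else 0) ≤ finrank ℂ U := by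
  rw [finrank_eq_levels ρ h]
  exact Nat.add_le_add_left (Finset.sum_le_sum_of_subset (Finset.subset_univ S)) _

theorem small_of_mult [DecidableEq F] {e f : W} (h : IsotropicNondeg P e f) (h0 : mult ρ 0 ≤ 1)
    (hne : ∀ c, c ≠ 0 → mult ρ c = 0) : Small ρ := by
  constructor
  · intro w hw
    refine Submodule.finrank_eq_zero.1 ?_
    rw [finrank_eig_eq_mult ρ h fun e => hw (by rw [e, map_zero])]
    exact hne _ hw
  · intro w hw
    rw [finrank_eig_eq_mult ρ h hw]
    by_cases hc : hypExt P w = 0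
    · rw [hc]; exact h0
    · rw [hne _ hc]; exact Nat.zero_le _

/-- the deficit of a root element of the radical -/
theorem root_deficit [DecidableEq F] {e f : W} (h : IsotropicNondeg P e f) (h1 : mult ρ (0 : F) = 1) (hs : Small ρ) :
    LinearMap.trace ℂ U (zU ρ ((1 : F), (0 : F), (0 : W))) + (Fintype.card F * Fintype.card W : ℕ) = finrank ℂ U := by
  classical
  have hQ := nondeg_hypExt h.nondeg
  have hone : ∀ w, w ≠ 0 → hypExt P w = 0 → finrank ℂ (eigW ρ w) = 1 := fun w hw e => by
    rw [finrank_eig_eq_mult ρ h hw, e, h1]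
  have hzero : ∀ w, w ≠ 0 → hypExt P w ≠ 0 → eigW ρ w = ⊥ := fun w _ e => hs.bot w e
  have hfin := finrank_of_level ρ h.nondeg 0 hone hzero
  rw [if_pos rfl] at hfin
  have hz : ∀ (a b : F × F × W), zU ρ b * zU ρ a = zU ρ a * zU ρ b := fun a b => by
    rw [← zU_add, ← zU_add, add_comm]
  have hA := trace_monomial ρ hQ (M := zU ρ ((1 : F), (0 : F), (0 : W))) (π := id)
    (fun w u hu => apply_mem_eigSpace (fun a => hz _ a) hu) (fun u hu => apply_mem_eigSpace (fun a => hz _ a) hu)
    (c := fun w => chW _ w ((1 : F), (0 : F), (0 : W))) (fun w _ _ u hu => hu _)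
  rw [show (zU ρ ((1 : F), (0 : F), (0 : W))).restrict
      (fun u hu => apply_mem_eigSpace (fun a => hz _ a) hu) = (1 : Module.End ℂ (fixU ρ)) from
    LinearMap.ext fun v => Subtype.ext ((mem_fixU ρ).1 v.2 _), LinearMap.trace_one] at hA
  have sA : (∑ w ∈ Finset.univ.erase (0 : F × F × W),
      if id w = w then chW (hypExt P) w ((1 : F), (0 : F), (0 : W)) * (finrank ℂ (eigW ρ w) : ℂ) else 0)
      = (Fintype.card F : ℂ) * cnt P 0 - Fintype.card W - 1 := by
    rw [← sum_level P 0, Finset.sum_filter]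
    rw [Finset.sum_congr rfl fun w hw => show (if id w = w then chW (hypExt P) w ((1 : F), (0 : F), (0 : W)) *
        (finrank ℂ (eigW ρ w) : ℂ) else 0) = if hypExt P w = 0 then psi0 F w.2.1 else 0 by
      rw [if_pos (show id w = w from rfl), chW_apply]
      split_ifs with hw'
      · rw [hone w (Finset.ne_of_mem_erase hw) hw', Nat.cast_one, mul_one]
        congr 1
        simp [polar_hypExt]
      · rw [hzero w (Finset.ne_of_mem_erase hw) hw', finrank_bot, Nat.cast_zero, mul_zero],
      Finset.sum_erase_eq_sub (Finset.mem_univ _)]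
    congr 1
    rw [map_zero, if_pos rfl]
    simp [AddChar.map_zero_eq_one]
  rw [sA] at hA
  have hc := congrArg (fun n : ℕ => (n : ℂ)) (cnt_hypExt (Q := P) (0 : F))
  have hf := congrArg (fun n : ℕ => (n : ℂ)) hfin
  push_cast [Nat.card_eq_fintype_card] at hc hf ⊢
  linear_combination hA - hf - hc

end one

section two

variable {W : Type*} [AddCommGroup W] [Module F W] [Fintype W] {P : QuadraticForm F W}
  {U : Type*} [AddCommGroup U] [Module ℂ U] [FiniteDimensional ℂ U]
  (ρ : Representation ℂ (eichlerGroup (hypExt (hypExt P))) U)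

/-- for `q > 3` non-singular characters cost two levels -/
theorem small_of_lt (hq : 3 < Fintype.card F) (hP : ∀ z, (∀ w, polar P z w = 0) → z = 0)
    (hk : finrank ℂ U < 2 * ((Fintype.card F - 1) * Fintype.card (F × F × W))) : Small ρ := by
  classical
  have h := iso_hypExt hP
  set B := (Fintype.card F - 1) * Fintype.card (F × F × W)
  have hlev : ∀ c : F, B ≤ cnt (hypExt (hypExt P)) c - if c = 0 then 1 else 0 := by
    intro c
    have := le_cnt_hypExt (hypExt P) c
    split_ifs with hc
    · subst hc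
      have h1 : 1 ≤ Fintype.card F * cnt (hypExt P) 0 := Nat.one_le_iff_ne_zero.2 (mul_ne_zero Fintype.card_ne_zero
        (Nat.one_le_iff_ne_zero.1 cnt_pos))
      omega
    · omega
  refine small_of_mult ρ h ?_ ?_
  · by_contra hc
    have h1 := mult_mul_le ρ h {0}
    rw [Finset.sum_singleton] at h1
    have h2 := Nat.mul_le_mul (show 2 ≤ mult ρ (0 : F) by omega) (hlev 0)
    omega
  · intro c hc
    by_contra hm
    obtain ⟨l, hl⟩ := exists_sq_ne_one (F := F) hq
    have hm' : mult ρ (c / (l * l : Fˣ)) = mult ρ c := finrank_eig_sq ρ h hc l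
    have hne : c ≠ c / (l * l : Fˣ) := fun e => hl (by
      field_simp at e
      exact e)
    have h1 := mult_mul_le ρ h {c, c / (l * l : Fˣ)}
    rw [Finset.sum_pair hne, hm'] at h1
    have h2 := Nat.mul_le_mul (show 1 ≤ mult ρ c by omega) (hlev c)
    have h3 := Nat.mul_le_mul (show 1 ≤ mult ρ c by omega) (hlev (c / (l * l : Fˣ)))
    omega

/-- when all non-singular levels are at least as large as the singular one -/
theorem small_or_single [DecidableEq F] (hP : ∀ z, (∀ w, polar P z w = 0) → z = 0)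
    (hbig : ∀ c : F, c ≠ 0 → cnt (hypExt (hypExt P)) 0 ≤ cnt (hypExt (hypExt P)) c)
    (hk : finrank ℂ U < 2 * (cnt (hypExt (hypExt P)) 0 - 1)) :
    Small ρ ∨ ∃ c : F, c ≠ 0 ∧ mult ρ c = 1 ∧ ∀ c', c' ≠ c → mult ρ c' = 0 := by
  have h := iso_hypExt hP
  set N := cnt (hypExt (hypExt P)) 0 - 1 with hN
  have hlev : ∀ c : F, N ≤ cnt (hypExt (hypExt P)) c - if c = 0 then 1 else 0 := by
    intro c
    split_ifs with hc
    · rw [hc]
    · have := hbig c hc
      omega
  have h0 : mult ρ (0 : F) ≤ 1 := by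
    by_contra hc
    have h1 := mult_mul_le ρ h {0}
    rw [Finset.sum_singleton] at h1
    have h2 := Nat.mul_le_mul (show 2 ≤ mult ρ (0 : F) by omega) (hlev 0)
    omega
  by_cases hne : ∀ c, c ≠ 0 → mult ρ c = 0
  · exact Or.inl (small_of_mult ρ h h0 hne)
  push Not at hne
  obtain ⟨c, hc, hm⟩ := hne
  refine Or.inr ⟨c, hc, ?_, fun c' hc' => ?_⟩
  · by_contra hm1
    have h1 := mult_mul_le ρ h {c}
    rw [Finset.sum_singleton] at h1
    have h2 := Nat.mul_le_mul (show 2 ≤ mult ρ c by omega) (hlev c)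
    omega
  · by_contra hm'
    have h1 := mult_mul_le ρ h {c, c'}
    rw [Finset.sum_pair (Ne.symm hc')] at h1
    have h2 := Nat.mul_le_mul (show 1 ≤ mult ρ c by omega) (hlev c)
    have h3 := Nat.mul_le_mul (show 1 ≤ mult ρ c' by omega) (hlev c')
    omega

/-- one level, each once: the space and a moved fixed space -/
theorem single_level [DecidableEq F] (hP : ∀ z, (∀ w, polar P z w = 0) → z = 0) {c : F} (hc : PhaseOK P c)
    (h1 : mult ρ c = 1) (h0 : ∀ c', c' ≠ c → mult ρ c' = 0) :
    finrank ℂ U + (if c = 0 then 1 else 0) = finrank ℂ (fixU ρ) + cnt (hypExt (hypExt P)) c ∧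
      descRep ρ (tauE P) ≠ 1 := by
  classical
  have h := iso_hypExt hP
  have hone : ∀ w, w ≠ 0 → hypExt (hypExt P) w = c → finrank ℂ (eigW ρ w) = 1 := fun w hw e => by
    rw [finrank_eig_eq_mult ρ h hw, e, h1]
  have hzero : ∀ w, w ≠ 0 → hypExt (hypExt P) w ≠ c → eigW ρ w = ⊥ := fun w hw e => by
    refine Submodule.finrank_eq_zero.1 ?_
    rw [finrank_eig_eq_mult ρ h hw]
    exact h0 _ e
  have htr := fixed_trace_deficit ρ hP hone hzero hc
  refine ⟨?_, fun hone' => ?_⟩
  · have := finrank_of_level ρ (nondeg_hypExt hP) c hone hzero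
    simpa only [eq_comm (a := (0 : F))] using this
  · rw [hone', LinearMap.trace_one, add_eq_left, Nat.cast_eq_zero, mul_eq_zero] at htr
    exact htr.elim Fintype.card_ne_zero Fintype.card_ne_zero

/-- each singular character of a moving small representation occurs once -/
theorem small_mult [DecidableEq F] (hP : ∀ z, (∀ w, polar P z w = 0) → z = 0) (hs : Small ρ)
    {g : eichlerGroup (hypExt (hypExt P))} (hg : ρ g ≠ 1) :
    mult ρ (0 : F) = 1 ∧ ∀ c, c ≠ 0 → mult ρ c = 0 := by
  classical
  have h := iso_hypExt hP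
  have hne : ∀ c, c ≠ 0 → mult ρ c = 0 := fun c hc => by
    rw [mult, hs.bot _ (by simp [hypExt_apply, hc]), finrank_bot]
  refine ⟨?_, hne⟩
  obtain ⟨w, hw, hwne⟩ := exists_eig_ne_bot ρ (nondeg_hypExt (nondeg_hypExt hP)) hg
  refine le_antisymm (hs.le_one _ fun e => one_ne_zero (congrArg Prod.fst e)) (Nat.one_le_iff_ne_zero.2 fun hm => hwne ?_)
  refine Submodule.finrank_eq_zero.1 ?_
  rw [finrank_eig_eq_mult ρ h hw]
  by_cases hQ : hypExt (hypExt P) w = 0
  · rw [hQ]; exact hm
  · exact hne _ hQ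

/-- a moving small representation -/
theorem small_step [DecidableEq F] (hP : ∀ z, (∀ w, polar P z w = 0) → z = 0) (hc : PhaseOK P 0) (hs : Small ρ)
    {g : eichlerGroup (hypExt (hypExt P))} (hg : ρ g ≠ 1) :
    finrank ℂ U + 1 = finrank ℂ (fixU ρ) + cnt (hypExt (hypExt P)) 0 ∧ descRep ρ (tauE P) ≠ 1 := by
  obtain ⟨h1, hne⟩ := small_mult ρ hP hs hg
  obtain ⟨e1, e2⟩ := single_level ρ hP hc h1 fun c hc => hne c hc
  exact ⟨by simpa using e1, e2⟩

end two

theorem phaseOK_of_card {W : Type*} [AddCommGroup W] [Module F W] [Nontrivial W] {P : QuadraticForm F W}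
    (hP : ∀ z, (∀ w, polar P z w = 0) → z = 0) (hq : 3 < Fintype.card F) (c : F) : PhaseOK P c := by
  intro v0 _
  by_cases h0 : v0 = 0
  · left
    obtain ⟨d, hd⟩ := exists_ne (0 : W)
    obtain ⟨z, hz⟩ : ∃ z, polar P d z ≠ 0 := by
      by_contra hne; push Not at hne; exact hd (hP _ hne)
    refine ⟨d, (-(polar P d z)⁻¹) • z, by rw [h0, polar_zero_right], by rw [h0, polar_zero_right], ?_⟩
    rw [polar_smul_right, smul_eq_mul]
    field_simp
  · exact Or.inr ⟨h0, hq⟩

end Cfsg.Agent.Lib.MinDegree.Orth
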