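import Mathlib
import Cfsg.Agent.Lib.MinDegree.Orth.Threshold

/-!
Two planes over an anisotropic form inside three.
-/

set_option autoImplicit false

namespace Cfsg.Agent.Lib.MinDegree.Orth

open QuadraticMap Module Cfsg.Agent.Lib.Classical

variable {F : Type*} [Field F] [Fintype F] {W : Type*} [AddCommGroup W] [Module F W] [Fintype W] [Nontrivial W]
  {P : QuadraticForm F W} {U : Type*} [AddCommGroup U] [Module ℂ U] [FiniteDimensional ℂ U]

/-- small representations over an anisotropic form are trivial -/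
theorem trivial_of_aniso (hP : ∀ z, (∀ w, polar P z w = 0) → z = 0) (ha : ∀ w, P w = 0 → w = 0)
    (σ : Representation ℂ (eichlerGroup P) U) (hs : Small σ) (x : eichlerGroup P) : σ x = 1 := by
  classical
  by_contra hne
  obtain ⟨w, hw, hb⟩ := exists_eig_ne_bot σ hP hne
  exact hb (hs.bot w fun h => hw (ha w h))

omit [Fintype W] in
theorem phaseOK_aniso (hP : ∀ z, (∀ w, polar P z w = 0) → z = 0) (ha : ∀ w, P w = 0 → w = 0) : PhaseOK P 0 := by
  intro v0 hv
  left
  obtain rfl := ha v0 hv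
  obtain ⟨d, hd⟩ := exists_ne (0 : W)
  obtain ⟨z, hz⟩ : ∃ z, polar P d z ≠ 0 := by
    by_contra hne; push Not at hne; exact hd (hP _ hne)
  refine ⟨d, (-(polar P d z)⁻¹) • z, polar_zero_right _ _, polar_zero_right _ _, ?_⟩
  rw [polar_smul_right, smul_eq_mul]
  field_simp

/-- the fixed space carries each singular character of two planes once -/
theorem desc_base [DecidableEq F] (hP : ∀ z, (∀ w, polar P z w = 0) → z = 0) (ha : ∀ w, P w = 0 → w = 0)
    (ρ : Representation ℂ (eichlerGroup (hypExt (hypExt P))) U) (hs : Small ρ)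
    {g : eichlerGroup (hypExt (hypExt P))} (hg : ρ g ≠ 1) :
    finrank ℂ (fixU ρ) + 1 = finrank ℂ (fixU (descRep ρ)) + cnt (hypExt P) 0 := by
  classical
  obtain ⟨-, hσ⟩ := small_step ρ hP (phaseOK_aniso hP ha) hs hg
  have hQ := nondeg_hypExt hP
  have hsσ := Small.desc ρ hQ hs
  have heq : ∀ w : F × F × W, w ≠ 0 → hypExt P w = 0 →
      finrank ℂ (eigW (descRep ρ) w) = finrank ℂ (eigW (descRep ρ) ((1 : F), (0 : F), (0 : W))) := by
    intro w hw hQw
    obtain ⟨k, hk, x, hx, hkw⟩ := exists_plane_form hP w hw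
    rw [hQw, zero_div] at hkw
    conv_lhs => rw [← hkw]
    rw [finrank_eig_ind (descRep ρ) ⟨k, hk⟩]
    have step : ∀ (c : Fˣ) (y : F), finrank ℂ (eigW (descRep ρ) (y, (0 : F), (0 : W))) ≤
        finrank ℂ (eigW (descRep ρ) ((c : F) * y, (0 : F), (0 : W))) := fun c y => by
      have h := finrank_desc_outer ρ (hypScale_mem P c) (lev_outer_mem c) (y, (0 : F), (0 : W))
      rwa [hypScale_apply, mul_zero] at h
    have h1 := step (Units.mk0 x hx) 1
    have h2 := step (Units.mk0 x hx)⁻¹ x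
    rw [Units.val_mk0, mul_one] at h1
    rw [Units.val_inv_eq_inv_val, Units.val_mk0, inv_mul_cancel₀ hx] at h2
    exact le_antisymm h2 h1
  have hm : finrank ℂ (eigW (descRep ρ) ((1 : F), (0 : F), (0 : W))) = 1 := by
    refine le_antisymm (hsσ.le_one _ fun e => one_ne_zero (congrArg Prod.fst e))
      (Nat.one_le_iff_ne_zero.2 fun hm => ?_)
    obtain ⟨w, hw, hwne⟩ := exists_eig_ne_bot (descRep ρ) hQ hσ
    by_cases hQw : hypExt P w = 0
    · exact hwne (Submodule.finrank_eq_zero.1 (by rw [heq w hw hQw, hm]))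
    · exact hwne (hsσ.bot w hQw)
  have h := finrank_of_level (descRep ρ) hP 0 (fun w hw e => by rw [heq w hw e, hm])
    (fun w _ e => hsσ.bot w e)
  rwa [if_pos rfl] at h

end Cfsg.Agent.Lib.MinDegree.Orth
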