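import Mathlib
import Cfsg.Agent.Lib.MinDegree.Orth.Threshold
import Cfsg.Agent.Lib.Classical.LowRank.Index

/-!
The class of a root element and the divisibility it gives.
-/

set_option autoImplicit false

namespace Cfsg.Agent.Lib.MinDegree.Orth

open QuadraticMap Module Cfsg.Agent.Lib.Classical

variable {F : Type*} [Field F] [Fintype F] {W : Type*} [AddCommGroup W] [Module F W] [Fintype W]
  {P : QuadraticForm F W} {e f : W}

variable (P) in
/-- the root element -/
abbrev rootTop : eichlerGroup (hypExt P) := radE (hypExt P) ((1 : F), (0 : F), (0 : W))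

variable (P) in
/-- independent totally singular pairs -/
def IsPair (p : (F × F × (F × F × W)) × (F × F × (F × F × W))) : Prop :=
  p.1 ≠ 0 ∧ hypExt (hypExt P) p.1 = 0 ∧ hypExt (hypExt P) p.2 = 0 ∧ polar (hypExt (hypExt P)) p.1 p.2 = 0 ∧
    ∀ c : F, p.2 ≠ c • p.1

/-- pairs form one orbit -/
theorem exists_move_pair (h : IsotropicNondeg P e f) {p : (F × F × (F × F × W)) × (F × F × (F × F × W))}
    (hp : IsPair P p) : ∃ g : eichlerGroup (hypExt P),
      g.1 ((1 : F), (0 : F), (0 : F × F × W)) = p.1 ∧ g.1 ((0 : F), (0 : F), ((-1 : F), (0 : F), (0 : W))) = p.2 := by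
  obtain ⟨hu, hQu, hQw, huw, hind⟩ := hp
  obtain ⟨g1, hg1, hgu⟩ := eichler_move_singular (iso_hypExt h.nondeg) p.1 hu hQu
  set w' := g1.symm p.2 with hw'
  have hiso := eichlerGroup_le _ hg1
  have hsymm : g1 w' = p.2 := g1.apply_symm_apply _
  have hy : w'.2.1 = 0 := by
    have h1 := isometry_polar hiso ((1 : F), (0 : F), (0 : F × F × W)) w'
    rw [hgu, hsymm, huw] at h1
    simpa [polar_hypExt] using h1.symm
  have hQv : hypExt P w'.2.2 = 0 := by
    have h1 := hiso w'
    rw [hsymm, hQw, hypExt_apply, hy, mul_zero, zero_add] at h1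
    exact h1.symm
  have hv : w'.2.2 ≠ 0 := fun h0 => hind w'.1 (by
    rw [← hgu, ← map_smul, ← hsymm]
    congr 1
    refine Prod.ext ?_ (Prod.ext ?_ ?_) <;> simp [hy, h0])
  obtain ⟨k0, hk0, hkv⟩ := eichler_move_singular h (-w'.2.2) (neg_ne_zero.2 hv) (by rw [QuadraticMap.map_neg, hQv])
  have hkv' : k0 ((-1 : F), (0 : F), (0 : W)) = w'.2.2 := by
    rw [show ((-1 : F), (0 : F), (0 : W)) = -((1 : F), (0 : F), (0 : W)) by simp, map_neg, hkv, neg_neg]
  obtain ⟨z, hz⟩ : ∃ z, polar (hypExt P) w'.2.2 z ≠ 0 := by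
    by_contra hne
    push Not at hne
    exact hv (nondeg_hypExt h.nondeg _ hne)
  set a := (-(w'.1 / polar (hypExt P) w'.2.2 z)) • z
  refine ⟨⟨g1, hg1⟩ * radE (hypExt P) a * indE P ⟨k0, hk0⟩, ?_, ?_⟩
  · show g1 (hypSiegel (hypExt P) a (hypInd k0 ((1 : F), (0 : F), (0 : F × F × W)))) = p.1
    rw [hypInd_apply, map_zero, hypSiegel_apply]
    simp only [polar_zero_right, mul_zero, sub_zero, zero_smul, add_zero]
    exact hgu
  · show g1 (hypSiegel (hypExt P) a (hypInd k0 ((0 : F), (0 : F), ((-1 : F), (0 : F), (0 : W))))) = p.2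
    rw [hypInd_apply, hkv', hypSiegel_apply, ← hsymm]
    congr 1
    refine Prod.ext ?_ (Prod.ext hy.symm ?_)
    · simp only [a, polar_smul_left, polar_comm (⇑(hypExt P)) z, smul_eq_mul, mul_zero, sub_zero, zero_sub]
      field_simp
    · simp

theorem root_eq_eichler :
    hypSiegel (hypExt P) ((1 : F), (0 : F), (0 : W)) =
      eichlerEquiv (hypExt (hypExt P)) (1, 0, 0) (0, 0, ((-1 : F), (0 : F), (0 : W))) (by simp [hypExt_apply])
        (by simp [polar_hypExt]) := by
  rw [hypSiegel_eq_eichler]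
  exact eichlerEquiv_congr _ rfl (by simp)

/-- the size of the class -/
theorem class_mul [DecidableEq F] (h : IsotropicNondeg P e f) :
    (Subgroup.centralizer ({rootTop P} : Set (eichlerGroup (hypExt P)))).index * (Fintype.card F ^ 2 - 1) =
      (cnt (hypExt (hypExt P)) 0 - 1) * (cnt (hypExt P) 0 - 1) := by
  classical
  haveI := finite_eichler (hypExt P)
  letI := Fintype.ofFinite (eichlerGroup (hypExt P))
  set Q2 := hypExt (hypExt P) with hQ2
  set u0 : F × F × (F × F × W) := (1, 0, 0) with hu0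
  set w0 : F × F × (F × F × W) := (0, 0, ((-1 : F), (0 : F), (0 : W))) with hw0
  set O := Finset.univ.filter (IsPair P)
  set C := Finset.univ.filter (IsConj (rootTop P))
  have hnd := nondeg_hypExt (nondeg_hypExt h.nondeg)
  -- the element of a pair
  have hbase : ∀ g : eichlerGroup (hypExt P), (g * rootTop P * g⁻¹).1 =
      eichlerEquiv Q2 (g.1 u0) (g.1 w0) (by rw [hQ2, eichlerGroup_le _ g.2]; simp [u0, hypExt_apply])
        (by rw [hQ2, isometry_polar (eichlerGroup_le _ g.2)]; simp [u0, w0, polar_hypExt]) := fun g => by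
    show g.1 * hypSiegel (hypExt P) _ * g.1⁻¹ = _
    rw [root_eq_eichler, eichlerEquiv_conj _ _ _ _ _ (eichlerGroup_le _ g.2)]
  have hex : ∀ p, ∃ x : eichlerGroup (hypExt P), IsPair P p →
      ∀ z, x.1 z = z + polar Q2 z p.2 • p.1 - polar Q2 z p.1 • p.2 := by
    intro p
    by_cases hp : IsPair P p
    · obtain ⟨g, hgu, hgw⟩ := exists_move_pair h hp
      refine ⟨g * rootTop P * g⁻¹, fun _ z => ?_⟩
      rw [hbase g, eichlerEquiv_apply]
      simp only [u0, w0, hQ2, hgu, hgw, hp.2.2.1, zero_mul, zero_smul, sub_zero]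
    · exact ⟨1, fun h' => absurd h' hp⟩
  choose Φ hΦ using hex
  have hmap : ∀ p ∈ O, Φ p ∈ C := fun p hp => by
    have hp' := (Finset.mem_filter.1 hp).2
    obtain ⟨g, hgu, hgw⟩ := exists_move_pair h hp'
    refine Finset.mem_filter.2 ⟨Finset.mem_univ _, isConj_iff.2 ⟨g, Subtype.ext (LinearEquiv.ext fun z => ?_)⟩⟩
    rw [hΦ p hp', hbase g, eichlerEquiv_apply]
    simp only [u0, w0, hQ2, hgu, hgw, hp'.2.2.1, zero_mul, zero_smul, sub_zero]
  have hu0w0 : ∀ a b : F, a • u0 + b • w0 = (a, 0, (-b, 0, 0)) := fun a b => by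
    simp [u0, w0]
  have hfib : ∀ x ∈ C, (O.filter fun p => Φ p = x).card = Fintype.card F * (Fintype.card F ^ 2 - 1) := by
    intro x hx
    obtain ⟨g, rfl⟩ := isConj_iff.1 (Finset.mem_filter.1 hx).2
    have hgz : ∀ z, (g * rootTop P * g⁻¹).1 z = z + polar Q2 z (g.1 w0) • g.1 u0 - polar Q2 z (g.1 u0) • g.1 w0 :=
      fun z => by
        rw [hbase g, eichlerEquiv_apply, hQ2, eichlerGroup_le _ g.2 w0]
        simp [w0, hypExt_apply]
    have hiso := eichlerGroup_le _ g.2
    have hpair : ∀ A : Matrix.SpecialLinearGroup (Fin 2) F,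
        IsPair P (A.1 0 0 • g.1 u0 + A.1 0 1 • g.1 w0, A.1 1 0 • g.1 u0 + A.1 1 1 • g.1 w0) := by
      intro A
      have hd := A.2
      rw [Matrix.det_fin_two] at hd
      simp only [IsPair, ← map_smul, ← map_add]
      refine ⟨fun h0 => ?_, ?_, ?_, ?_, fun c hc => ?_⟩
      · rw [LinearEquiv.map_eq_zero_iff, hu0w0] at h0
        have h1 := congrArg Prod.fst h0
        have h2 := congrArg (fun p : F × F × (F × F × W) => p.2.2.1) h0
        simp only [Prod.fst_zero, Prod.snd_zero, neg_eq_zero] at h1 h2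
        rw [h1, h2] at hd
        simp at hd
      · rw [hiso, hu0w0]; simp [hypExt_apply]
      · rw [hiso, hu0w0]; simp [hypExt_apply]
      · rw [isometry_polar hiso, hu0w0, hu0w0]; simp [polar_hypExt]
      · have hc' := g.1.injective hc
        rw [hu0w0, hu0w0] at hc'
        have h1 := congrArg Prod.fst hc'
        have h2 := congrArg (fun p : F × F × (F × F × W) => p.2.2.1) hc'
        simp only [Prod.smul_fst, Prod.smul_snd, smul_eq_mul, mul_neg, neg_inj] at h1 h2
        rw [h1, h2] at hd
        exact one_ne_zero (by linear_combination -hd : (1 : F) = 0)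
    rw [← LowRank.natCard_SL_two, Nat.card_eq_fintype_card, ← Finset.card_univ]
    symm
    refine Finset.card_bij
      (fun A _ => (A.1 0 0 • g.1 u0 + A.1 0 1 • g.1 w0, A.1 1 0 • g.1 u0 + A.1 1 1 • g.1 w0)) (fun A _ => ?_)
      (fun A _ B _ e => ?_) fun p hp => ?_
    · refine Finset.mem_filter.2 ⟨Finset.mem_filter.2 ⟨Finset.mem_univ _, hpair A⟩, Subtype.ext (LinearEquiv.ext fun z => ?_)⟩
      rw [hΦ _ (hpair A), hgz]
      have hd := A.2
      rw [Matrix.det_fin_two] at hd
      simp only [polar_add_right, polar_smul_right, smul_eq_mul]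
      match_scalars
      · ring
      · linear_combination (polar Q2 z (g.1 w0)) * hd
      · linear_combination -(polar Q2 z (g.1 u0)) * hd
    · have e' : ∀ a b a' b' : F, a • g.1 u0 + b • g.1 w0 = a' • g.1 u0 + b' • g.1 w0 → a = a' ∧ b = b' := by
        intro a b a' b' he
        rw [← map_smul, ← map_smul, ← map_add, ← map_smul, ← map_smul, ← map_add] at he
        have he' := g.1.injective he
        rw [hu0w0, hu0w0] at he'
        simp only [Prod.mk.injEq, neg_inj] at he'
        exact ⟨he'.1, he'.2.2.1⟩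
      obtain ⟨h00, h01⟩ := e' _ _ _ _ (congrArg Prod.fst e)
      obtain ⟨h10, h11⟩ := e' _ _ _ _ (congrArg Prod.snd e)
      ext i j
      fin_cases i <;> fin_cases j <;> assumption
    · obtain ⟨hp1, hp2⟩ := Finset.mem_filter.1 hp
      have hp' := (Finset.mem_filter.1 hp1).2
      have heq : ∀ z, polar Q2 z p.2 • p.1 - polar Q2 z p.1 • p.2
          = polar Q2 z (g.1 w0) • g.1 u0 - polar Q2 z (g.1 u0) • g.1 w0 := fun z => by
        have h1 := hΦ p hp' z
        rw [hp2, hgz, add_sub_assoc, add_sub_assoc, add_right_inj] at h1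
        exact h1.symm
      obtain ⟨hune, -, -, -, hind⟩ := hp'
      obtain ⟨zu, hzu⟩ : ∃ z, polar Q2 z p.1 = 0 ∧ polar Q2 z p.2 = 1 := by
        by_contra hcon
        push Not at hcon
        obtain ⟨z1, hz1⟩ : ∃ z1, polar Q2 z1 p.1 ≠ 0 := by
          by_contra hne; push Not at hne
          exact hune (hnd _ fun z => by rw [polar_comm]; exact hne z)
        refine hind (polar Q2 z1 p.2 / polar Q2 z1 p.1) (sub_eq_zero.1 (hnd _ fun z => ?_))
        rw [polar_comm]
        set z' := z - (polar Q2 z p.1 / polar Q2 z1 p.1) • z1 with hz'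
        have h0 : polar Q2 z' p.1 = 0 := by
          rw [hz', polar_sub_left, polar_smul_left, smul_eq_mul]; field_simp; ring
        by_cases h2 : polar Q2 z' p.2 = 0
        · rw [hz', polar_sub_left, polar_smul_left, smul_eq_mul] at h2
          rw [polar_sub_right, polar_smul_right, smul_eq_mul]
          field_simp at h2 ⊢
          linear_combination h2
        · exact absurd (show polar Q2 ((polar Q2 z' p.2)⁻¹ • z') p.2 = 1 by
            rw [polar_smul_left, smul_eq_mul, inv_mul_cancel₀ h2])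
            (hcon _ (by rw [polar_smul_left, h0, smul_zero]))
      obtain ⟨zw, hzw⟩ : ∃ z, polar Q2 z p.1 = 1 ∧ polar Q2 z p.2 = 0 := by
        obtain ⟨z1, hz1⟩ : ∃ z1, polar Q2 z1 p.1 ≠ 0 := by
          by_contra hne; push Not at hne
          exact hune (hnd _ fun z => by rw [polar_comm]; exact hne z)
        refine ⟨(polar Q2 z1 p.1)⁻¹ • z1 - (polar Q2 z1 p.2 / polar Q2 z1 p.1) • zu, ?_, ?_⟩
        · rw [polar_sub_left, polar_smul_left, polar_smul_left, hzu.1, smul_eq_mul, smul_zero, sub_zero,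
            inv_mul_cancel₀ hz1]
        · rw [polar_sub_left, polar_smul_left, polar_smul_left, hzu.2, smul_eq_mul, smul_eq_mul]
          field_simp
          ring
      have hu : p.1 = polar Q2 zu (g.1 w0) • g.1 u0 + (-polar Q2 zu (g.1 u0)) • g.1 w0 := by
        have := heq zu
        rw [hzu.1, hzu.2, one_smul, zero_smul, sub_zero] at this
        rw [this, neg_smul, sub_eq_add_neg]
      have hw : p.2 = (-polar Q2 zw (g.1 w0)) • g.1 u0 + polar Q2 zw (g.1 u0) • g.1 w0 := by
        have := heq zw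
        rw [hzw.1, hzw.2, one_smul, zero_smul, zero_sub, neg_eq_iff_eq_neg] at this
        rw [this, neg_sub, neg_smul, neg_add_eq_sub]
      set a := polar Q2 zu (g.1 w0)
      set b := -polar Q2 zu (g.1 u0)
      set c := -polar Q2 zw (g.1 w0)
      set d := polar Q2 zw (g.1 u0)
      have hz0 := heq (g.1 ((0 : F), (0 : F), ((0 : F), (-1 : F), (0 : W))))
      simp only [hu, hw, hQ2, polar_add_right, polar_smul_right, isometry_polar hiso, ← map_smul, ← map_add, ← map_sub]
        at hz0
      have hz1 := congrArg Prod.fst (g.1.injective hz0)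
      simp [u0, w0, polar_hypExt] at hz1
      refine ⟨⟨!![a, b; c, d], ?_⟩, Finset.mem_univ _, Prod.ext ?_ ?_⟩
      · rw [Matrix.det_fin_two_of]
        linear_combination hz1
      · simp [hu]
      · simp [hw]
  have hcount := Finset.card_eq_sum_card_fiberwise hmap
  rw [Finset.sum_congr rfl hfib, Finset.sum_const, smul_eq_mul] at hcount
  have hidx : (Subgroup.centralizer ({rootTop P} : Set (eichlerGroup (hypExt P)))).index = C.card := by
    rw [← Chars.card_conjClass_eq_index, Nat.card_eq_fintype_card, Fintype.card_subtype]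
  -- the number of pairs
  have hO : O.card = (cnt (hypExt (hypExt P)) 0 - 1) * (Fintype.card F * (cnt (hypExt P) 0 - 1)) := by
    have hmapU : ∀ p ∈ O, p.1 ∈ (Finset.univ.filter fun u : F × F × (F × F × W) => Q2 u = 0).erase 0 := fun p hp => by
      obtain ⟨h1, h2, -⟩ := (Finset.mem_filter.1 hp).2
      exact Finset.mem_erase.2 ⟨h1, Finset.mem_filter.2 ⟨Finset.mem_univ _, h2⟩⟩
    rw [Finset.card_eq_sum_card_fiberwise hmapU]
    have hfibU : ∀ u ∈ (Finset.univ.filter fun u : F × F × (F × F × W) => Q2 u = 0).erase 0,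
        (O.filter fun p => p.1 = u).card = Fintype.card F * (cnt (hypExt P) 0 - 1) := by
      intro u hu
      obtain ⟨hu, hQu⟩ := Finset.mem_erase.1 hu
      obtain ⟨g, hg, hgu⟩ := eichler_move_singular (iso_hypExt h.nondeg) u hu (Finset.mem_filter.1 hQu).2
      have hiso := eichlerGroup_le _ hg
      rw [show Fintype.card F * (cnt (hypExt P) 0 - 1) = ((Finset.univ : Finset F) ×ˢ
          ((Finset.univ.filter fun v : F × F × W => hypExt P v = 0).erase 0)).card by
        rw [Finset.card_product, Finset.card_univ, Finset.card_erase_of_mem (by simp), card_level]]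
      symm
      refine Finset.card_bij (fun s _ => (u, g (s.1, 0, s.2))) (fun s hs => ?_) (fun s _ t _ e => ?_) fun p hp => ?_
      · obtain ⟨-, hs⟩ := Finset.mem_product.1 hs
        obtain ⟨hv, hQv⟩ := Finset.mem_erase.1 hs
        have hQv' : hypExt P s.2 = 0 := (Finset.mem_filter.1 hQv).2
        refine Finset.mem_filter.2 ⟨Finset.mem_filter.2 ⟨Finset.mem_univ _, hu, (Finset.mem_filter.1 hQu).2, ?_, ?_,
          fun c hc => hv ?_⟩, rfl⟩
        · show hypExt (hypExt P) (g _) = 0
          rw [hiso, hypExt_apply, hQv']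
          simp
        · show polar (hypExt (hypExt P)) u (g _) = 0
          rw [← hgu, isometry_polar hiso]
          simp [polar_hypExt]
        · have hc' : g (s.1, 0, s.2) = g (c • ((1 : F), (0 : F), (0 : F × F × W))) := by rw [map_smul, hgu]; exact hc
          simpa using congrArg (fun p : F × F × (F × F × W) => p.2.2) (g.injective hc')
      · have := g.injective (congrArg Prod.snd e)
        exact Prod.ext (congrArg (fun p : F × F × (F × F × W) => p.1) this) (congrArg (fun p : F × F × (F × F × W) => p.2.2) this)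
      · obtain ⟨hp1, hp2⟩ := Finset.mem_filter.1 hp
        obtain ⟨-, -, hQw, hpol, hind⟩ := (Finset.mem_filter.1 hp1).2
        set w' := g.symm p.2
        have hgw : g w' = p.2 := g.apply_symm_apply _
        have hy : w'.2.1 = 0 := by
          rw [hp2, ← hgu, ← hgw, isometry_polar hiso] at hpol
          simpa [polar_hypExt] using hpol
        have hform : (w'.1, (0 : F), w'.2.2) = w' := Prod.ext rfl (Prod.ext hy.symm rfl)
        refine ⟨(w'.1, w'.2.2), Finset.mem_product.2 ⟨Finset.mem_univ _, Finset.mem_erase.2 ⟨fun h0 => hind w'.1 ?_,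
          Finset.mem_filter.2 ⟨Finset.mem_univ _, ?_⟩⟩⟩, Prod.ext hp2.symm (by rw [hform, hgw])⟩
        · rw [← hgw, hp2, ← hgu, ← map_smul]
          exact congrArg g (Prod.ext (by simp) (Prod.ext (by simp [hy]) (by simp [show w'.2.2 = 0 from h0])))
        · rw [← hgw, hiso, hypExt_apply, hy, mul_zero, zero_add] at hQw
          exact hQw
    rw [Finset.sum_congr rfl hfibU, Finset.sum_const, smul_eq_mul, Finset.card_erase_of_mem (by simp [hQ2]),
      hQ2, card_level]
  rw [hidx]
  refine Nat.eq_of_mul_eq_mul_left (Fintype.card_pos (α := F)) ?_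
  rw [hO] at hcount
  calc Fintype.card F * (C.card * (Fintype.card F ^ 2 - 1))
      = C.card * (Fintype.card F * (Fintype.card F ^ 2 - 1)) := by ring
    _ = _ := hcount.symm
    _ = _ := by ring

variable {k : ℕ} (ρ : Representation ℂ (eichlerGroup (hypExt P)) (Fin k → ℂ))

/-- the degree divides class size times deficit -/
theorem dvd_class [DecidableEq F] [ρ.IsIrreducible] (h : IsotropicNondeg P e f) (hs : Small ρ)
    (h1 : mult ρ (0 : F) = 1) :
    k * (Fintype.card F ^ 2 - 1) ∣
      (cnt (hypExt (hypExt P)) 0 - 1) * (cnt (hypExt P) 0 - 1) * (Fintype.card F * Fintype.card W) := by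
  haveI := finite_eichler (hypExt P)
  set D := Fintype.card F * Fintype.card W
  have htr := root_deficit ρ h h1 hs
  rw [Module.finrank_fin_fun] at htr
  have hk : 0 < k := by
    have := Chars.finrank_pos_of_isIrreducible ρ
    rwa [Module.finrank_fin_fun] at this
  set C := (Subgroup.centralizer ({rootTop P} : Set (eichlerGroup (hypExt P)))).index with hC
  have hdvd : k ∣ C * D := by
    have hint := Chars.isIntegral_central_value ρ (rootTop P)
    rw [Module.finrank_fin_fun] at hint
    refine Chars.dvd_of_isIntegral_div hk.ne' ?_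
    have hc : (ρ.character (rootTop P) : ℂ) = (k : ℂ) - D := by
      rw [Representation.character, ← htr]; ring
    rw [hc] at hint
    have : (((C * D : ℕ) : ℂ)) / k = (C : ℂ) - (C : ℂ) * ((k : ℂ) - D) / k := by
      have : (k : ℂ) ≠ 0 := Nat.cast_ne_zero.2 hk.ne'
      push_cast
      field_simp
      ring
    rw [this]
    exact (isIntegral_algebraMap (R := ℤ) (A := ℂ) (x := (C : ℤ))).sub hint
  have := Nat.mul_dvd_mul_right hdvd (Fintype.card F ^ 2 - 1)
  rwa [mul_right_comm C, hC, class_mul h] at this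

end Cfsg.Agent.Lib.MinDegree.Orth
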