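import Mathlib
import Cfsg.Agent.Lib.MinDegree.Orth.Counting

/-!
In a small representation a vector fixed by the whole parabolic (up to the diagonal torus) is fixed by everything.
-/

set_option autoImplicit false

namespace Cfsg.Agent.Lib.MinDegree.Orth

open QuadraticMap Module Cfsg.Agent.Lib.Classical ComplexConjugate

section form

variable {G : Type*} [Group G] [Fintype G] {U : Type*} [AddCommGroup U] [Module ℂ U] [FiniteDimensional ℂ U]
  (ρ : Representation ℂ G U)

/-- an invariant Hermitian form -/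
noncomputable def invForm (x : U) : U →ₗ[ℂ] ℂ :=
  ∑ g : G, ∑ i, conj ((Module.finBasis ℂ U).equivFun (ρ g x) i) •
    ((LinearMap.proj i).comp (((Module.finBasis ℂ U).equivFun.toLinearMap).comp (ρ g)))

theorem invForm_apply (x y : U) : invForm ρ x y =
    ∑ g : G, ∑ i, conj ((Module.finBasis ℂ U).equivFun (ρ g x) i) * (Module.finBasis ℂ U).equivFun (ρ g y) i := by
  simp only [invForm, LinearMap.sum_apply, LinearMap.smul_apply, smul_eq_mul]
  rfl

theorem invForm_rep (h : G) (x y : U) : invForm ρ (ρ h x) (ρ h y) = invForm ρ x y := by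
  rw [invForm_apply, invForm_apply]
  refine Fintype.sum_equiv (Equiv.mulRight h) _ _ fun g => ?_
  simp only [Equiv.coe_mulRight, map_mul, Module.End.mul_apply]

theorem invForm_symm (x y : U) : invForm ρ x y = conj (invForm ρ y x) := by
  simp only [invForm_apply, map_sum, map_mul, Complex.conj_conj]
  exact Finset.sum_congr rfl fun g _ => Finset.sum_congr rfl fun i _ => mul_comm _ _

theorem invForm_sub_left (x x' y : U) : invForm ρ (x - x') y = invForm ρ x y - invForm ρ x' y := by
  simp only [invForm_apply, map_sub, Pi.sub_apply, sub_mul, Finset.sum_sub_distrib]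

theorem eq_zero_of_invForm {x : U} (h : invForm ρ x x = 0) : x = 0 := by
  rw [invForm_apply] at h
  have h2 : (∑ g : G, ∑ i, Complex.normSq ((Module.finBasis ℂ U).equivFun (ρ g x) i)) = 0 := by
    refine Complex.ofReal_injective ?_
    push_cast
    rw [← h]
    exact Finset.sum_congr rfl fun g _ => Finset.sum_congr rfl fun i _ => Complex.normSq_eq_conj_mul_self
  rw [Finset.sum_eq_zero_iff_of_nonneg fun g _ => Finset.sum_nonneg fun i _ => Complex.normSq_nonneg _] at h2
  have h1 := h2 1 (Finset.mem_univ _)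
  rw [Finset.sum_eq_zero_iff_of_nonneg fun i _ => Complex.normSq_nonneg _] at h1
  refine (Module.finBasis ℂ U).equivFun.injective (funext fun i => ?_)
  have := Complex.normSq_eq_zero.1 (h1 i (Finset.mem_univ _))
  rw [map_one, Module.End.one_apply] at this
  rw [map_zero]; exact this

/-- equal norms and equal to the product: equal vectors -/
theorem eq_of_invForm {g : G} {v : U} (h : invForm ρ (ρ g v) (ρ g v) = invForm ρ (ρ g v) v) : ρ g v = v := by
  refine (sub_eq_zero.1 (eq_zero_of_invForm ρ ?_))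
  have h' := congrArg conj h
  rw [← invForm_symm, ← invForm_symm] at h'
  rw [map_sub, invForm_sub_left, invForm_sub_left, ← h, ← h', invForm_rep ρ g v v]
  ring

end form

variable {F : Type*} [Field F] {W : Type*} [AddCommGroup W] [Module F W] {P : QuadraticForm F W}

theorem siegel'_cancel {V : Type*} [AddCommGroup V] [Module F V] (Q : QuadraticForm F V) (b : V) :
    hypSiegel' Q (-b) * hypSiegel' Q b = 1 := by
  apply LinearEquiv.ext
  intro p
  simp only [LinearEquiv.mul_apply, hypSiegel'_apply, LinearEquiv.coe_one, id_eq, QuadraticMap.map_neg, polar_neg_left,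
    polar_add_right, polar_smul_right, polar_self, smul_eq_mul, nsmul_eq_mul, Nat.cast_ofNat]
  refine Prod.ext rfl (Prod.ext ?_ ?_)
  · ring
  · simp

theorem siegel_swapB {V : Type*} [AddCommGroup V] [Module F V] (Q : QuadraticForm F V) (b : V) :
    hypSiegel Q ((Q b)⁻¹ • b) = hypSiegel' Q (-b) * swapB Q b * hypSiegel' Q (-b) := by
  have h1 := siegel'_cancel Q b
  have h2 : hypSiegel' Q b * hypSiegel' Q (-b) = 1 := mul_eq_one_comm.1 h1
  rw [swapB, mul_assoc (hypSiegel' Q b), ← mul_assoc (hypSiegel' Q (-b)), h1, one_mul, mul_assoc, h2, mul_one]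

theorem swap_conj_mem {k : (F × F × W) ≃ₗ[F] (F × F × W)} (hk : k ∈ eichlerGroup P) :
    hypSwap * k * hypSwap ∈ eichlerGroup P := by
  have hs : (hypSwap : (F × F × W) ≃ₗ[F] _)⁻¹ = hypSwap := inv_eq_of_mul_eq_one_right hypSwap_mul_self
  have := eichler_normalised (Q := P) (x := hypSwap) ?_ hk
  · rwa [hs] at this
  rw [hs]
  rintro _ (⟨a, rfl⟩ | ⟨a, rfl⟩)
  · exact hypSiegel'_mem_eichler P a
  · rw [hypSiegel', ← mul_assoc, ← mul_assoc, hypSwap_mul_self, one_mul, mul_assoc, hypSwap_mul_self, mul_one]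
    exact hypSiegel_mem_eichler P a

/-- the exchange of the first plane carrying the radical to the opposite one -/
theorem swap_b0_apply (p : F × F × (F × F × W)) :
    swapB (hypExt P) ((1 : F), (-1 : F), (0 : W)) p = (p.2.1, p.1, (p.2.2.2.1, p.2.2.1, p.2.2.2.2)) := by
  have hb : hypExt P ((1 : F), (-1 : F), (0 : W)) = -1 := by simp [hypExt_apply]
  rw [swapB_apply (by rw [hb]; exact neg_ne_zero.2 one_ne_zero), hb]
  simp only [polar_hypExt, polar_zero_left, inv_neg, inv_one, neg_neg, one_mul, neg_one_mul]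
  refine Prod.ext rfl (Prod.ext rfl (Prod.ext ?_ (Prod.ext ?_ ?_))) <;> simp <;> ring

theorem cnt_smul_sq (c : F) {p : F} (hp : p ≠ 0) : cnt P (c * (p * p)) = cnt P c := by
  refine Nat.card_congr
    { toFun := fun z => ⟨p⁻¹ • z.1, by rw [QuadraticMap.map_smul, z.2, smul_eq_mul]; field_simp⟩
      invFun := fun z => ⟨p • z.1, by rw [QuadraticMap.map_smul, z.2, smul_eq_mul]; ring⟩
      left_inv := fun z => Subtype.ext (by simp [smul_smul, hp])
      right_inv := fun z => Subtype.ext (by simp [smul_smul, hp]) }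

variable (P) in
/-- the exchange as an element -/
def flipE : eichlerGroup (hypExt P) := ⟨_, swapB_mem (Q := hypExt P) ((1 : F), (-1 : F), (0 : W))⟩

theorem flipE_apply (p : F × F × (F × F × W)) :
    (flipE P).1 p = (p.2.1, p.1, (p.2.2.2.1, p.2.2.1, p.2.2.2.2)) := swap_b0_apply p

theorem flipE_siegel' (a : F × F × W) :
    (⟨_, hypSiegel'_mem_eichler (hypExt P) a⟩ : eichlerGroup (hypExt P)) * flipE P
      = flipE P * radE (hypExt P) (a.2.1, a.1, a.2.2) := by
  refine Subtype.ext (LinearEquiv.ext fun p => ?_)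
  show hypSiegel' (hypExt P) a ((flipE P).1 p) = (flipE P).1 (hypSiegel (hypExt P) (a.2.1, a.1, a.2.2) p)
  rw [flipE_apply, flipE_apply, hypSiegel'_apply, hypSiegel_apply]
  simp only [polar_hypExt, hypExt_apply, Prod.fst_add, Prod.snd_add, Prod.smul_fst, Prod.smul_snd, smul_eq_mul]
  refine Prod.ext rfl (Prod.ext ?_ rfl)
  ring

theorem flipE_ind (k : eichlerGroup P) :
    indE P k * flipE P = flipE P * indE P ⟨_, swap_conj_mem k.2⟩ := by
  refine Subtype.ext (LinearEquiv.ext fun p => ?_)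
  show hypInd k.1 ((flipE P).1 p) = (flipE P).1 (hypInd (hypSwap * k.1 * hypSwap) p)
  rw [flipE_apply, flipE_apply, hypInd_apply, hypInd_apply]
  rfl

theorem flipE_swapB {x y : F} (hx : x ≠ 0) (hy : y ≠ 0) (p : F × F × (F × F × W)) :
    swapB (hypExt P) (y⁻¹, x⁻¹, (0 : W)) ((flipE P).1 p) =
      (-(x * y) * p.1, -(x * y)⁻¹ * p.2.1,
        (-(x / y) * p.2.2.1, -(y / x) * p.2.2.2.1, p.2.2.2.2)) := by
  have hQb : hypExt P (y⁻¹, x⁻¹, (0 : W)) = (x * y)⁻¹ := by rw [hypExt_apply]; simp [mul_comm]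
  rw [flipE_apply, swapB_apply (by rw [hQb]; exact inv_ne_zero (mul_ne_zero hx hy)), hQb]
  simp only [polar_hypExt, polar_zero_left, inv_inv]
  refine Prod.ext rfl (Prod.ext rfl (Prod.ext ?_ (Prod.ext ?_ ?_))) <;>
    simp only [Prod.fst_sub, Prod.snd_sub, Prod.smul_fst, Prod.smul_snd, smul_eq_mul, smul_zero, sub_zero] <;>
    field_simp <;> ring

variable [Fintype F] [DecidableEq F] [Fintype W] [DecidableEq W]

theorem card_sing_perp (c : F) :
    (Finset.univ.filter fun a : F × F × W => hypExt P a = 0 ∧ a.2.1 + c * a.1 = 0).card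
      = cnt P 0 + (Fintype.card F - 1) * cnt P c := by
  rw [← Fintype.card_subtype]
  have e : {a : F × F × W // hypExt P a = 0 ∧ a.2.1 + c * a.1 = 0} ≃ Σ p : F, {z : W // P z = c * (p * p)} :=
    { toFun := fun a => ⟨a.1.1, a.1.2.2, by
        have h := a.2.1
        rw [hypExt_apply, eq_neg_of_add_eq_zero_left a.2.2] at h
        linear_combination h⟩
      invFun := fun s => ⟨(s.1, -(c * s.1), s.2.1), by rw [hypExt_apply, s.2.2]; ring, by ring⟩
      left_inv := fun a => Subtype.ext (Prod.ext rfl (Prod.ext (eq_neg_of_add_eq_zero_left a.2.2).symm rfl))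
      right_inv := fun _ => rfl }
  rw [Fintype.card_congr e, Fintype.card_sigma, ← Finset.add_sum_erase _ _ (Finset.mem_univ (0 : F))]
  congr 1
  · rw [cnt, Nat.card_eq_fintype_card, mul_zero, mul_zero]
  · rw [Finset.sum_congr rfl fun p hp => show Fintype.card {z : W // P z = c * (p * p)} = cnt P c by
      rw [← Nat.card_eq_fintype_card]; exact cnt_smul_sq c (Finset.ne_of_mem_erase hp), Finset.sum_const,
      smul_eq_mul, Finset.card_erase_of_mem (Finset.mem_univ _), Finset.card_univ]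

omit [DecidableEq F] [DecidableEq W] [Fintype W] in
theorem sum_units_psi0 [DecidableEq F] (r : F) :
    ∑ t : Fˣ, psi0 F ((t : F) * r) = (if r = 0 then (Fintype.card F : ℂ) else 0) - 1 := by
  have hsplit : ∑ t : Fˣ, psi0 F ((t : F) * r) = (∑ t : F, psi0 F (t * r)) - 1 := by
    rw [← Finset.add_sum_erase _ _ (Finset.mem_univ (0 : F)), zero_mul, AddChar.map_zero_eq_one, add_sub_cancel_left]
    refine Finset.sum_bij (fun t _ => (t : F)) (fun t _ => Finset.mem_erase.2 ⟨t.ne_zero, Finset.mem_univ _⟩)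
      (fun _ _ _ _ h => Units.ext h) (fun b hb => ⟨Units.mk0 b (Finset.ne_of_mem_erase hb), Finset.mem_univ _, rfl⟩)
      fun _ _ => rfl
  rw [hsplit]
  congr 1
  split_ifs with h
  · simp [h, AddChar.map_zero_eq_one]
  · refine AddChar.sum_eq_zero_of_ne_one (ψ := (psi0 F).compAddMonoidHom (AddMonoidHom.mulRight r)) fun he => ?_
    refine h (psi0_eq_one_of_forall fun t => ?_)
    have := DFunLike.congr_fun he t
    rwa [AddChar.one_apply] at this

variable {U : Type*} [AddCommGroup U] [Module ℂ U] [FiniteDimensional ℂ U]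
  (ρ : Representation ℂ (eichlerGroup (hypExt P)) U)

set_option maxHeartbeats 800000 in
/-- the lemma -/
theorem fixed_of_parabolic [Nontrivial W] (hP : ∀ z, (∀ w, polar P z w = 0) → z = 0)
    {c1 c2 : F} (hc1 : c1 ≠ 0) (hc2 : c2 ≠ 0) (hcnt : cnt P c1 ≠ cnt P c2) (hs : Small ρ) {v : U}
    (hU : ∀ a, zU ρ a v = v) (hL : ∀ k, ρ (indE P k) v = v)
    (hT : ∀ c : Fˣ, ρ ⟨lev c (hypScale c), lev_scale_mem c⟩ v = v) (x : eichlerGroup (hypExt P)) :
    ρ x v = v := by
  classical
  haveI : Finite (eichlerGroup (hypExt P)) :=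
    Finite.of_injective (fun k => (k.1 : F × F × (F × F × W) → F × F × (F × F × W)))
      fun _ _ h => Subtype.ext (DFunLike.coe_injective h)
  letI := Fintype.ofFinite (eichlerGroup (hypExt P))
  have hQ := nondeg_hypExt hP
  obtain ⟨bn, hbn⟩ := exists_nonsing hP
  obtain ⟨v', hv'⟩ : ∃ v', v' = ρ (flipE P) v := ⟨_, rfl⟩
  let B := invForm ρ
  have happly : ∀ (g h : eichlerGroup (hypExt P)) (u : U), ρ g (ρ h u) = ρ (g * h) u := fun g h u => by
    rw [map_mul]; rfl
  -- the opposite radical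
  have hU' : ∀ a, ρ ⟨_, hypSiegel'_mem_eichler (hypExt P) a⟩ v' = v' := fun a => by
    rw [hv', happly, flipE_siegel', map_mul, Module.End.mul_apply]
    exact congrArg _ (hU _)
  -- the Levi complement
  have hL' : ∀ k, ρ (indE P k) v' = v' := fun k => by
    rw [hv', happly, flipE_ind, map_mul, Module.End.mul_apply, hL]
  set φ : F × F × W → ℂ := fun a => B v' (zU ρ a v') with hφ
  have hφk : ∀ (k : eichlerGroup P) (a : F × F × W), φ (k.1 a) = φ a := by
    intro k a
    have e : radE (hypExt P) (k.1 a) * indE P k = indE P k * radE (hypExt P) a :=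
      Subtype.ext (ind_siegel (eichlerGroup_le P k.2) a).symm
    show B v' (zU ρ (k.1 a) v') = _
    conv_lhs => rw [← hL' k, zU, happly, e, ← happly]
    rw [invForm_rep]
  -- the value at non-singular vectors
  have hns : ∀ a : F × F × W, hypExt P a ≠ 0 → φ a = B v' v := by
    intro a ha
    have ha0 : a ≠ 0 := fun h => ha (by rw [h, map_zero])
    obtain ⟨k, hk, x, hx, hkx⟩ := exists_plane_form hP a ha0
    rw [← hkx, hφk ⟨k, hk⟩]
    set y := hypExt P a / x
    have hy : y ≠ 0 := div_ne_zero ha hx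
    set b : F × F × W := (y⁻¹, x⁻¹, 0) with hbdef
    have hQb : hypExt P b = (x * y)⁻¹ := by rw [hypExt_apply, hbdef]; simp [mul_comm]
    have hQb0 : hypExt P b ≠ 0 := by rw [hQb]; exact inv_ne_zero (mul_ne_zero hx hy)
    have hab : (hypExt P b)⁻¹ • b = (x, y, (0 : W)) := by
      rw [hQb, hbdef, inv_inv]
      refine Prod.ext ?_ (Prod.ext ?_ (smul_zero _))
      · show x * y * y⁻¹ = x; field_simp
      · show x * y * x⁻¹ = y; field_simp
    set κ : Fˣ := Units.mk0 (-(x * y)) (neg_ne_zero.2 (mul_ne_zero hx hy))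
    set e1 : eichlerGroup (hypExt P) := ⟨_, hypSiegel'_mem_eichler (hypExt P) (-b)⟩
    have hsb : (⟨_, swapB_mem (Q := hypExt P) b⟩ : eichlerGroup (hypExt P)) * flipE P =
        ⟨lev κ (hypScale κ), lev_scale_mem κ⟩ *
          indE P ⟨_, scale_sq_mem_of_nonsing hbn ((Units.mk0 y hy)⁻¹)⟩ := by
      refine Subtype.ext (LinearEquiv.ext fun p => ?_)
      show swapB (hypExt P) (y⁻¹, x⁻¹, (0 : W)) ((flipE P).1 p) =
        lev κ (hypScale κ) (hypInd (hypScale ((Units.mk0 y hy)⁻¹ * (Units.mk0 y hy)⁻¹)) p)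
      rw [flipE_swapB hx hy, lev_apply, hypInd_apply, hypScale_apply, hypScale_apply]
      simp only [Units.val_mul, Units.val_inv_eq_inv_val, Units.val_mk0, κ]
      refine Prod.ext rfl (Prod.ext ?_ (Prod.ext ?_ (Prod.ext ?_ rfl))) <;> field_simp
    have e : radE (hypExt P) (x, y, (0 : W)) = e1 * ⟨_, swapB_mem (Q := hypExt P) b⟩ * e1 :=
      Subtype.ext (by rw [← hab]; exact siegel_swapB _ b)
    show B v' (zU ρ _ v') = _
    rw [zU, show (⟨hypSiegel (hypExt P) (x, y, (0 : W)), hypSiegel_mem_eichler _ _⟩ : eichlerGroup (hypExt P))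
      = radE (hypExt P) (x, y, (0 : W)) from rfl, e, map_mul, map_mul, Module.End.mul_apply, Module.End.mul_apply,
      hU' (-b), hv', happly _ (flipE P), hsb, map_mul, Module.End.mul_apply, hL, hT]
    conv_lhs => rw [← hv', ← hU' (-b), invForm_rep]
    rw [← hv']
  -- averaging over scalars
  set q := Fintype.card F
  set A : ℂ := ∑ l : Fˣ, φ ((l : F) • (0 : F × F × W)) - (q - 1 : ℕ) * B v' v with hA
  set D : ℂ := ∑ l : Fˣ, φ ((l : F), (0 : F), (0 : W)) - (q - 1 : ℕ) * B v' v with hD
  have hsing : ∀ a : F × F × W, a ≠ 0 → hypExt P a = 0 → ∑ l : Fˣ, φ ((l : F) • a) - (q - 1 : ℕ) * B v' v = D := by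
    intro a ha hQa
    obtain ⟨k, hk, x, hx, hkx⟩ := exists_plane_form hP a ha
    rw [hQa, zero_div] at hkx
    rw [hD]
    congr 1
    refine Fintype.sum_equiv (Equiv.mulRight (Units.mk0 x hx)) _ _ fun l => ?_
    rw [← hkx, ← map_smul, hφk ⟨k, hk⟩]
    simp
  have hcard : ((q - 1 : ℕ) : ℂ) = (q : ℂ) - 1 := by rw [Nat.cast_sub Fintype.card_pos, Nat.cast_one]
  have hq0 : (q : ℂ) - 1 ≠ 0 := by
    rw [← hcard, Nat.cast_ne_zero]
    have := Fintype.one_lt_card (α := F)
    omega
  have hfou : ∀ w : F × F × W, hypExt P w ≠ 0 →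
      (A - D) + D * ∑ a ∈ Finset.univ.filter (fun a : F × F × W => hypExt P a = 0), psi0 F (polar (hypExt P) w (-a)) = 0 := by
    intro w hw
    have hw0 : w ≠ 0 := fun h => hw (by rw [h, map_zero])
    have hone : ∀ l : Fˣ, ∑ a, psi0 F (polar (hypExt P) w (-a)) * φ ((l : F) • a) = 0 := by
      intro l
      have h0 : projW ρ ((l : F)⁻¹ • w) v' = 0 := by
        have hne : hypExt P ((l : F)⁻¹ • w) ≠ 0 := by
          rw [QuadraticMap.map_smul, smul_eq_mul]
          exact mul_ne_zero (mul_ne_zero (inv_ne_zero l.ne_zero) (inv_ne_zero l.ne_zero)) hw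
        have := projW_mem ρ ((l : F)⁻¹ • w) v'
        rwa [hs.bot _ hne, Submodule.mem_bot] at this
      have h1 := congrArg (B v') h0
      rw [map_zero, projW, eigProj, LinearMap.smul_apply, map_smul, smul_eq_mul, mul_eq_zero,
        or_iff_right (inv_ne_zero (Nat.cast_ne_zero.2 Fintype.card_ne_zero)), LinearMap.sum_apply, map_sum] at h1
      refine Eq.trans ?_ h1
      refine Fintype.sum_equiv (LinearEquiv.smulOfUnit l).toEquiv _ _ fun a => ?_
      rw [LinearMap.smul_apply, map_smul, smul_eq_mul, chW_apply]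
      show _ = psi0 F (polar (hypExt P) ((l : F)⁻¹ • w) (-((l : F) • a))) * φ ((l : F) • a)
      congr 2
      rw [polar_smul_left, ← smul_neg, polar_smul_right, smul_eq_mul, smul_eq_mul]
      field_simp
    have hchar : ∑ a, psi0 F (polar (hypExt P) w (-a)) = 0 := by
      rw [show (fun a => psi0 F (polar (hypExt P) w (-a))) = fun a => chW (hypExt P) w (-a) from rfl]
      rw [Fintype.sum_equiv (Equiv.neg (F × F × W)) (fun a => chW (hypExt P) w (-a)) (chW (hypExt P) w) fun a => rfl]
      exact AddChar.sum_eq_zero_of_ne_one fun h => hw0 (chW_injective hQ (h.trans (chW_zero _).symm))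
    have htot : ∑ a, psi0 F (polar (hypExt P) w (-a)) * (∑ l : Fˣ, φ ((l : F) • a) - (q - 1 : ℕ) * B v' v) = 0 := by
      simp only [mul_sub, Finset.sum_sub_distrib, Finset.mul_sum]
      rw [Finset.sum_comm, Finset.sum_eq_zero fun l _ => hone l, ← Finset.sum_mul, hchar, zero_mul, sub_zero]
    rw [← Finset.sum_filter_add_sum_filter_not Finset.univ (fun a : F × F × W => hypExt P a = 0),
      Finset.sum_eq_zero (s := Finset.univ.filter fun a : F × F × W => ¬ hypExt P a = 0) (fun a ha => ?_), add_zero] at htot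
    swap
    · rw [Finset.mem_filter] at ha
      rw [Finset.sum_congr rfl fun (l : Fˣ) _ => hns ((l : F) • a) (by
        rw [QuadraticMap.map_smul, smul_eq_mul]
        exact mul_ne_zero (mul_ne_zero l.ne_zero l.ne_zero) ha.2), Finset.sum_const, Finset.card_univ,
        Fintype.card_units, nsmul_eq_mul, sub_self, mul_zero]
    have h0mem : (0 : F × F × W) ∈ Finset.univ.filter (fun a : F × F × W => hypExt P a = 0) := by simp
    rw [← Finset.add_sum_erase _ _ h0mem, neg_zero, polar_zero_right, AddChar.map_zero_eq_one, one_mul,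
      Finset.sum_congr (s₁ := (Finset.univ.filter (fun a : F × F × W => hypExt P a = 0)).erase 0) rfl
        (g := fun a => psi0 F (polar (hypExt P) w (-a)) * D) (fun a ha => by
          rw [hsing a (Finset.ne_of_mem_erase ha) (Finset.mem_filter.1 (Finset.mem_of_mem_erase ha)).2]),
      ← Finset.sum_mul, Finset.sum_erase_eq_sub h0mem, neg_zero, polar_zero_right, AddChar.map_zero_eq_one] at htot
    linear_combination htot
  have hM : ∀ c : F, c ≠ 0 → ((q : ℂ) - 1) * (A - D) + D * ((q : ℂ) * ((cnt P 0 + (q - 1) * cnt P c : ℕ) : ℂ)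
      - (Finset.univ.filter (fun a : F × F × W => hypExt P a = 0)).card) = 0 := by
    intro c hc
    have hall : ∑ t : Fˣ, ((A - D) + D * ∑ a ∈ Finset.univ.filter (fun a : F × F × W => hypExt P a = 0),
        psi0 F (polar (hypExt P) ((t : F) • ((1 : F), c, (0 : W))) (-a))) = 0 :=
      Finset.sum_eq_zero fun t _ => hfou _ (by
        rw [QuadraticMap.map_smul, smul_eq_mul, hypExt_apply]
        simp [hc])
    rw [Finset.sum_add_distrib, Finset.sum_const, Finset.card_univ, Fintype.card_units, nsmul_eq_mul, hcard,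
      ← Finset.mul_sum, Finset.sum_comm] at hall
    rw [← hall, ← card_sing_perp c]
    congr 2
    rw [Finset.sum_congr rfl fun a _ => show (∑ t : Fˣ, psi0 F (polar (hypExt P) ((t : F) • ((1 : F), c, (0 : W))) (-a)))
        = (if a.2.1 + c * a.1 = 0 then (q : ℂ) else 0) - 1 by
      rw [Finset.sum_congr rfl fun t _ => show psi0 F (polar (hypExt P) (((t : Fˣ) : F) • ((1 : F), c, (0 : W))) (-a))
          = psi0 F ((t : F) * -(a.2.1 + c * a.1)) by
        rw [polar_smul_left, smul_eq_mul, polar_hypExt]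
        congr 2
        simp only [Prod.fst_neg, Prod.snd_neg, polar_zero_left]
        ring, sum_units_psi0]
      simp only [neg_eq_zero, q], Finset.sum_sub_distrib, Finset.sum_const, nsmul_eq_mul, mul_one,
      ← Finset.sum_filter, Finset.filter_filter, Finset.sum_const, nsmul_eq_mul]
    ring
  have hD0 : D = 0 := by
    have h := congrArg₂ (fun p r : ℂ => p - r) (hM c1 hc1) (hM c2 hc2)
    simp only [sub_zero] at h
    push_cast [hcard] at h
    have h' : D * ((q : ℂ) * ((q : ℂ) - 1) * ((cnt P c1 : ℂ) - cnt P c2)) = 0 := by linear_combination h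
    refine (mul_eq_zero.1 h').resolve_right (mul_ne_zero (mul_ne_zero ?_ hq0) ?_)
    · exact Nat.cast_ne_zero.2 Fintype.card_ne_zero
    · exact sub_ne_zero.2 fun h => hcnt (Nat.cast_injective h)
  have hA0 : A = 0 := by
    have h := hM c1 hc1
    rw [hD0, sub_zero, zero_mul, add_zero] at h
    exact (mul_eq_zero.1 h).resolve_left hq0
  have hkey : B v' v' = B v' v := by
    rw [hA] at hA0
    simp only [smul_zero, Finset.sum_const, Finset.card_univ, Fintype.card_units, nsmul_eq_mul] at hA0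
    rw [hcard, ← mul_sub] at hA0
    have := sub_eq_zero.1 ((mul_eq_zero.1 hA0).resolve_left hq0)
    rw [hφ] at this
    simpa [zU_zero] using this
  have hvv : v' = v := hv'.trans (eq_of_invForm ρ (g := flipE P) (v := v) (hv' ▸ hkey))
  have hgen : eichlerGens (hypExt P) ⊆ {k | ∃ hk : k ∈ eichlerGroup (hypExt P), ρ ⟨k, hk⟩ v = v} := by
    rintro _ (⟨a, rfl⟩ | ⟨a, rfl⟩)
    · exact ⟨hypSiegel_mem_eichler _ a, hU a⟩
    · exact ⟨hypSiegel'_mem_eichler _ a, by have := hU' a; rwa [hvv] at this⟩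
  obtain ⟨k, hk⟩ := x
  suffices ∃ hk : k ∈ eichlerGroup (hypExt P), ρ ⟨k, hk⟩ v = v from this.2
  induction hk using Subgroup.closure_induction with
  | mem k hk => exact hgen hk
  | one => exact ⟨one_mem _, by rw [show (⟨1, one_mem _⟩ : eichlerGroup (hypExt P)) = 1 from rfl, map_one]; rfl⟩
  | mul a b _ _ iha ihb =>
    obtain ⟨ha, ea⟩ := iha; obtain ⟨hb', eb⟩ := ihb
    refine ⟨mul_mem ha hb', ?_⟩
    rw [show (⟨a * b, mul_mem ha hb'⟩ : eichlerGroup (hypExt P)) = ⟨a, ha⟩ * ⟨b, hb'⟩ from rfl, ← happly, eb, ea]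
  | inv a _ iha =>
    obtain ⟨ha, ea⟩ := iha
    refine ⟨inv_mem ha, ?_⟩
    conv_lhs => rw [← ea, happly]
    rw [show (⟨a⁻¹, inv_mem ha⟩ : eichlerGroup (hypExt P)) * ⟨a, ha⟩ = 1 from Subtype.ext (inv_mul_cancel a), map_one]
    rfl

end Cfsg.Agent.Lib.MinDegree.Orth
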