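import Mathlib
import Cfsg.Agent.Lib.MinDegree.Orth.Descent

/-!
The Hecke operator of two planes on the vectors fixed by the two radicals.
-/

set_option autoImplicit false

namespace Cfsg.Agent.Lib.MinDegree.Orth

open QuadraticMap Cfsg.Agent.Lib.Classical

variable {F : Type*} [Field F] {W : Type*} [AddCommGroup W] [Module F W] {P : QuadraticForm F W}
  {U : Type*} [AddCommGroup U] [Module ℂ U] (ρ : Representation ℂ (eichlerGroup (hypExt P)) U)

theorem plane_conj_root (c d : F) (hd : d ≠ 0) (h : c = -d⁻¹) :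
    hypSiegel (hypExt P) (0, c, 0) * planeSwap P = planeSwap P * (hypSiegel (hypExt P) (0, d, 0) *
      lev (Units.mk0 d hd) (hypScale (Units.mk0 d hd)⁻¹ : (F × F × W) ≃ₗ[F] _) * planeSwap P *
        hypSiegel (hypExt P) (0, d, 0)) := by
  subst h
  apply LinearEquiv.ext
  intro p
  simp only [LinearEquiv.mul_apply, planeSwap_apply, hypSiegel_apply, lev_apply, hypScale_apply, polar_hypExt,
    hypExt_apply, polar_zero_left, map_zero, zero_mul, mul_zero, zero_add, add_zero, Units.val_inv_eq_inv_val,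
    Units.val_mk0, inv_inv, Prod.fst_add, Prod.snd_add, Prod.smul_fst, Prod.smul_snd, smul_eq_mul, smul_zero]
  refine Prod.ext ?_ (Prod.ext ?_ (Prod.ext ?_ (Prod.ext ?_ ?_))) <;>
    simp only [Prod.fst_add, Prod.snd_add, Prod.smul_fst, Prod.smul_snd, smul_eq_mul, smul_zero, add_zero, neg_neg] <;>
    field_simp <;> ring

theorem planeSwap_lev {g : W ≃ₗ[F] W} (a b : Fˣ) :
    planeSwap P * lev b (lev a g) = lev a (lev b g) * planeSwap P := by
  apply LinearEquiv.ext
  intro p
  simp [LinearEquiv.mul_apply, planeSwap_apply, lev_apply]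

theorem planeSwap_ind_ind (g : W ≃ₗ[F] W) :
    planeSwap P * hypInd (hypInd g) = hypInd (hypInd g) * planeSwap P := by
  have h := planeSwap_lev (P := P) (g := g) 1 1
  rwa [lev_one_left, lev_one_left] at h

variable (P) in
/-- the lower root element -/
abbrev rootE (r : F) : eichlerGroup (hypExt P) := radE (hypExt P) (0, r, 0)

variable (P) in
/-- the terms of the operator -/
def zEl (r : F) : eichlerGroup (hypExt P) := rootE P r * planeE P

/-- fixed by both radicals -/
def Fix2 (u : U) : Prop := (∀ a, zU ρ a u = u) ∧ ∀ c : W, ρ (indE P (radE P c)) u = u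

theorem Fix2.plane {u : U} (hu : Fix2 ρ u) :
    (∀ t, zU ρ (t, 0, 0) (ρ (planeE P) u) = ρ (planeE P) u) ∧
      (∀ c, zU ρ (0, 0, c) (ρ (planeE P) u) = ρ (planeE P) u) ∧
      ∀ c, ρ (indE P (radE P c)) (ρ (planeE P) u) = ρ (planeE P) u := by
  refine ⟨fun t => ?_, fun c => ?_, fun c => ?_⟩
  · rw [← Module.End.mul_apply, plane_e, Module.End.mul_apply, hu.1]
  · rw [← Module.End.mul_apply, plane_ind, Module.End.mul_apply, hu.2]
  · have h := plane_mid ρ (-c)
    rw [neg_neg] at h
    rw [← Module.End.mul_apply, ← h, Module.End.mul_apply, hu.1]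

theorem zU_split (t r : F) (c : W) :
    zU ρ (t, r, c) = zU ρ (0, r, 0) * (zU ρ (t, 0, 0) * zU ρ (0, 0, c)) := by
  rw [← zU_add, ← zU_add]
  simp

variable [Fintype F]

/-- the operator -/
noncomputable def zOp : Module.End ℂ U := ∑ r : F, ρ (zEl P r)

theorem zOp_apply (u : U) : zOp ρ u = ∑ r : F, zU ρ (0, r, 0) (ρ (planeE P) u) := by
  rw [zOp, LinearMap.sum_apply]
  exact Finset.sum_congr rfl fun r _ => by rw [zEl, map_mul, Module.End.mul_apply]

theorem Fix2.zOp {u : U} (hu : Fix2 ρ u) : Fix2 ρ (zOp ρ u) := by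
  obtain ⟨ht, hc, hi⟩ := hu.plane
  constructor
  · rintro ⟨t, r, c⟩
    rw [zOp_apply, map_sum]
    refine Fintype.sum_equiv (Equiv.addLeft r) _ _ fun s => ?_
    rw [← Module.End.mul_apply, ← zU_add, show ((t, r, c) : F × F × W) + (0, s, 0) = (t, r + s, c) by simp,
      zU_split, Module.End.mul_apply, Module.End.mul_apply, hc, ht]
    rfl
  · intro c
    rw [zOp_apply, map_sum]
    refine Finset.sum_congr rfl fun r _ => ?_
    have e : indE P (radE P c) * rootE P r
        = radE (hypExt P) (hypSiegel P c ((0 : F), r, (0 : W))) * indE P (radE P c) :=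
      Subtype.ext (ind_siegel (hypSiegel_mem P c) _)
    rw [show ρ (indE P (radE P c)) (zU ρ (0, r, 0) (ρ (planeE P) u))
        = zU ρ (hypSiegel P c ((0 : F), r, (0 : W))) (ρ (indE P (radE P c)) (ρ (planeE P) u)) by
      rw [zU, zU, ← Module.End.mul_apply, ← map_mul, e, map_mul, Module.End.mul_apply], hi,
      show hypSiegel P c ((0 : F), r, (0 : W)) = (-(P c * r), r, r • c) by rw [hypSiegel_apply]; simp,
      zU_split, Module.End.mul_apply, Module.End.mul_apply, hc, ht]

variable [Fintype W]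

/-- the operator is injective on vectors fixed by both radicals -/
theorem zOp_injective_fix2 {u : U} (hu : Fix2 ρ u) (h : zOp ρ u = 0) : u = 0 := by
  obtain ⟨ht, hc, -⟩ := hu.plane
  set A : Module.End ℂ U := ∑ a : F × F × W, zU ρ a with hA
  have hfix : ∀ x, (∀ a, zU ρ a x = x) → A x = (Fintype.card (F × F × W) : ℂ) • x := fun x hx => by
    rw [hA, LinearMap.sum_apply, Finset.sum_congr rfl fun a _ => hx a, Finset.sum_const, Finset.card_univ,
      Nat.cast_smul_eq_nsmul]
  have hAz : ∀ b, A * zU ρ b = A := fun b => by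
    rw [hA, Finset.sum_mul]
    exact Fintype.sum_equiv (Equiv.addRight b) _ _ fun a => by rw [← zU_add]; rfl
  have hAy : A (ρ (planeE P) u) = 0 := by
    rw [hA, LinearMap.sum_apply, Fintype.sum_prod_type]
    simp only [Fintype.sum_prod_type]
    rw [Finset.sum_comm]
    have : ∀ r t, (∑ c : W, zU ρ (t, r, c) (ρ (planeE P) u))
        = (Fintype.card W : ℂ) • zU ρ (0, r, 0) (ρ (planeE P) u) := fun r t => by
      rw [Finset.sum_congr rfl fun c _ => show zU ρ (t, r, c) (ρ (planeE P) u) = zU ρ (0, r, 0) (ρ (planeE P) u) by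
        rw [zU_split, Module.End.mul_apply, Module.End.mul_apply, hc, ht], Finset.sum_const, Finset.card_univ,
        Nat.cast_smul_eq_nsmul]
    rw [Finset.sum_congr rfl fun r _ => Finset.sum_congr rfl fun t _ => this r t, Finset.sum_comm]
    simp only [← Finset.smul_sum, ← zOp_apply, h, smul_zero, Finset.sum_const_zero]
  classical
  -- transport along the identity
  set s := ρ (planeE P)
  have key : ∀ r : F, r ≠ 0 → A (ρ (planeE P)⁻¹ (zU ρ (0, r, 0) (s u))) = 0 := by
    intro r hr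
    have hd : -r⁻¹ ≠ 0 := neg_ne_zero.2 (inv_ne_zero hr)
    set T : eichlerGroup (hypExt P) := ⟨_, lev_scale_inv_mem (P := P) (Units.mk0 _ hd)⟩
    have e : (planeE P)⁻¹ * (rootE P r * planeE P)
        = rootE P (-r⁻¹) * T * planeE P * rootE P (-r⁻¹) := by
      rw [inv_mul_eq_iff_eq_mul]
      exact Subtype.ext (plane_conj_root r (-r⁻¹) hd (by rw [inv_neg, inv_inv, neg_neg]))
    rw [show ρ (planeE P)⁻¹ (zU ρ (0, r, 0) (s u))
        = ρ ((planeE P)⁻¹ * (rootE P r * planeE P)) u by rw [map_mul, map_mul]; rfl,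
      e, map_mul, map_mul, map_mul, Module.End.mul_apply, Module.End.mul_apply, Module.End.mul_apply, hu.1,
      ← Module.End.mul_apply, hAz]
    have hT : A * ρ T = ρ T * A := by
      rw [hA, Finset.sum_mul, Finset.mul_sum]
      symm
      refine Fintype.sum_equiv ((hypScale (Units.mk0 _ hd)⁻¹ : (F × F × W) ≃ₗ[F] _).trans
        (LinearEquiv.smulOfUnit (Units.mk0 _ hd))).toEquiv _ _ fun a => ?_
      rw [zU, zU, ← map_mul, ← map_mul]
      exact congrArg ρ (Subtype.ext (lev_siegel (hypScale_mem P _) a))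
    rw [← Module.End.mul_apply, hT, Module.End.mul_apply, hAy, map_zero]
  have h0 : A (ρ (planeE P)⁻¹ (zOp ρ u)) = 0 := by rw [h, map_zero, map_zero]
  rw [zOp_apply, map_sum, map_sum, ← Finset.add_sum_erase _ _ (Finset.mem_univ (0 : F)),
    Finset.sum_eq_zero (fun r hr => key r (Finset.ne_of_mem_erase hr)), add_zero,
    show ((0 : F), (0 : F), (0 : W)) = 0 from rfl, zU_zero, Module.End.one_apply, ← Module.End.mul_apply (ρ _),
    ← map_mul, inv_mul_cancel, map_one, Module.End.one_apply, hfix u hu.1] at h0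
  exact (smul_eq_zero.1 h0).resolve_left (Nat.cast_ne_zero.2 Fintype.card_ne_zero)

omit [Fintype W] in
/-- transport of an element through the operator -/
theorem zOp_transport {x x' : eichlerGroup (hypExt P)} (φ : F ≃ F) (h : ∀ r, x * zEl P r = zEl P (φ r) * x') :
    ρ x * zOp ρ = zOp ρ * ρ x' := by
  rw [zOp, Finset.mul_sum, Finset.sum_mul]
  refine Fintype.sum_equiv φ _ _ fun r => ?_
  rw [← map_mul, ← map_mul, h]

omit [Fintype W] [Fintype F] in
theorem lev_root_plane {g : W ≃ₗ[F] W} (hg : g ∈ isoGroup P) (a b : Fˣ) (r : F) :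
    lev a (lev b g) * (hypSiegel (hypExt P) (0, r, 0) * planeSwap P) =
      (hypSiegel (hypExt P) (0, (a : F) * (b : F)⁻¹ * r, 0) * planeSwap P) * lev b (lev a g) := by
  rw [← mul_assoc, lev_siegel (lev_mem_iso hg), mul_assoc, mul_assoc, planeSwap_lev, lev_apply]
  simp [mul_assoc]

omit [Fintype W] in
theorem zOp_lev {g : W ≃ₗ[F] W} (hg : g ∈ isoGroup P) (a b : Fˣ)
    (h : lev a (lev b g) ∈ eichlerGroup (hypExt P)) (h' : lev b (lev a g) ∈ eichlerGroup (hypExt P)) :
    ρ ⟨_, h⟩ * zOp ρ = zOp ρ * ρ ⟨_, h'⟩ :=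
  zOp_transport ρ (Equiv.mulLeft₀ ((a : F) * (b : F)⁻¹) (mul_ne_zero a.ne_zero (inv_ne_zero b.ne_zero)))
    fun r => Subtype.ext (lev_root_plane hg a b r)

omit [Fintype W] in
theorem zOp_ind_ind {g : W ≃ₗ[F] W} (hg : g ∈ isoGroup P) {h : hypInd (hypInd g) ∈ eichlerGroup (hypExt P)} :
    ρ ⟨_, h⟩ * zOp ρ = zOp ρ * ρ ⟨_, h⟩ :=
  zOp_transport ρ (Equiv.refl F) fun r => Subtype.ext (by
    show hypInd (hypInd g) * (hypSiegel _ _ * planeSwap P) = hypSiegel _ _ * planeSwap P * hypInd (hypInd g)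
    rw [← mul_assoc, ind_siegel (hypInd_mem hg), mul_assoc, mul_assoc, planeSwap_ind_ind,
      hypInd_apply]
    simp)

end Cfsg.Agent.Lib.MinDegree.Orth
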