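import Mathlib
import Cfsg.Agent.Lib.MinDegree.Orth.Zop
import Cfsg.Agent.Lib.MinDegree.Orth.Moving
import Cfsg.Agent.Lib.MinDegree.Orth.Gram

/-!
Small representations: the Levi complement fixes a vector of the fixed space.
-/

set_option autoImplicit false

namespace Cfsg.Agent.Lib.MinDegree.Orth

open QuadraticMap Module Cfsg.Agent.Lib.Classical

variable {F : Type*} [Field F] {W : Type*} [AddCommGroup W] [Module F W] {P : QuadraticForm F W}

/-- the diagonal element of three planes -/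
def tri (a b c : Fˣ) : (F × F × (F × F × (F × F × W))) ≃ₗ[F] (F × F × (F × F × (F × F × W))) := lev a (lev b (lev c (1 : W ≃ₗ[F] W)))

theorem tri_mul (a b c a' b' c' : Fˣ) :
    (tri a b c : (F × F × (F × F × (F × F × W))) ≃ₗ[F] _) * tri a' b' c' = tri (a * a') (b * b') (c * c') := by
  rw [tri, tri, tri, lev_mul, lev_mul, lev_mul, one_mul]

theorem lev_one_one {V : Type*} [AddCommGroup V] [Module F V] :
    lev (1 : Fˣ) (1 : V ≃ₗ[F] V) = 1 := by rw [lev_one_left, hypInd_one]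

theorem tri12_mem (c : Fˣ) : tri c c⁻¹ 1 ∈ eichlerGroup (hypExt (hypExt P)) := by
  rw [tri, lev_one_one, lev_one_right]; exact lev_scale_inv_mem c

theorem tri23_mem (c : Fˣ) : tri 1 c c⁻¹ ∈ eichlerGroup (hypExt (hypExt P)) := by
  rw [tri, lev_one_left, lev_one_right]; exact hypInd_mem_eichler (lev_scale_inv_mem c)

theorem tri13_mem (c : Fˣ) : tri c 1 c⁻¹ ∈ eichlerGroup (hypExt (hypExt P)) := by
  have := mul_mem (tri12_mem (P := P) c) (tri23_mem (P := P) c)
  rwa [tri_mul, mul_one, inv_mul_cancel, one_mul] at this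

theorem triA_mem (c : Fˣ) : tri (c * c) 1 1 ∈ eichlerGroup (hypExt (hypExt P)) := by
  rw [tri, lev_one_one, lev_one_one, lev_one_right]; exact scale_sq_mem (P := hypExt P) c

theorem triB_mem (c : Fˣ) : tri 1 (c * c) 1 ∈ eichlerGroup (hypExt (hypExt P)) := by
  rw [tri, lev_one_one, lev_one_left, lev_one_right]; exact hypInd_mem_eichler (scale_sq_mem (P := P) c)

theorem triC_mem {b : W} (hb : P b ≠ 0) (c : Fˣ) : tri 1 1 (c * c) ∈ eichlerGroup (hypExt (hypExt P)) := by
  rw [tri, lev_one_left, lev_one_left, lev_one_right]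
  exact hypInd_mem_eichler (hypInd_mem_eichler (scale_sq_mem_of_nonsing hb c))

theorem planeSwap_tri (a b c : Fˣ) :
    planeSwap (hypExt P) * tri b a c = tri a b c * planeSwap (hypExt P) := planeSwap_lev a b

theorem ind_ind_lev {V : Type*} [AddCommGroup V] [Module F V] {g M g' : V ≃ₗ[F] V} (h : g * M = M * g')
    (a b : Fˣ) : hypInd (hypInd g) * lev a (lev b M) = lev a (lev b M) * hypInd (hypInd g') := by
  rw [← lev_one_left g, ← lev_one_left g', ← lev_one_left (lev 1 g), ← lev_one_left (lev 1 g'), lev_mul, lev_mul,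
    lev_mul, lev_mul, h, one_mul, one_mul, mul_one, mul_one]

variable {U : Type*} [AddCommGroup U] [Module ℂ U]
  (ρ : Representation ℂ (eichlerGroup (hypExt (hypExt P))) U)

variable (P) in
/-- the innermost group inside -/
def indEE : eichlerGroup P →* eichlerGroup (hypExt (hypExt P)) := (indE (hypExt P)).comp (indE P)

/-- fixed by both radicals and the innermost group -/
def InK (u : U) : Prop := Fix2 ρ u ∧ ∀ k, ρ (indEE P k) u = u

/-- the vectors fixed by both radicals -/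
def fix2S : Submodule ℂ U where
  carrier := {u | Fix2 ρ u}
  add_mem' {u v} hu hv := ⟨fun a => by rw [map_add, hu.1, hv.1], fun c => by rw [map_add, hu.2, hv.2]⟩
  zero_mem' := ⟨fun a => map_zero _, fun c => map_zero _⟩
  smul_mem' r u hu := ⟨fun a => by rw [map_smul, hu.1], fun c => by rw [map_smul, hu.2]⟩

theorem mem_fix2S {u : U} : u ∈ fix2S ρ ↔ Fix2 ρ u := Iff.rfl

/-- the second operator -/
noncomputable def zOp2 [Fintype F] : Module.End ℂ U :=
  zOp (P := P) (ρ.comp (indE (hypExt P)) : Representation ℂ (eichlerGroup (hypExt P)) U)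

variable [Fintype F]

theorem fix2_comp {u : U} (hu : InK ρ u) :
    Fix2 (P := P) (ρ.comp (indE (hypExt P)) : Representation ℂ (eichlerGroup (hypExt P)) U) u :=
  ⟨fun a => hu.1.2 a, fun c => hu.2 (radE P c)⟩

theorem fix2_zOp2 [Fintype W] {u : U} (hu : InK ρ u) : Fix2 ρ (zOp2 ρ u) := by
  refine ⟨?_, (fix2_comp ρ hu).zOp.1⟩
  rw [← mem_fixU]
  rw [zOp2, zOp, LinearMap.sum_apply]
  exact Submodule.sum_mem _ fun r _ => ind_mem_fix ρ (zEl P r) ((mem_fixU ρ).2 hu.1.1)

theorem zOp2_tri (a b c : Fˣ) (h : tri a b c ∈ eichlerGroup (hypExt (hypExt P)))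
    (h' : tri a c b ∈ eichlerGroup (hypExt (hypExt P))) :
    ρ ⟨_, h⟩ * zOp2 ρ = zOp2 ρ * ρ ⟨_, h'⟩ := by
  rw [zOp2, zOp, Finset.mul_sum, Finset.sum_mul]
  refine Fintype.sum_equiv (Equiv.mulLeft₀ ((b : F) * (c : F)⁻¹) (mul_ne_zero b.ne_zero (inv_ne_zero c.ne_zero))) _ _
    fun r => ?_
  rw [MonoidHom.comp_apply, MonoidHom.comp_apply, ← map_mul, ← map_mul]
  refine congrArg ρ (Subtype.ext ?_)
  show tri a b c * hypInd (hypSiegel (hypExt P) (0, r, 0) * planeSwap P) =
    hypInd (hypSiegel (hypExt P) (0, (b : F) * (c : F)⁻¹ * r, 0) * planeSwap P) * tri a c b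
  rw [tri, tri, ← lev_one_left (hypSiegel _ _ * _), ← lev_one_left (hypSiegel _ _ * planeSwap P), lev_mul, lev_mul,
    one_mul, mul_one, lev_root_plane (one_mem _)]

theorem zOp_tri (a b c : Fˣ) (h : tri a b c ∈ eichlerGroup (hypExt (hypExt P)))
    (h' : tri b a c ∈ eichlerGroup (hypExt (hypExt P))) :
    ρ ⟨_, h⟩ * zOp ρ = zOp ρ * ρ ⟨_, h'⟩ :=
  zOp_lev ρ (lev_mem_iso (one_mem _)) a b h h'

theorem inK_zOp {u : U} (hu : InK ρ u) : InK ρ (zOp ρ u) :=
  ⟨hu.1.zOp, fun k => by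
    have e : ρ (indEE P k) * zOp ρ = zOp ρ * ρ (indEE P k) := zOp_ind_ind ρ (eichlerGroup_le P k.2)
    rw [← Module.End.mul_apply, e, Module.End.mul_apply]
    exact congrArg _ (hu.2 k)⟩

omit [Fintype F] in
theorem fix2_lev {a b : Fˣ} {g : (F × F × W) ≃ₗ[F] (F × F × W)} (hg : g ∈ isoGroup (hypExt P))
    (h : lev a (lev b g) ∈ eichlerGroup (hypExt (hypExt P))) {u : U} (hu : Fix2 ρ u) : Fix2 ρ (ρ ⟨_, h⟩ u) := by
  constructor
  · intro x
    rw [← Module.End.mul_apply, zU_lev ρ (lev_mem_iso hg) h, Module.End.mul_apply, hu.1]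
  · intro x
    have e : indE (hypExt P) (radE (hypExt P) x) * ⟨_, h⟩
        = ⟨_, h⟩ * indE (hypExt P) (radE (hypExt P) ((b : F)⁻¹ • g.symm x)) := by
      refine Subtype.ext ?_
      show hypInd (hypSiegel (hypExt P) x) * lev a (lev b g)
        = lev a (lev b g) * hypInd (hypSiegel (hypExt P) ((b : F)⁻¹ • g.symm x))
      rw [← lev_one_left (hypSiegel (hypExt P) x), ← lev_one_left (hypSiegel (hypExt P) _), lev_mul, lev_mul, one_mul,
        mul_one, lev_siegel hg, map_smul, g.apply_symm_apply, smul_smul, mul_inv_cancel₀ b.ne_zero, one_smul]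
    rw [← Module.End.mul_apply, ← map_mul, e, map_mul, Module.End.mul_apply, hu.2]

omit [Fintype F] in
theorem fix2_ind_ind (k : eichlerGroup P) {u : U} (hu : Fix2 ρ u) : Fix2 ρ (ρ (indEE P k) u) := by
  have h : lev 1 (lev 1 k.1) ∈ eichlerGroup (hypExt (hypExt P)) := by
    rw [lev_one_left, lev_one_left]; exact (indEE P k).2
  have := fix2_lev ρ (eichlerGroup_le P k.2) h hu
  rwa [show (⟨_, h⟩ : eichlerGroup (hypExt (hypExt P))) = indEE P k from
    Subtype.ext (by show lev 1 (lev 1 k.1) = hypInd (hypInd k.1); rw [lev_one_left, lev_one_left])] at this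

omit [Fintype F] in
theorem inK_tri {a b c : Fˣ} (h : tri a b c ∈ eichlerGroup (hypExt (hypExt P))) {u : U} (hu : InK ρ u) :
    InK ρ (ρ ⟨_, h⟩ u) := by
  refine ⟨fix2_lev ρ (lev_mem_iso (one_mem _)) h hu.1, fun k => ?_⟩
  have hk : (lev c (1 : W ≃ₗ[F] W))⁻¹ * k.1 * lev c 1 ∈ eichlerGroup P := by
    have hinv : (lev c (1 : W ≃ₗ[F] W))⁻¹ = lev c⁻¹ 1 :=
      inv_eq_of_mul_eq_one_right (by rw [lev_mul, mul_inv_cancel, one_mul, lev_one_one])
    have := lev_normalises (Q := P) (c := c⁻¹) (one_mem _) k.2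
    rw [← hinv, inv_inv] at this
    exact this
  have e : indEE P k * ⟨_, h⟩ = ⟨_, h⟩ * indEE P ⟨_, hk⟩ := by
    refine Subtype.ext ?_
    show hypInd (hypInd k.1) * tri a b c = tri a b c * hypInd (hypInd ((lev c (1 : W ≃ₗ[F] W))⁻¹ * k.1 * lev c 1))
    exact ind_ind_lev (by rw [mul_assoc, mul_inv_cancel_left]) a b
  rw [← Module.End.mul_apply, ← map_mul, e, map_mul, Module.End.mul_apply, hu.2]

variable [Fintype W] [FiniteDimensional ℂ U]

/-- the innermost group is trivial on the isotropic lines of the first plane -/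
theorem ind_ind_line (hq : 3 < Fintype.card F) {bn : W} (hbn : P bn ≠ 0) (hs : Small ρ) {p : F} (hp : p ≠ 0)
    {u : U} (hu : u ∈ eigW ρ (p, (0 : F), (0 : F × F × W))) (k : eichlerGroup P) : ρ (indEE P k) u = u := by
  by_cases hu0 : u = 0
  · rw [hu0, map_zero]
  have hmem : ∀ k : eichlerGroup P, ρ (indEE P k) u ∈ eigW ρ (p, (0 : F), (0 : F × F × W)) := fun k => by
    have := ind_mem_eig ρ (indE P k) hu
    rwa [show (indE P k).1 (p, (0 : F), (0 : F × F × W)) = (p, 0, 0) by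
      show hypInd k.1 _ = _
      rw [hypInd_apply, map_zero]] at this
  have hne : (p, (0 : F), (0 : F × F × W)) ≠ 0 := fun h => hp (congrArg Prod.fst h)
  have scal : ∀ k, ∃ s : ℂ, ρ (indEE P k) u = s • u := by
    intro k
    by_contra hc
    push Not at hc
    have hli : LinearIndependent ℂ ![(⟨u, hu⟩ : eigW ρ _), ⟨_, hmem k⟩] :=
      (LinearIndependent.pair_iff' (fun h => hu0 (congrArg Subtype.val h))).2 fun a h =>
        hc a (congrArg Subtype.val h).symm
    have := hli.fintype_card_le_finrank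
    have := hs.le_one _ hne
    simp at *
    omega
  choose s hs' using scal
  have smul_eq : ∀ k k', s (k * k') = s k * s k' := fun k k' => by
    refine smul_left_injective ℂ hu0 ?_
    show s (k * k') • u = (s k * s k') • u
    rw [← hs', map_mul, map_mul, Module.End.mul_apply, hs' k', map_smul, hs' k, smul_smul, mul_comm]
  have s_one : s 1 = 1 := smul_left_injective ℂ hu0 (show s 1 • u = (1 : ℂ) • u by
    rw [← hs', map_one, map_one, one_smul]; rfl)
  obtain ⟨l, hl⟩ : ∃ l : Fˣ, ((l * l : Fˣ) : F) ≠ 1 := by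
    classical
    by_contra hcon
    push Not at hcon
    have hsub : (Finset.univ : Finset F) ⊆ {0, 1, -1} := fun a _ => by
      by_cases ha : a = 0
      · simp [ha]
      · have := hcon (Units.mk0 a ha)
        rw [Units.val_mul, Units.val_mk0, mul_self_eq_one_iff] at this
        simp [this]
    have := (Finset.card_le_card hsub).trans Finset.card_le_three
    rw [Finset.card_univ] at this
    omega
  set L : Fˣ := l * l
  set h : eichlerGroup P := ⟨_, scale_sq_mem_of_nonsing hbn l⟩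
  have hh : s h ≠ 0 := fun h0 => hu0 (rep_injective ρ (indEE P h) (by rw [hs', h0, zero_smul, map_zero]))
  have hgen : eichlerGens P ⊆ {k | ∃ hk : k ∈ eichlerGroup P, s ⟨k, hk⟩ = 1} := by
    rintro _ (⟨a, rfl⟩ | ⟨a, rfl⟩)
    · refine ⟨hypSiegel_mem_eichler P a, ?_⟩
      set a' := ((L : F) - 1)⁻¹ • a
      have e1 : h * radE P a' = radE P ((L : F) • a') * h := Subtype.ext (scale_siegel L a')
      have e2 : radE P a * radE P a' = radE P ((L : F) • a') := Subtype.ext (by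
        show hypSiegel P a * hypSiegel P a' = _
        rw [hypSiegel_add]
        refine congrArg (hypSiegel P) ?_
        have : (L : F) - 1 ≠ 0 := sub_ne_zero.2 hl
        simp only [a', smul_smul]
        match_scalars
        field_simp
        ring)
      have e := congrArg s e1
      rw [← e2, smul_eq, smul_eq, smul_eq] at e
      have ha' : s (radE P a') ≠ 0 := fun h0 =>
        hu0 (rep_injective ρ (indEE P (radE P a')) (by rw [hs', h0, zero_smul, map_zero]))
      exact mul_right_cancel₀ (mul_ne_zero ha' hh) (by rw [one_mul, ← mul_assoc, ← e, mul_comm])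
    · refine ⟨hypSiegel'_mem_eichler P a, ?_⟩
      set a' := ((L : F)⁻¹ - 1)⁻¹ • a
      have e1 : h * ⟨_, hypSiegel'_mem_eichler P a'⟩ = ⟨_, hypSiegel'_mem_eichler P ((L : F)⁻¹ • a')⟩ * h :=
        Subtype.ext (scale_siegel' L a')
      have e2 : (⟨_, hypSiegel'_mem_eichler P a⟩ : eichlerGroup P) * ⟨_, hypSiegel'_mem_eichler P a'⟩
          = ⟨_, hypSiegel'_mem_eichler P ((L : F)⁻¹ • a')⟩ := Subtype.ext (by
        show hypSiegel' P a * hypSiegel' P a' = _
        rw [hypSiegel', hypSiegel', mul_assoc, ← mul_assoc hypSwap, ← mul_assoc hypSwap, hypSwap_mul_self, one_mul,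
          ← mul_assoc, mul_assoc hypSwap, hypSiegel_add]
        refine congrArg (fun x => hypSwap * hypSiegel P x * hypSwap) ?_
        have : (L : F)⁻¹ - 1 ≠ 0 := sub_ne_zero.2 fun h' => hl (inv_eq_one.1 h')
        simp only [a', smul_smul]
        match_scalars
        field_simp
        ring)
      have e := congrArg s e1
      rw [← e2, smul_eq, smul_eq, smul_eq] at e
      have ha' : s ⟨_, hypSiegel'_mem_eichler P a'⟩ ≠ 0 := fun h0 =>
        hu0 (rep_injective ρ (indEE P ⟨_, hypSiegel'_mem_eichler P a'⟩) (by rw [hs', h0, zero_smul, map_zero]))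
      exact mul_right_cancel₀ (mul_ne_zero ha' hh) (by rw [one_mul, ← mul_assoc, ← e, mul_comm])
  suffices h1 : s k = 1 by rw [hs' k, h1, one_smul]
  obtain ⟨k, hk⟩ := k
  suffices ∃ hk : k ∈ eichlerGroup P, s ⟨k, hk⟩ = 1 from this.2
  induction hk using Subgroup.closure_induction with
  | mem k hk => exact hgen hk
  | one => exact ⟨one_mem _, s_one⟩
  | mul a b _ _ iha ihb =>
    obtain ⟨ha, ea⟩ := iha; obtain ⟨hb', eb⟩ := ihb
    exact ⟨mul_mem ha hb', by
      rw [show (⟨a * b, mul_mem ha hb'⟩ : eichlerGroup P) = ⟨a, ha⟩ * ⟨b, hb'⟩ from rfl, smul_eq, ea, eb, mul_one]⟩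
  | inv a _ iha =>
    obtain ⟨ha, ea⟩ := iha
    refine ⟨inv_mem ha, ?_⟩
    have := smul_eq ⟨a⁻¹, inv_mem ha⟩ ⟨a, ha⟩
    rw [ea, mul_one, show (⟨a⁻¹, inv_mem ha⟩ : eichlerGroup P) * ⟨a, ha⟩ = 1 from Subtype.ext (inv_mul_cancel a),
      s_one] at this
    exact this.symm

variable [Fintype (eichlerGroup P)]

variable (P) in
/-- the average over the innermost group -/
noncomputable abbrev avgIn : Module.End ℂ U := fixAvg (ρ.comp (indEE P) : Representation ℂ (eichlerGroup P) U)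

omit [Fintype W] [FiniteDimensional ℂ U] in
theorem fix2_avgIn {u : U} (hu : Fix2 ρ u) : InK ρ (avgIn P ρ u) := by
  refine ⟨?_, fun k => fixAvg_fixed (ρ.comp (indEE P) : Representation ℂ (eichlerGroup P) U) k u⟩
  rw [← mem_fix2S, avgIn, fixAvg, LinearMap.smul_apply, LinearMap.sum_apply]
  exact Submodule.smul_mem _ _ (Submodule.sum_mem _ fun k _ => fix2_ind_ind ρ k hu)

/-- the torus of the first two planes is trivial on the moving part -/
theorem tri12_moving (hq : 3 < Fintype.card F) (hP : ∀ z, (∀ w, polar P z w = 0) → z = 0) [Nontrivial W]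
    (hs : Small ρ) {u : U} (hu : Fix2 ρ u) (d : Fˣ) :
    ρ ⟨_, tri12_mem d⟩ (u - avgIn P ρ u) = u - avgIn P ρ u := by
  classical
  obtain ⟨bn, hbn⟩ := exists_nonsing hP
  have hQ' := nondeg_hypExt hP
  have hQ := nondeg_hypExt hQ'
  set b := u - avgIn P ρ u with hb
  have hbf : Fix2 ρ b := by
    rw [← mem_fix2S] at hu ⊢
    exact Submodule.sub_mem _ hu (fix2_avgIn ρ hu).1
  have havb : avgIn P ρ b = 0 := by
    rw [hb, map_sub, avgIn, fixAvg_of_fixed _ fun k => fixAvg_fixed _ k u, sub_self]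
  obtain ⟨ht, hc, -⟩ := hbf.plane
  set y := ρ (planeE (hypExt P)) b
  have havy : avgIn P ρ y = 0 := by
    rw [avgIn, fixAvg_commute _ (M := ρ (planeE (hypExt P))) (Equiv.refl _) (fun k => ?_), ← avgIn, havb, map_zero]
    show ρ (planeE (hypExt P)) * ρ (indEE P k) = ρ (indEE P k) * ρ (planeE (hypExt P))
    rw [← map_mul, ← map_mul]
    exact congrArg ρ (Subtype.ext (planeSwap_ind_ind k.1))
  have hyfix : ∀ a, zU ρ a y = y := by
    rw [← mem_fixU, ← sum_projW ρ hQ y]
    refine Submodule.sum_mem _ fun w _ => ?_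
    by_cases hw : w = 0
    · rw [hw, ← eigW_zero]; exact projW_mem ρ 0 y
    · suffices hz : projW ρ w y = 0 by rw [hz]; exact Submodule.zero_mem _
      by_contra hne
      obtain ⟨h1, h2⟩ := plane_component ρ hQ' (w := (0 : F × F × W)) (fun t => hbf.1 _)
        (fun c => by rw [hbf.2, chW_zero, AddChar.zero_apply, one_smul]) hne
      have hp : w.1 ≠ 0 := fun h => hw (Prod.ext h (Prod.ext h1 h2))
      apply hne
      rw [show w = (w.1, (0 : F), (0 : F × F × W)) from Prod.ext rfl (Prod.ext h1 h2)]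
      have hlin : projW ρ (w.1, (0 : F), (0 : F × F × W)) (avgIn P ρ y) =
          projW ρ (w.1, (0 : F), (0 : F × F × W)) y := by
        rw [avgIn, fixAvg, LinearMap.smul_apply, LinearMap.sum_apply, map_smul, map_sum,
          Finset.sum_congr rfl fun k _ => show projW ρ (w.1, (0 : F), (0 : F × F × W))
              ((ρ.comp (indEE P) : Representation ℂ (eichlerGroup P) U) k y) =
              projW ρ (w.1, (0 : F), (0 : F × F × W)) y by
            have hx : lev 1 (hypInd k.1) ∈ eichlerGroup (hypExt (hypExt P)) := by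
              rw [lev_one_left]; exact (indEE P k).2
            have h := projW_lev ρ (hypInd_mem (eichlerGroup_le P k.2)) hx hQ (w.1, (0 : F), (0 : F × F × W)) y
            rw [Units.val_one, inv_one, one_smul, hypInd_apply, map_zero,
              show (⟨_, hx⟩ : eichlerGroup (hypExt (hypExt P))) = indEE P k from Subtype.ext (lev_one_left _),
              ind_ind_line ρ hq hbn hs hp (projW_mem ρ _ y) k] at h
            exact h,
          Finset.sum_const, Finset.card_univ, ← Nat.cast_smul_eq_nsmul ℂ, smul_smul,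
          inv_mul_cancel₀ (Nat.cast_ne_zero.2 Fintype.card_ne_zero), one_smul]
      rw [← hlin, havy, map_zero]
  have key : ∀ d : Fˣ, ρ ⟨_, tri12_mem d⟩ y = b := by
    intro d
    have hd0 : (d : F) ≠ 0 := d.ne_zero
    have e : rootE (hypExt P) (-(d : F)⁻¹) * planeE (hypExt P) = planeE (hypExt P) *
        (rootE (hypExt P) d * ⟨_, tri12_mem d⟩ * planeE (hypExt P) * rootE (hypExt P) d) := by
      refine Subtype.ext ((plane_conj_root (P := hypExt P) _ (d : F) hd0 rfl).trans ?_)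
      rw [show Units.mk0 (d : F) hd0 = d from Units.ext rfl, ← lev_one_right (V := F × F × W) d⁻¹, ← lev_one_one]
      rfl
    have h := congrArg (fun x => ρ x b) e
    simp only [map_mul, Module.End.mul_apply] at h
    rw [show ρ (rootE (hypExt P) (-(d : F)⁻¹)) (ρ (planeE (hypExt P)) b) = ρ (planeE (hypExt P)) b from hyfix _,
      show ρ (rootE (hypExt P) d) b = b from hbf.1 _] at h
    have h2 := rep_injective ρ _ h
    have h3 : ρ (rootE (hypExt P) d) b = b := hbf.1 _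
    exact rep_injective ρ (rootE (hypExt P) d) (h2.symm.trans h3.symm)
  have hy : y = b := by
    have := key 1
    rwa [show (⟨_, tri12_mem (P := P) 1⟩ : eichlerGroup (hypExt (hypExt P))) = 1 from Subtype.ext (by
      show tri 1 1⁻¹ 1 = (1 : (F × F × (F × F × (F × F × W))) ≃ₗ[F] _)
      rw [inv_one, tri, lev_one_one, lev_one_one, lev_one_one]), map_one, Module.End.one_apply] at this
  have := key d
  rwa [hy] at this

omit [Fintype W] [FiniteDimensional ℂ U] [Fintype (eichlerGroup P)] in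
theorem rep_tri_mul {a b c a' b' c' : Fˣ} (h : tri a b c ∈ eichlerGroup (hypExt (hypExt P)))
    (h' : tri a' b' c' ∈ eichlerGroup (hypExt (hypExt P)))
    (h'' : tri (a * a') (b * b') (c * c') ∈ eichlerGroup (hypExt (hypExt P))) (u : U) :
    ρ ⟨_, h⟩ (ρ ⟨_, h'⟩ u) = ρ ⟨_, h''⟩ u := by
  rw [← Module.End.mul_apply, ← map_mul]
  exact congrArg (fun x => ρ x u) (Subtype.ext (tri_mul a b c a' b' c'))

omit [Fintype W] [FiniteDimensional ℂ U] [Fintype (eichlerGroup P)] in
theorem rep_tri_congr {a b c a' b' c' : Fˣ} (ha : a = a') (hb : b = b') (hc : c = c')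
    (h : tri a b c ∈ eichlerGroup (hypExt (hypExt P))) (h' : tri a' b' c' ∈ eichlerGroup (hypExt (hypExt P))) :
    ρ ⟨_, h⟩ = ρ ⟨_, h'⟩ := by
  subst ha hb hc; rfl

omit [Fintype W] [FiniteDimensional ℂ U] [Fintype (eichlerGroup P)] in
theorem rep_tri_one (h : tri (1 : Fˣ) 1 1 ∈ eichlerGroup (hypExt (hypExt P))) (u : U) : ρ ⟨_, h⟩ u = u := by
  rw [show (⟨_, h⟩ : eichlerGroup (hypExt (hypExt P))) = 1 from Subtype.ext (by
    show tri 1 1 1 = (1 : (F × F × (F × F × (F × F × W))) ≃ₗ[F] _)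
    rw [tri, lev_one_one, lev_one_one, lev_one_one]), map_one]
  rfl

set_option maxHeartbeats 800000 in
/-- some vector of `K` is fixed by the torus of the last two planes -/
theorem exists_tri23_fixed (hq : 3 < Fintype.card F) (hP : ∀ z, (∀ w, polar P z w = 0) → z = 0) [Nontrivial W]
    (hs : Small ρ) {u0 : U} (h0 : InK ρ u0) (hne : u0 ≠ 0) :
    ∃ u, u ≠ 0 ∧ InK ρ u ∧ ∀ c : Fˣ, ρ ⟨_, tri23_mem c⟩ u = u := by
  classical
  by_contra hcon
  push Not at hcon
  obtain ⟨bn, hbn⟩ := exists_nonsing hP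
  have only : ∀ u, InK ρ u → (∀ c : Fˣ, ρ ⟨_, tri23_mem c⟩ u = u) → u = 0 := fun u hu h => by
    by_contra hn
    obtain ⟨c, hc⟩ := hcon u hn hu
    exact hc (h c)
  have inK_sum : ∀ (f : Fˣ → U), (∀ c, InK ρ (f c)) → InK ρ (∑ c, f c) := fun f hf =>
    ⟨(mem_fix2S ρ).1 (Submodule.sum_mem _ fun c _ => (mem_fix2S ρ).2 (hf c).1), fun k => by
      rw [map_sum]; exact Finset.sum_congr rfl fun c _ => (hf c).2 k⟩
  have inj : ∀ u v, Fix2 ρ u → Fix2 ρ v → zOp ρ u = zOp ρ v → u = v := fun u v hu hv h =>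
    sub_eq_zero.1 (zOp_injective_fix2 ρ ((mem_fix2S ρ).1 (Submodule.sub_mem _ ((mem_fix2S ρ).2 hu)
      ((mem_fix2S ρ).2 hv))) (by rw [map_sub, h, sub_self]))
  have inj2 : ∀ u v, InK ρ u → InK ρ v → zOp2 ρ u = zOp2 ρ v → u = v := fun u v hu hv h =>
    sub_eq_zero.1 (zOp_injective_fix2 _
      ⟨fun a => by rw [map_sub, (fix2_comp ρ hu).1, (fix2_comp ρ hv).1],
        fun c => by rw [map_sub, (fix2_comp ρ hu).2, (fix2_comp ρ hv).2]⟩
      (by rw [map_sub]; exact sub_eq_zero.2 h))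
  -- sums over the tori vanish
  have s23 : ∀ u, InK ρ u → ∑ c : Fˣ, ρ ⟨_, tri23_mem c⟩ u = 0 := by
    intro u hu
    refine only _ (inK_sum _ fun c => inK_tri ρ _ hu) fun d => ?_
    rw [map_sum]
    refine Fintype.sum_equiv (Equiv.mulLeft d) _ _ fun c => ?_
    rw [rep_tri_mul ρ (tri23_mem d) (tri23_mem c) (by rw [one_mul, ← mul_inv]; exact tri23_mem _)]
    exact congrArg (fun M : Module.End ℂ U => M u) (rep_tri_congr ρ (one_mul 1) rfl (mul_inv _ _).symm _ _)
  have s13 : ∀ u, InK ρ u → ∑ c : Fˣ, ρ ⟨_, tri13_mem c⟩ u = 0 := by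
    intro u hu
    refine inj _ 0 (inK_sum _ fun c => inK_tri ρ _ hu).1 ((mem_fix2S ρ).1 (Submodule.zero_mem _)) ?_
    rw [map_sum, map_zero, ← s23 _ (inK_zOp ρ hu)]
    refine Finset.sum_congr rfl fun c _ => ?_
    rw [← Module.End.mul_apply, ← zOp_tri ρ 1 c c⁻¹ (tri23_mem c) (tri13_mem c)]
    rfl
  -- the second operator preserves `K`
  have hZ2 : ∀ u, InK ρ u → InK ρ (zOp2 ρ u) := by
    intro u hu
    set y := zOp2 ρ u
    have hy := fix2_zOp2 ρ hu
    have hsum : ∑ c : Fˣ, ρ ⟨_, tri12_mem c⟩ y = 0 := by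
      rw [← map_zero (zOp2 ρ), ← s13 u hu, map_sum]
      refine Finset.sum_congr rfl fun c _ => ?_
      rw [← Module.End.mul_apply, zOp2_tri ρ c c⁻¹ 1 (tri12_mem c) (tri13_mem c)]
      rfl
    have hcomm : ∀ (c : Fˣ) (v : U), avgIn P ρ (ρ ⟨_, tri12_mem c⟩ v) = ρ ⟨_, tri12_mem c⟩ (avgIn P ρ v) := by
      intro c v
      refine fixAvg_commute _ (Equiv.refl _) (fun k => ?_) v
      show ρ ⟨_, tri12_mem c⟩ * ρ (indEE P k) = ρ (indEE P k) * ρ ⟨_, tri12_mem c⟩
      rw [← map_mul, ← map_mul]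
      refine congrArg ρ (Subtype.ext ?_)
      show tri c c⁻¹ 1 * hypInd (hypInd k.1) = hypInd (hypInd k.1) * tri c c⁻¹ 1
      rw [tri, lev_one_one]
      exact (ind_ind_lev (by rw [mul_one, one_mul]) _ _).symm
    have e1 := congrArg (avgIn P ρ) hsum
    rw [map_sum, map_zero, Finset.sum_congr rfl fun c _ => hcomm c y] at e1
    have e2 : ∑ c : Fˣ, ρ ⟨_, tri12_mem c⟩ (y - avgIn P ρ y) = 0 := by
      simp only [map_sub, Finset.sum_sub_distrib, hsum, e1, sub_zero]
    rw [Finset.sum_congr rfl fun c _ => tri12_moving ρ hq hP hs hy c, Finset.sum_const, Finset.card_univ,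
      ← Nat.cast_smul_eq_nsmul ℂ, smul_eq_zero, Nat.cast_eq_zero] at e2
    have e3 := sub_eq_zero.1 (e2.resolve_left Fintype.card_ne_zero)
    show InK ρ (zOp2 ρ u)
    rw [e3]
    exact fix2_avgIn ρ hy
  -- squares act trivially
  have hC : ∀ (u : U) (c : Fˣ), InK ρ u → ρ ⟨_, triC_mem hbn c⟩ u = u := fun u c hu => by
    rw [show (⟨_, triC_mem hbn c⟩ : eichlerGroup (hypExt (hypExt P))) =
        indEE P ⟨_, scale_sq_mem_of_nonsing hbn c⟩ from Subtype.ext (by
      show (tri 1 1 (c * c) : (F × F × (F × F × (F × F × W))) ≃ₗ[F] _) = hypInd (hypInd (hypScale (c * c) : (F × F × W) ≃ₗ[F] _))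
      rw [tri, lev_one_left, lev_one_left, lev_one_right])]
    exact hu.2 _
  have hB : ∀ (u : U) (c : Fˣ), InK ρ u → ρ ⟨_, triB_mem c⟩ u = u := fun u c hu => by
    refine inj2 _ _ (inK_tri ρ _ hu) hu ?_
    rw [← Module.End.mul_apply, ← zOp2_tri ρ 1 1 (c * c) (triC_mem hbn c) (triB_mem c), Module.End.mul_apply,
      hC _ c (hZ2 u hu)]
  have hA : ∀ (u : U) (c : Fˣ), InK ρ u → ρ ⟨_, triA_mem c⟩ u = u := fun u c hu => by
    refine inj _ _ (inK_tri ρ _ hu).1 hu.1 ?_
    rw [← Module.End.mul_apply, ← zOp_tri ρ 1 (c * c) 1 (triB_mem c) (triA_mem c), Module.End.mul_apply,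
      hB _ c (inK_zOp ρ hu)]
  have sq23 : ∀ (u : U) (l : Fˣ), InK ρ u → ρ ⟨_, tri23_mem (l * l)⟩ u = u := fun u l hu => by
    have h1 : tri 1 (l * l) (l⁻¹ * l⁻¹) ∈ eichlerGroup (hypExt (hypExt P)) := by
      rw [← mul_inv]; exact tri23_mem _
    rw [rep_tri_congr ρ rfl rfl (mul_inv l l) (tri23_mem (l * l)) h1]
    rw [← rep_tri_congr ρ (one_mul 1) (mul_one (l * l)) (one_mul (l⁻¹ * l⁻¹))
      (by rw [one_mul, mul_one, one_mul]; exact h1) h1,
      ← rep_tri_mul ρ (triB_mem l) (triC_mem hbn l⁻¹) _ u, hC _ _ hu, hB _ _ hu]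
  -- a non-square
  obtain ⟨ν, hν⟩ : ∃ ν : Fˣ, ¬ IsSquare (ν : F) := by
    by_contra hall
    push Not at hall
    refine hne (only u0 h0 fun c => ?_)
    obtain ⟨r, hr⟩ := hall c
    have hr0 : r ≠ 0 := by rintro rfl; exact c.ne_zero (by simpa using hr)
    rw [show c = Units.mk0 r hr0 * Units.mk0 r hr0 from Units.ext hr]
    exact sq23 u0 _ h0
  have hsq : ∀ c : Fˣ, ¬ IsSquare (c : F) → ∃ l : Fˣ, c = ν * (l * l) := by
    intro c hc
    have h2 : ringChar F ≠ 2 := fun h => hν (by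
      haveI : CharP F 2 := h ▸ ringChar.charP F
      exact FiniteField.isSquare_of_char_two h _)
    obtain ⟨r, hr⟩ : IsSquare ((c : F) * (ν : F)⁻¹) := by
      rw [← quadraticChar_one_iff_isSquare (mul_ne_zero c.ne_zero (inv_ne_zero ν.ne_zero)), map_mul,
        quadraticChar_neg_one_iff_not_isSquare.2 hc]
      have : ¬ IsSquare ((ν : F)⁻¹) := fun ⟨r, hr⟩ => hν ⟨r⁻¹, by rw [← mul_inv, ← hr, inv_inv]⟩
      rw [quadraticChar_neg_one_iff_not_isSquare.2 this]
      norm_num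
    have hr0 : r ≠ 0 := by
      rintro rfl
      exact mul_ne_zero c.ne_zero (inv_ne_zero ν.ne_zero) (by simpa using hr)
    exact ⟨Units.mk0 r hr0, Units.ext (by
      rw [Units.val_mul, Units.val_mul, Units.val_mk0, ← hr]; field_simp)⟩
  have n23 : ∀ u, InK ρ u → ρ ⟨_, tri23_mem ν⟩ u + u = 0 := by
    intro u hu
    have hK : InK ρ (ρ ⟨_, tri23_mem ν⟩ u + u) :=
      ⟨(mem_fix2S ρ).1 (Submodule.add_mem _ ((mem_fix2S ρ).2 (inK_tri ρ _ hu).1) ((mem_fix2S ρ).2 hu.1)),
        fun k => by rw [map_add, (inK_tri ρ _ hu).2, hu.2]⟩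
    refine only _ hK fun c => ?_
    by_cases hc : IsSquare (c : F)
    · obtain ⟨r, hr⟩ := hc
      have hr0 : r ≠ 0 := by rintro rfl; exact c.ne_zero (by simpa using hr)
      rw [show c = Units.mk0 r hr0 * Units.mk0 r hr0 from Units.ext hr]
      exact sq23 _ _ hK
    · obtain ⟨l, rfl⟩ := hsq c hc
      have h1 : tri (1 * 1) (ν * (l * l)) (ν⁻¹ * (l * l)⁻¹) ∈ eichlerGroup (hypExt (hypExt P)) := by
        rw [one_mul, ← mul_inv]; exact tri23_mem _
      rw [rep_tri_congr ρ (one_mul 1).symm rfl (mul_inv ν (l * l)) (tri23_mem (ν * (l * l))) h1,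
        ← rep_tri_mul ρ (tri23_mem ν) (tri23_mem (l * l)) h1, sq23 _ _ hK, map_add]
      have h2 : tri (1 * 1) (ν * ν) (ν⁻¹ * ν⁻¹) ∈ eichlerGroup (hypExt (hypExt P)) := by
        rw [one_mul, ← mul_inv]; exact tri23_mem _
      rw [rep_tri_mul ρ (tri23_mem ν) (tri23_mem ν) h2, rep_tri_congr ρ (one_mul 1) rfl (mul_inv ν ν).symm h2
        (tri23_mem (ν * ν)), sq23 u ν hu, add_comm]
  have n13 : ∀ u, InK ρ u → ρ ⟨_, tri13_mem ν⟩ u + u = 0 := fun u hu => by
    refine inj _ 0 ((mem_fix2S ρ).1 (Submodule.add_mem _ ((mem_fix2S ρ).2 (inK_tri ρ _ hu).1)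
      ((mem_fix2S ρ).2 hu.1))) ((mem_fix2S ρ).1 (Submodule.zero_mem _)) ?_
    rw [map_add, map_zero, ← Module.End.mul_apply, ← zOp_tri ρ 1 ν ν⁻¹ (tri23_mem ν) (tri13_mem ν),
      Module.End.mul_apply]
    exact n23 _ (inK_zOp ρ hu)
  have hy : InK ρ (zOp2 ρ u0) := hZ2 u0 h0
  have h12 : ρ ⟨_, tri12_mem ν⟩ (zOp2 ρ u0) + zOp2 ρ u0 = 0 := by
    rw [← Module.End.mul_apply, zOp2_tri ρ ν ν⁻¹ 1 (tri12_mem ν) (tri13_mem ν), Module.End.mul_apply, ← map_add,
      n13 u0 h0, map_zero]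
  have h13 := n13 _ hy
  have hm : tri (ν * 1) (ν⁻¹ * ν) (1 * ν⁻¹) ∈ eichlerGroup (hypExt (hypExt P)) := by
    rw [mul_one, inv_mul_cancel, one_mul]; exact tri13_mem ν
  rw [← rep_tri_congr ρ (mul_one ν) (inv_mul_cancel ν) (one_mul ν⁻¹) hm (tri13_mem ν),
    ← rep_tri_mul ρ (tri12_mem ν) (tri23_mem ν) hm, eq_neg_of_add_eq_zero_left (n23 _ hy), map_neg,
    eq_neg_of_add_eq_zero_left h12, neg_neg, ← two_smul ℂ, smul_eq_zero] at h13
  exact hne (inj2 _ 0 h0 ⟨(mem_fix2S ρ).1 (Submodule.zero_mem _), fun k => map_zero _⟩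
    (by rw [h13.resolve_left two_ne_zero, map_zero]))

end Cfsg.Agent.Lib.MinDegree.Orth
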