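import Mathlib
import Cfsg.Agent.Lib.MinDegree.Orth.FixedVector

/-!
From the torus-fixed vector to a vector fixed by the Levi complement; three such vectors over a point.
-/

set_option autoImplicit false

namespace Cfsg.Agent.Lib.MinDegree.Orth

open QuadraticMap Module Cfsg.Agent.Lib.Classical

variable {F : Type*} [Field F] [Fintype F] {W : Type*} [AddCommGroup W] [Module F W] [Fintype W]
  {P : QuadraticForm F W} {U : Type*} [AddCommGroup U] [Module ℂ U] [FiniteDimensional ℂ U]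
  (ρ : Representation ℂ (eichlerGroup (hypExt (hypExt P))) U)

/-- two non-zero values are taken unequally often -/
def Uneven (P : QuadraticForm F W) : Prop := ∃ c1 c2 : F, c1 ≠ 0 ∧ c2 ≠ 0 ∧ cnt P c1 ≠ cnt P c2

theorem Uneven.hypExt (h : Uneven P) : Uneven (hypExt P) := by
  obtain ⟨c1, c2, h1, h2, hne⟩ := h
  refine ⟨c1, c2, h1, h2, fun e => hne ?_⟩
  have e1 := cnt_hypExt (Q := P) c1
  have e2 := cnt_hypExt (Q := P) c2
  rw [e] at e1
  exact Nat.eq_of_mul_eq_mul_left (Nat.card_pos (α := F)) (by omega)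

omit [Fintype F] [Fintype W] [FiniteDimensional ℂ U] in
theorem InK.sub {u v : U} (hu : InK ρ u) (hv : InK ρ v) : InK ρ (u - v) :=
  ⟨(mem_fix2S ρ).1 (Submodule.sub_mem _ ((mem_fix2S ρ).2 hu.1) ((mem_fix2S ρ).2 hv.1)),
    fun k => by rw [map_sub, hu.2, hv.2]⟩

/-- the Levi complement fixes a vector -/
theorem exists_levi_fixed (hq : 3 < Fintype.card F) (hP : ∀ z, (∀ w, polar P z w = 0) → z = 0) [Nontrivial W]
    (hcnt : Uneven P) (hs : Small ρ) {u0 : U} (h0 : InK ρ u0) (hne : u0 ≠ 0) :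
    ∃ u, u ≠ 0 ∧ Fix2 ρ u ∧ ∀ k, ρ (indE (hypExt P) k) u = u := by
  classical
  haveI := finite_eichler P
  letI := Fintype.ofFinite (eichlerGroup P)
  obtain ⟨u, hu0, hu, h23⟩ := exists_tri23_fixed ρ hq hP hs h0 hne
  obtain ⟨c1, c2, hc1, hc2, hc⟩ := hcnt
  obtain ⟨bn, hbn⟩ := exists_nonsing hP
  refine ⟨u, hu0, hu.1, fun k => ?_⟩
  have hU : u ∈ fixU ρ := (mem_fixU ρ).2 hu.1.1
  have := fixed_of_parabolic (descRep ρ) hP hc1 hc2 hc (Small.desc ρ (nondeg_hypExt hP) hs) (v := ⟨u, hU⟩)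
    (fun a => Subtype.ext (hu.1.2 a)) (fun k => Subtype.ext (hu.2 k)) (fun c => Subtype.ext ?_) k
  · exact congrArg Subtype.val this
  show ρ (indE (hypExt P) ⟨lev c (hypScale c), lev_scale_mem c⟩) u = u
  have h1 : tri (1 * 1) (c * 1) (c⁻¹ * (c * c)) ∈ eichlerGroup (hypExt (hypExt P)) := by
    rw [one_mul, mul_one, inv_mul_cancel_left, tri, lev_one_left, lev_one_right]
    exact hypInd_mem_eichler (lev_scale_mem c)
  rw [show indE (hypExt P) ⟨lev c (hypScale c), lev_scale_mem c⟩ = ⟨_, h1⟩ from Subtype.ext (by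
    show hypInd (lev c (hypScale c : (F × F × W) ≃ₗ[F] _)) = tri (1 * 1) (c * 1) (c⁻¹ * (c * c))
    rw [one_mul, mul_one, inv_mul_cancel_left, tri, lev_one_left, lev_one_right]),
    ← rep_tri_mul ρ (tri23_mem c) (triC_mem hbn c) h1,
    show (⟨_, triC_mem hbn c⟩ : eichlerGroup (hypExt (hypExt P))) =
        indEE P ⟨_, scale_sq_mem_of_nonsing hbn c⟩ from Subtype.ext (by
      show (tri 1 1 (c * c) : (F × F × (F × F × (F × F × W))) ≃ₗ[F] _) =
        hypInd (hypInd (hypScale (c * c) : (F × F × W) ≃ₗ[F] _))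
      rw [tri, lev_one_left, lev_one_left, lev_one_right]), hu.2, h23]

set_option maxHeartbeats 400000 in
/-- without fixed vectors there are three independent vectors fixed by both radicals -/
theorem three_le_fix2 (hq : 3 < Fintype.card F) (hP : ∀ z, (∀ w, polar P z w = 0) → z = 0) [Nontrivial W]
    (hcnt : Uneven P) (hs : Small ρ) (hn : NoFix ρ) (hall : ∀ u, Fix2 ρ u → InK ρ u) {u0 : U} (h0 : InK ρ u0)
    (hne : u0 ≠ 0) : 3 ≤ finrank ℂ (fix2S ρ) := by
  classical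
  haveI := finite_eichler (hypExt (hypExt P))
  obtain ⟨u, hu0, hu2, huL⟩ := exists_levi_fixed ρ hq hP hcnt hs h0 hne
  have hu := hall u hu2
  -- not fixed by the first torus
  obtain ⟨e, he⟩ : ∃ e : Fˣ, ρ ⟨_, tri12_mem e⟩ u ≠ u := by
    by_contra hcon
    push Not at hcon
    obtain ⟨c1, c2, hc1, hc2, hc⟩ := hcnt.hypExt
    refine hu0 (hn u (fixed_of_parabolic ρ (nondeg_hypExt hP) hc1 hc2 hc hs hu2.1 huL fun c => ?_))
    have h1 : tri (c * 1) (c⁻¹ * (c * c)) (1 * 1) ∈ eichlerGroup (hypExt (hypExt P)) := by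
      rw [one_mul, mul_one, inv_mul_cancel_left, tri, lev_one_one, lev_one_right]
      exact lev_scale_mem c
    rw [show (⟨lev c (hypScale c), lev_scale_mem c⟩ : eichlerGroup (hypExt (hypExt P))) = ⟨_, h1⟩ from Subtype.ext (by
      show lev c (hypScale c : (F × F × (F × F × W)) ≃ₗ[F] _) = tri (c * 1) (c⁻¹ * (c * c)) (1 * 1)
      rw [one_mul, mul_one, inv_mul_cancel_left, tri, lev_one_one, lev_one_right]),
      ← rep_tri_mul ρ (tri12_mem c) (triB_mem c) h1,
      show (⟨_, triB_mem c⟩ : eichlerGroup (hypExt (hypExt P))) = indE (hypExt P) ⟨_, scale_sq_mem c⟩ from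
        Subtype.ext (by
          show (tri 1 (c * c) 1 : (F × F × (F × F × (F × F × W))) ≃ₗ[F] _) =
            hypInd (hypScale (c * c) : (F × F × (F × F × W)) ≃ₗ[F] _)
          rw [tri, lev_one_one, lev_one_left, lev_one_right]), huL, hcon c]
  have h23u : ∀ c : Fˣ, ρ ⟨_, tri23_mem c⟩ u = u := fun c => by
    rw [show (⟨_, tri23_mem c⟩ : eichlerGroup (hypExt (hypExt P))) =
      indE (hypExt P) ⟨_, lev_scale_inv_mem c⟩ from Subtype.ext (by
        show (tri 1 c c⁻¹ : (F × F × (F × F × (F × F × W))) ≃ₗ[F] _) = hypInd (lev c (hypScale c⁻¹ : (F × F × W) ≃ₗ[F] _))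
        rw [tri, lev_one_left, lev_one_right])]
    exact huL _
  -- the three tori commute
  have comm : ∀ (a b : Fˣ) (v : U), ρ ⟨_, tri23_mem b⟩ (ρ ⟨_, tri12_mem a⟩ v) = ρ ⟨_, tri12_mem a⟩ (ρ ⟨_, tri23_mem b⟩ v) :=
    fun a b v => by
    simp only [← Module.End.mul_apply, ← map_mul]
    refine congrArg (fun x => ρ x v) (Subtype.ext ?_)
    show tri 1 b b⁻¹ * tri a a⁻¹ 1 = tri a a⁻¹ 1 * tri 1 b b⁻¹
    rw [tri_mul, tri_mul, mul_comm 1 a, mul_comm b a⁻¹, mul_comm b⁻¹ 1]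
  have split : ∀ (c : Fˣ) (v : U), ρ ⟨_, tri13_mem c⟩ v = ρ ⟨_, tri12_mem c⟩ (ρ ⟨_, tri23_mem c⟩ v) := fun c v => by
    simp only [← Module.End.mul_apply, ← map_mul]
    refine congrArg (fun x => ρ x v) (Subtype.ext ?_)
    show tri c 1 c⁻¹ = tri c c⁻¹ 1 * tri 1 c c⁻¹
    rw [tri_mul, mul_one, inv_mul_cancel, one_mul]
  set u' := zOp ρ u
  have hu' := inK_zOp ρ hu
  set u'' := zOp2 ρ u'
  have hu'' := fix2_zOp2 ρ hu'
  set a := ρ ⟨_, tri12_mem e⟩ u
  set D := ρ ⟨_, tri12_mem e⁻¹⟩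
  have hDfix : ∀ x, (∀ c : Fˣ, ρ ⟨_, tri23_mem c⟩ x = x) → ∀ c : Fˣ, ρ ⟨_, tri23_mem c⟩ (D x) = D x :=
    fun x hx c => by rw [comm, hx c]
  have hD : D u ≠ u := fun h => he (by
    have h1 := congrArg (ρ ⟨_, tri12_mem e⟩) h
    rw [← Module.End.mul_apply, ← map_mul,
      show (⟨_, tri12_mem e⟩ : eichlerGroup (hypExt (hypExt P))) * ⟨_, tri12_mem e⁻¹⟩ = 1 from Subtype.ext (by
        show tri e e⁻¹ 1 * tri e⁻¹ e⁻¹⁻¹ 1 = (1 : (F × F × (F × F × (F × F × W))) ≃ₗ[F] _)
        rw [tri_mul, mul_inv_cancel, mul_inv_cancel, one_mul, tri, lev_one_one, lev_one_one, lev_one_one]),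
      map_one, Module.End.one_apply] at h1
    exact h1.symm)
  have t13u : ρ ⟨_, tri13_mem e⟩ u = a := by rw [split, h23u]
  have t13u' : ρ ⟨_, tri13_mem e⟩ u' = u' := by
    rw [← Module.End.mul_apply, zOp_tri ρ e 1 e⁻¹ (tri13_mem e) (tri23_mem e), Module.End.mul_apply, h23u]
  -- the product of the two differences
  set L := (ρ ⟨_, tri23_mem e⟩ - 1) * (ρ ⟨_, tri13_mem e⟩ - 1) with hL
  have hLu : L u = 0 := by
    simp only [hL, Module.End.mul_apply, LinearMap.sub_apply, Module.End.one_apply, map_sub, t13u, h23u]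
    rw [show ρ ⟨_, tri23_mem e⟩ a = a by rw [comm, h23u]]
    abel
  have hLu' : L u' = 0 := by
    simp only [hL, Module.End.mul_apply, LinearMap.sub_apply, Module.End.one_apply, t13u', sub_self, map_zero]
  have hLu'' : L u'' = zOp2 ρ (zOp ρ (D (D u - u) - (D u - u))) := by
    have s13 : ∀ x, InK ρ x → ρ ⟨_, tri13_mem e⟩ (zOp2 ρ (zOp ρ x)) = zOp2 ρ (zOp ρ (D x)) := fun x _ => by
      rw [← Module.End.mul_apply, zOp2_tri ρ e 1 e⁻¹ (tri13_mem e) (tri12_mem e), Module.End.mul_apply]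
      refine congrArg _ ?_
      have h' : tri e⁻¹ e 1 ∈ eichlerGroup (hypExt (hypExt P)) := by
        have := tri12_mem (P := P) e⁻¹
        rwa [inv_inv] at this
      rw [← Module.End.mul_apply, zOp_tri ρ e e⁻¹ 1 (tri12_mem e) h', Module.End.mul_apply,
        rep_tri_congr ρ rfl (inv_inv e).symm rfl h' (tri12_mem e⁻¹)]
    have s23 : ∀ x, (∀ c : Fˣ, ρ ⟨_, tri23_mem c⟩ x = x) →
        ρ ⟨_, tri23_mem e⟩ (zOp2 ρ (zOp ρ x)) = zOp2 ρ (zOp ρ (D x)) := fun x hx => by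
      have h1 : tri 1 e⁻¹ e ∈ eichlerGroup (hypExt (hypExt P)) := by
        have := tri23_mem (P := P) e⁻¹
        rwa [inv_inv] at this
      have h2 : tri e⁻¹ 1 e ∈ eichlerGroup (hypExt (hypExt P)) := by
        have := tri13_mem (P := P) e⁻¹
        rwa [inv_inv] at this
      rw [← Module.End.mul_apply, zOp2_tri ρ 1 e e⁻¹ (tri23_mem e) h1, Module.End.mul_apply]
      refine congrArg _ ?_
      rw [← Module.End.mul_apply, zOp_tri ρ 1 e⁻¹ e h1 h2, Module.End.mul_apply,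
        rep_tri_congr ρ rfl rfl (inv_inv e).symm h2 (tri13_mem e⁻¹), split, hx]
    simp only [hL, Module.End.mul_apply, LinearMap.sub_apply, Module.End.one_apply]
    rw [show u'' = zOp2 ρ (zOp ρ u) from rfl, s13 u hu, ← map_sub, ← map_sub,
      s23 _ (fun c => by rw [map_sub, hDfix u h23u, h23u]), ← map_sub, ← map_sub]
  have hDD : D (D u - u) - (D u - u) ≠ 0 := by
    intro h0
    set g : eichlerGroup (hypExt (hypExt P)) := ⟨_, tri12_mem e⁻¹⟩
    have hy : ρ g (D u - u) = D u - u := sub_eq_zero.1 h0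
    have hpow : ∀ m : ℕ, ρ (g ^ m) u = u + m • (D u - u) := by
      intro m
      induction m with
      | zero => simp
      | succ m ih =>
        rw [pow_succ', map_mul, Module.End.mul_apply, ih, map_add, map_nsmul, hy, add_nsmul, one_nsmul]
        show D u + _ = _
        abel
    have h1 := hpow (orderOf g)
    rw [pow_orderOf_eq_one, map_one, Module.End.one_apply, left_eq_add, ← Nat.cast_smul_eq_nsmul ℂ, smul_eq_zero] at h1
    exact hD (sub_eq_zero.1 (h1.resolve_left (Nat.cast_ne_zero.2 (orderOf_pos g).ne')))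
  have hinj : zOp2 ρ (zOp ρ (D (D u - u) - (D u - u))) ≠ 0 := by
    intro h0
    have hx := InK.sub ρ (inK_tri ρ (tri12_mem e⁻¹) (InK.sub ρ (inK_tri ρ (tri12_mem e⁻¹) hu) hu))
      (InK.sub ρ (inK_tri ρ (tri12_mem e⁻¹) hu) hu)
    exact hDD (zOp_injective_fix2 ρ hx.1 (zOp_injective_fix2 _ (fix2_comp ρ (inK_zOp ρ hx)) h0))
  let g : Fin 3 → fix2S ρ := ![⟨u, hu.1⟩, ⟨u', hu'.1⟩, ⟨u'', hu''⟩]
  have hli : LinearIndependent ℂ g := by
    rw [Fintype.linearIndependent_iff]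
    intro c hc
    have h : c 0 • u + c 1 • u' + c 2 • u'' = 0 := by
      have := congrArg Subtype.val hc
      simpa [g, Fin.sum_univ_three] using this
    have h1 := congrArg L h
    rw [map_add, map_add, map_smul, map_smul, map_smul, hLu, hLu', hLu'', smul_zero, smul_zero, zero_add, zero_add,
      map_zero, smul_eq_zero] at h1
    have hc2 : c 2 = 0 := h1.resolve_right hinj
    rw [hc2, zero_smul, add_zero] at h
    have h2 := congrArg (ρ ⟨_, tri13_mem e⟩ - 1 : Module.End ℂ U) h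
    simp only [map_add, map_smul, map_zero, LinearMap.sub_apply, Module.End.one_apply, t13u, t13u', sub_self, smul_zero,
      add_zero, smul_eq_zero, sub_eq_zero] at h2
    have hc0 : c 0 = 0 := h2.resolve_right he
    rw [hc0, zero_smul, zero_add, smul_eq_zero] at h
    have hc1 : c 1 = 0 := h.resolve_right fun h' => hu0 (zOp_injective_fix2 ρ hu.1 h')
    intro i
    fin_cases i <;> assumption
  simpa using hli.fintype_card_le_finrank

end Cfsg.Agent.Lib.MinDegree.Orth
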