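import Mathlib
import Cfsg.Agent.Lib.MinDegree.Orth.Threshold
import Cfsg.Agent.Lib.Classical.EichlerStandard

/-!
Towers of plane extensions, their counts, transport of the bound.
-/

set_option autoImplicit false

namespace Cfsg.Agent.Lib.MinDegree.Orth

open QuadraticMap Module Cfsg.Agent.Lib.Classical

universe u

/-- a finite quadratic space -/
structure QSp (F : Type u) [Field F] where
  /-- the vectors -/
  carrier : Type u
  [acg : AddCommGroup carrier]
  [mod : Module F carrier]
  [fin : Fintype carrier]
  /-- the form -/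
  form : QuadraticForm F carrier

attribute [instance] QSp.acg QSp.mod QSp.fin

variable {F : Type u} [Field F] [Fintype F]

/-- one more plane -/
noncomputable abbrev QSp.next (S : QSp F) : QSp F := ⟨F × F × S.carrier, hypExt S.form⟩

/-- `t` planes over a base -/
noncomputable def tw (B : QSp F) : ℕ → QSp F
  | 0 => B
  | t + 1 => (tw B t).next

/-- the degrees -/
noncomputable def deg (B : QSp F) (d1 : ℕ) : ℕ → ℕ
  | 0 => d1
  | t + 1 => deg B d1 t + cnt (tw B (t + 1)).form 0

theorem tw_nondeg {B : QSp F} (hB : ∀ z, (∀ w, polar B.form z w = 0) → z = 0) :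
    ∀ t, ∀ z, (∀ w, polar (tw B t).form z w = 0) → z = 0
  | 0 => hB
  | t + 1 => nondeg_hypExt (tw_nondeg hB t)

theorem card_tw (B : QSp F) :
    ∀ t, Fintype.card (tw B t).carrier = Fintype.card F ^ (2 * t) * Fintype.card B.carrier
  | 0 => by show Fintype.card B.carrier = _; simp
  | t + 1 => by
    show Fintype.card (F × F × (tw B t).carrier) = _
    rw [Fintype.card_prod, Fintype.card_prod, card_tw B t]
    ring

theorem cnt_tw_succ (B : QSp F) (t : ℕ) (c : F) :
    cnt (tw B (t + 1)).form c = (Fintype.card F - 1) * Fintype.card (tw B t).carrier + Fintype.card F * cnt (tw B t).form c :=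
  (le_cnt_hypExt (tw B t).form c).symm

theorem tw_nontrivial (B : QSp F) (t : ℕ) : Nontrivial (tw B (t + 1)).carrier :=
  inferInstanceAs (Nontrivial (F × F × (tw B t).carrier))

/-- sizes stay below the threshold -/
theorem deg_le (hq : 3 ≤ Fintype.card F) {B : QSp F} {d1 : ℕ}
    (hb : Fintype.card F * cnt (tw B 1).form 0 + deg B d1 1 ≤ (Fintype.card F - 1) * Fintype.card (tw B 1).carrier) :
    ∀ t, 1 ≤ t → deg B d1 (t + 1) ≤ 2 * ((Fintype.card F - 1) * Fintype.card (tw B t).carrier) := by
  have inv : ∀ t, 1 ≤ t →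
      Fintype.card F * cnt (tw B t).form 0 + deg B d1 t ≤ (Fintype.card F - 1) * Fintype.card (tw B t).carrier := by
    intro t ht
    induction t, ht using Nat.le_induction with
    | base => exact hb
    | succ t _ ih =>
      show _ * _ + (deg B d1 t + cnt (tw B (t + 1)).form 0) ≤ _
      rw [cnt_tw_succ, card_tw, card_tw] at *
      obtain ⟨q, hq'⟩ := Nat.exists_eq_add_of_le hq
      rw [hq'] at ih ⊢
      set V := (3 + q) ^ (2 * t) * Fintype.card B.carrier
      set z := cnt (tw B t).form 0
      rw [show (3 + q) ^ (2 * (t + 1)) * Fintype.card B.carrier = (3 + q) * (3 + q) * V by simp only [V]; ring]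
      rw [show 3 + q - 1 = 2 + q by omega] at ih ⊢
      have h1 := Nat.mul_le_mul_left (3 + q) ih
      have h2 : 0 ≤ (q * q + 4 * q + 1) * ((2 + q) * V) := Nat.zero_le _
      have h3 : 0 ≤ (3 + q) * deg B d1 t := Nat.zero_le _
      ring_nf at ih h1 h2 h3 ⊢
      nlinarith [h1, h2, h3, ih]
  intro t ht
  show deg B d1 t + cnt (tw B (t + 1)).form 0 ≤ _
  rw [cnt_tw_succ]
  have := inv t ht
  omega

/-- towers of the library -/
noncomputable def twTower (B : QSp F) :
    ∀ t, (tw B t).carrier ≃ₗ[F] (Fin t → F) × (Fin t → F) × B.carrier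
  | 0 => towerZero.symm
  | t + 1 => ((LinearEquiv.refl F F).prodCongr ((LinearEquiv.refl F F).prodCongr (twTower B t))).trans (towerSucc t).symm

theorem twTower_spec (B : QSp F) : ∀ t v, hypTower t B.form (twTower B t v) = (tw B t).form v
  | 0, v => by
    rw [← hypTower_zero]
    exact congrArg B.form (LinearEquiv.apply_symm_apply _ _)
  | t + 1, v => by
    show hypTower (t + 1) B.form ((towerSucc t).symm _) = hypExt (tw B t).form v
    rw [← hypTower_succ, LinearEquiv.apply_symm_apply, hypExt_apply]
    show v.1 * v.2.1 + hypTower t B.form (twTower B t v.2.2) = v.1 * v.2.1 + (tw B t).form v.2.2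
    rw [twTower_spec B t]

section transport

variable {V V' : Type*} [AddCommGroup V] [Module F V] [AddCommGroup V'] [Module F V'] {Q : QuadraticForm F V}
  {Q' : QuadraticForm F V'}

/-- conjugation by an equivalence -/
def conjLE {A B : Type*} [AddCommGroup A] [Module F A] [AddCommGroup B] [Module F B] (E : A ≃ₗ[F] B) :
    (A ≃ₗ[F] A) ≃* (B ≃ₗ[F] B) where
  toFun g := E.symm.trans (g.trans E)
  invFun g := E.trans (g.trans E.symm)
  left_inv g := LinearEquiv.ext fun x => by simp
  right_inv g := LinearEquiv.ext fun x => by simp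
  map_mul' g h := LinearEquiv.ext fun x => by simp [LinearEquiv.mul_apply]

omit [Fintype F] in
theorem siegel_congr (e : V ≃ₗ[F] V') (h : ∀ v, Q' (e v) = Q v) (a : V) (p : F × F × V) :
    (LinearEquiv.refl F F).prodCongr ((LinearEquiv.refl F F).prodCongr e) (hypSiegel Q a p) =
      hypSiegel Q' (e a) ((LinearEquiv.refl F F).prodCongr ((LinearEquiv.refl F F).prodCongr e) p) := by
  rw [hypSiegel_apply, hypSiegel_apply]
  simp [LinearEquiv.prodCongr_apply, polar_comp_equiv (Q := Q) (Q' := Q') e h, h]

omit [Fintype F] in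
/-- an isometry identifies the groups -/
theorem eichler_map_congr (e : V ≃ₗ[F] V') (h : ∀ v, Q' (e v) = Q v) :
    (eichlerGroup Q).map
      ((conjLE ((LinearEquiv.refl F F).prodCongr ((LinearEquiv.refl F F).prodCongr e))).toMonoidHom) = eichlerGroup Q' := by
  set E := (LinearEquiv.refl F F).prodCongr ((LinearEquiv.refl F F).prodCongr e)
  have key : ∀ a, conjLE E (hypSiegel Q a) = hypSiegel Q' (e a) := fun a => LinearEquiv.ext fun p => by
    obtain ⟨p, rfl⟩ := E.surjective p
    show E (hypSiegel Q a (E.symm (E p))) = _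
    rw [E.symm_apply_apply, siegel_congr e h]
  have key' : ∀ a, conjLE E (hypSiegel' Q a) = hypSiegel' Q' (e a) := fun a => by
    have hs : conjLE E (hypSwap : (F × F × V) ≃ₗ[F] _) = hypSwap := LinearEquiv.ext fun p => by
      obtain ⟨p, rfl⟩ := E.surjective p
      show E (hypSwap (E.symm (E p))) = _
      rw [E.symm_apply_apply]
      rfl
    rw [hypSiegel', map_mul, map_mul, key, hs]
    rfl
  rw [eichlerGroup, eichlerGroup, MonoidHom.map_closure]
  congr 1
  simp only [eichlerGens, Set.image_union, ← Set.range_comp]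
  congr 1
  · rw [← e.surjective.range_comp (hypSiegel Q')]
    exact congrArg Set.range (funext key)
  · rw [← e.surjective.range_comp (hypSiegel' Q')]
    exact congrArg Set.range (funext key')

/-- the identification -/
noncomputable def eichlerCongr (e : V ≃ₗ[F] V') (h : ∀ v, Q' (e v) = Q v) : eichlerGroup Q ≃* eichlerGroup Q' :=
  (MulEquiv.subgroupMap (conjLE ((LinearEquiv.refl F F).prodCongr ((LinearEquiv.refl F F).prodCongr e))) _).trans
    (MulEquiv.subgroupCongr (eichler_map_congr e h))

end transport

theorem irreducible_comp {G H : Type*} [Group G] [Group H] (φ : G ≃* H) {U : Type*} [AddCommGroup U] [Module ℂ U]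
    (ρ : Representation ℂ H U) (hρ : ρ.IsIrreducible) :
    Representation.IsIrreducible (ρ.comp φ.toMonoidHom : Representation ℂ G U) := by
  haveI : Nontrivial (Subrepresentation (ρ.comp φ.toMonoidHom : Representation ℂ G U)) := by
    haveI := Chars.nontrivial_of_isIrreducible ρ
    exact ⟨⊥, ⊤, fun h => bot_ne_top (α := Submodule ℂ U) (congrArg Subrepresentation.toSubmodule h)⟩
  refine ⟨fun S => ?_⟩
  let S' : Subrepresentation ρ := ⟨S.toSubmodule, fun g v hv => by
    have h1 := S.apply_mem_toSubmodule (φ.symm g) hv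
    rwa [MonoidHom.comp_apply, MulEquiv.coe_toMonoidHom, φ.apply_symm_apply] at h1⟩
  rcases hρ.eq_bot_or_eq_top S' with h | h
  · left
    apply Subrepresentation.toSubmodule_injective
    exact congrArg (fun T : Subrepresentation ρ => T.toSubmodule) h
  · right
    apply Subrepresentation.toSubmodule_injective
    exact congrArg (fun T : Subrepresentation ρ => T.toSubmodule) h

theorem DegBound.congr {G H : Type*} [Group G] [Group H] (φ : G ≃* H) {d : ℕ} (h : DegBound G d) : DegBound H d :=
  fun k σ hσ ⟨x, hx⟩ => h k (σ.comp φ.toMonoidHom) (irreducible_comp φ σ hσ)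
    ⟨φ.symm x, by rwa [MonoidHom.comp_apply, MulEquiv.coe_toMonoidHom, φ.apply_symm_apply]⟩

/-- irreducible of degree at least two moves something -/
theorem exists_moving {G : Type*} [Group G] {k : ℕ} (hk : 2 ≤ k) (ρ : Representation ℂ G (Fin k → ℂ))
    (hirr : ρ.IsIrreducible) : ∃ g, ρ g ≠ 1 := by
  by_contra h
  push Not at h
  obtain ⟨v, hv⟩ : ∃ v : Fin k → ℂ, v ≠ 0 := by
    haveI : NeZero k := ⟨by omega⟩
    exact exists_ne _
  let S : Subrepresentation ρ := ⟨Submodule.span ℂ {v}, fun g w hw => by rw [h g]; exact hw⟩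
  rcases hirr.eq_bot_or_eq_top S with hb | ht
  · have : v ∈ S.toSubmodule := Submodule.mem_span_singleton_self v
    rw [hb] at this
    exact hv this
  · have h1 : finrank ℂ S.toSubmodule = 1 := finrank_span_singleton hv
    rw [ht] at h1
    have : finrank ℂ (⊤ : Submodule ℂ (Fin k → ℂ)) = 1 := h1
    rw [finrank_top, Module.finrank_fin_fun] at this
    omega

end Cfsg.Agent.Lib.MinDegree.Orth
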