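import Mathlib
import Cfsg.Agent.Lib.MinDegree.Orth.Tower
import Cfsg.Agent.Lib.Classical.Binary

/-!
Counts for towers over an anisotropic plane.
-/

set_option autoImplicit false

namespace Cfsg.Agent.Lib.MinDegree.Orth

open QuadraticMap Module Cfsg.Agent.Lib.Classical

universe u

variable {F : Type u} [Field F] [Fintype F]

/-- the anisotropic base -/
noncomputable abbrev binBase (a b : F) : QSp F := ⟨F × F, binQ a b⟩

variable {a b : F}

theorem binBase_aniso (hab : BinAniso a b) : ∀ w, (binBase a b).form w = 0 → w = 0 := fun _ h => hab.eq_zero h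

theorem card_binBase : Fintype.card (binBase a b).carrier = Fintype.card F ^ 2 := by
  show Fintype.card (F × F) = _
  rw [Fintype.card_prod, pow_two]

/-- the singular and the other levels -/
theorem cnt_minus (hab : BinAniso a b) {c : F} (hc : c ≠ 0) : ∀ t,
    cnt (tw (binBase a b) t).form c = cnt (tw (binBase a b) t).form 0 + Fintype.card F ^ (t + 1)
  | 0 => by
    show Nat.card {z : F × F // binQ a b z = c} = Nat.card {z : F × F // binQ a b z = 0} + _
    classical
    rw [natCard_binQ_eq hab hc, hab.natCard_one, hab.natCard_zeros, Nat.card_eq_fintype_card, pow_one, add_comm]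
  | t + 1 => by
    rw [cnt_tw_succ, cnt_tw_succ, cnt_minus hab hc t]
    ring

/-- the singular level -/
theorem cnt_minus_zero (hab : BinAniso a b) : ∀ t,
    (Fintype.card F : ℤ) * cnt (tw (binBase a b) t).form 0 =
      (Fintype.card F : ℤ) ^ (2 * t + 2) - (Fintype.card F : ℤ) ^ (t + 2) + (Fintype.card F : ℤ) ^ (t + 1)
  | 0 => by
    show (Fintype.card F : ℤ) * (Nat.card {z : F × F // binQ a b z = 0} : ℕ) = _
    rw [hab.natCard_zeros]
    push_cast
    ring
  | t + 1 => by
    have ih := cnt_minus_zero hab t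
    rw [cnt_tw_succ, card_tw, card_binBase]
    push_cast [Nat.cast_sub (Fintype.card_pos (α := F))]
    linear_combination (Fintype.card F : ℤ) * ih

theorem deg_minus (hab : BinAniso a b) : ∀ t, (deg (binBase a b) 0 t : ℤ) * ((Fintype.card F : ℤ) ^ 2 - 1) =
    ((Fintype.card F : ℤ) ^ (t + 2) + 1) * ((Fintype.card F : ℤ) ^ (t + 1) - (Fintype.card F : ℤ))
  | 0 => by
    show ((0 : ℕ) : ℤ) * _ = _
    push_cast
    ring
  | t + 1 => by
    have ih := deg_minus hab t
    have hc := cnt_minus_zero hab (t + 1)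
    show ((deg (binBase a b) 0 t + cnt (tw (binBase a b) (t + 1)).form 0 : ℕ) : ℤ) * _ = _
    push_cast
    refine mul_left_cancel₀ (Nat.cast_ne_zero.2 Fintype.card_ne_zero : (Fintype.card F : ℤ) ≠ 0) ?_
    linear_combination (Fintype.card F : ℤ) * ih + ((Fintype.card F : ℤ) ^ 2 - 1) * hc

theorem dvd_deg_minus : ∀ t, Fintype.card F ∣ deg (binBase a b) 0 t
  | 0 => dvd_zero _
  | t + 1 => by
    show _ ∣ deg (binBase a b) 0 t + cnt (tw (binBase a b) (t + 1)).form 0
    refine dvd_add (dvd_deg_minus t) ?_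
    rw [cnt_tw_succ, card_tw, card_binBase]
    exact dvd_add (Dvd.dvd.mul_left (Dvd.dvd.mul_left (dvd_pow_self _ two_ne_zero) _) _) (dvd_mul_right _ _)

/-- previous degree and the singular level -/
theorem deg_minus_le : ∀ t, deg (binBase a b) 0 t + 2 ≤ cnt (tw (binBase a b) (t + 1)).form 0
  | 0 => by
    show 0 + 2 ≤ _
    rw [cnt_tw_succ, card_tw, card_binBase]
    have h1 : 2 ≤ Fintype.card F := Fintype.one_lt_card
    have h2 : 4 ≤ Fintype.card F ^ 2 := by nlinarith
    have h3 : 1 * 4 ≤ (Fintype.card F - 1) * (Fintype.card F ^ (2 * 0) * Fintype.card F ^ 2) := by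
      rw [mul_zero, pow_zero, one_mul (Fintype.card F ^ 2)]
      exact Nat.mul_le_mul (by omega) h2
    omega
  | t + 1 => by
    have ih := deg_minus_le t
    rw [show deg (binBase a b) 0 (t + 1) = deg (binBase a b) 0 t + cnt (tw (binBase a b) (t + 1)).form 0 from rfl,
      cnt_tw_succ (binBase a b) (t + 1)]
    have h1 : 2 ≤ Fintype.card F := Fintype.one_lt_card
    have h2 := Nat.mul_le_mul_right (cnt (tw (binBase a b) (t + 1)).form 0) h1
    omega

end Cfsg.Agent.Lib.MinDegree.Orth
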