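import Mathlib
import Cfsg.Agent.Lib.MinDegree.Orth.MinusCounts
import Cfsg.Agent.Lib.MinDegree.Orth.ClassSize

/-!
The bound for forms of Witt defect one: the induction step.
-/

set_option autoImplicit false

namespace Cfsg.Agent.Lib.MinDegree.Orth

open QuadraticMap Module Cfsg.Agent.Lib.Classical

universe u

/-- in dimension three every vector is orthogonal to a hyperbolic pair of values -/
theorem phaseOK_of_dim {F : Type*} [Field F] [Fintype F] {W : Type*} [AddCommGroup W] [Module F W] [Fintype W]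
    {P : QuadraticForm F W} (hP : ∀ z, (∀ w, polar P z w = 0) → z = 0) (hW : 3 ≤ finrank F W) (c : F) :
    PhaseOK P c := by
  intro v0 _
  left
  haveI : Module.Finite F W := Module.Finite.of_finite
  obtain ⟨z, hz⟩ : ∃ z, v0 ≠ 0 → polar P v0 z = 1 := by
    by_cases h0 : v0 = 0
    · exact ⟨0, fun h => absurd h0 h⟩
    · obtain ⟨z, hz⟩ : ∃ z, polar P v0 z ≠ 0 := by
        by_contra hne; push Not at hne; exact h0 (hP _ hne)
      exact ⟨(polar P v0 z)⁻¹ • z, fun _ => by rw [polar_smul_right, smul_eq_mul, inv_mul_cancel₀ hz]⟩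
  let L : W →ₗ[F] F × F := (polarBilin P v0).prod (polarBilin P z)
  obtain ⟨x, hx, hx0⟩ : ∃ x ∈ LinearMap.ker L, x ≠ 0 := by
    refine Submodule.exists_mem_ne_zero_of_ne_bot fun h => ?_
    have := LinearMap.finrank_le_finrank_of_injective (LinearMap.ker_eq_bot.1 h)
    rw [Module.finrank_prod, Module.finrank_self] at this
    omega
  obtain ⟨hx1, hx2⟩ : polar P v0 x = 0 ∧ polar P z x = 0 := Prod.mk.injEq _ _ _ _ ▸ (LinearMap.mem_ker.1 hx : L x = 0)
  obtain ⟨y, hy⟩ : ∃ y, polar P x y ≠ 0 := by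
    by_contra hne; push Not at hne; exact hx0 (hP _ hne)
  refine ⟨x, (-(polar P x y)⁻¹) • (y - polar P v0 y • z), by rw [polar_comm, hx1], ?_, ?_⟩
  · rw [polar_smul_left, polar_comm (⇑P) _ v0, polar_sub_right, polar_smul_right, smul_eq_mul, smul_eq_mul]
    by_cases h0 : v0 = 0
    · simp [h0]
    · rw [hz h0]; ring
  · rw [polar_smul_right, polar_sub_right, polar_smul_right, polar_comm (⇑P) x z, hx2, smul_zero, sub_zero, smul_eq_mul]
    field_simp

variable {F : Type u} [Field F] [Fintype F] {a b : F}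

theorem minus_arith {q : ℤ} (hq : 2 ≤ q) {j : ℕ} (hj : 2 ≤ j) {k X Y : ℤ}
    (hk : (k + 1) * (q ^ 2 - 1) = (q ^ (j + 2) + 1) * (q ^ (j + 1) - q))
    (hX : q * X = q ^ (2 * (j + 1) + 2) - q ^ (j + 1 + 2) + q ^ (j + 1 + 1) - q)
    (hY : q * Y = q ^ (2 * j + 2) - q ^ (j + 2) + q ^ (j + 1) - q)
    (hdvd : k * (q ^ 2 - 1) ∣ X * Y) : False := by
  have hX' : X = (q ^ (j + 2) + 1) * (q ^ (j + 1) - 1) :=
    mul_left_cancel₀ (by omega : q ≠ 0) (by rw [hX]; ring)
  have hY' : Y = (q ^ (j + 1) + 1) * (q ^ j - 1) :=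
    mul_left_cancel₀ (by omega : q ≠ 0) (by rw [hY]; ring)
  have hkk : k * (q ^ 2 - 1) = (q ^ (j + 1) + 1) * (q ^ (j + 2) - q ^ 2 - q + 1) := by linear_combination hk
  set H := q ^ (j + 2) - q ^ 2 - q + 1 with hH
  have hne : q ^ (j + 1) + 1 ≠ 0 := by
    have : (0 : ℤ) ≤ q ^ (j + 1) := pow_nonneg (by omega) _
    omega
  have h1 : H ∣ (q ^ (j + 2) + 1) * (q ^ (j + 1) - 1) * (q ^ j - 1) := by
    refine (mul_dvd_mul_iff_left hne).1 ?_
    rw [← hkk]
    refine hdvd.trans (dvd_of_eq ?_)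
    rw [hX', hY']
    ring
  obtain ⟨c, hc⟩ := h1
  set a := q ^ (j + 2) with ha
  set b : ℤ := q ^ 2 + q - 1 with hb
  have h2 : H ∣ q * (q ^ 2 - 1) ^ 2 := by
    refine ⟨q ^ 3 * c - ((a ^ 2 + a * b + b ^ 2) + (1 - q - q ^ 2) * (a + b) + (q ^ 3 - q ^ 2 - q)), ?_⟩
    have e : q ^ 3 * ((a + 1) * (q ^ (j + 1) - 1) * (q ^ j - 1)) = (a + 1) * (a - q) * (a - q ^ 2) := by
      simp only [ha]; ring
    have e2 := congrArg (fun z => q ^ 3 * z) hc
    rw [e] at e2
    linear_combination (norm := (simp only [hH, hb]; ring)) e2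
  have hcop : IsCoprime H q := ⟨1, -(q ^ (j + 1)) + q + 1, by simp only [hH, ha]; ring⟩
  have h3 : H ∣ (q ^ 2 - 1) ^ 2 := hcop.dvd_of_dvd_mul_left h2
  have hpos : (0 : ℤ) < (q ^ 2 - 1) ^ 2 := by
    have : (0 : ℤ) < q ^ 2 - 1 := by nlinarith
    positivity
  have h4 := Int.le_of_dvd hpos h3
  have h5 : q ^ 4 ≤ a := by rw [ha]; exact pow_le_pow_right₀ (by omega) (by omega)
  nlinarith

/-- one more plane -/
theorem degBound_minus_succ (hab : BinAniso a b) (t : ℕ)
    (ih : DegBound (eichlerGroup (tw (binBase a b) (t + 2)).form) (deg (binBase a b) 0 (t + 2))) :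
    DegBound (eichlerGroup (tw (binBase a b) (t + 3)).form) (deg (binBase a b) 0 (t + 3)) := by
  classical
  intro k ρ hirr hmove
  obtain ⟨g, hg⟩ := hmove
  haveI := finite_eichler (tw (binBase a b) (t + 2)).form
  set P := (tw (binBase a b) (t + 1)).form
  have hP : ∀ z, (∀ w, polar P z w = 0) → z = 0 := tw_nondeg (nondeg_binQ hab) (t + 1)
  have hdim : 3 ≤ finrank F (tw (binBase a b) (t + 1)).carrier := by
    haveI : Module.Finite F (tw (binBase a b) t).carrier := Module.Finite.of_finite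
    have h1 : 1 ≤ finrank F (tw (binBase a b) t).carrier := by
      haveI : Nontrivial (tw (binBase a b) t).carrier := by
        cases t with
        | zero => exact inferInstanceAs (Nontrivial (F × F))
        | succ t => exact tw_nontrivial _ t
      exact Module.finrank_pos
    show 3 ≤ finrank F (F × F × (tw (binBase a b) t).carrier)
    rw [Module.finrank_prod, Module.finrank_prod, Module.finrank_self]
    omega
  set d := deg (binBase a b) 0 (t + 2) with hd
  show d + cnt (tw (binBase a b) (t + 3)).form 0 ≤ k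
  by_contra hlt
  push Not at hlt
  have hz : deg (binBase a b) 0 (t + 2) + 2 ≤ cnt (tw (binBase a b) (t + 3)).form 0 := deg_minus_le (t + 2)
  have hcnt : ∀ c : F, cnt (hypExt (hypExt P)) c = cnt (tw (binBase a b) (t + 3)).form c := fun _ => rfl
  have hlt' : k < 2 * (cnt (hypExt (hypExt P)) 0 - 1) := by
    rw [hcnt]
    omega
  rcases small_or_single (P := P) ρ hP (fun c hc => by rw [hcnt, hcnt, cnt_minus hab hc]; exact Nat.le_add_right _ _)
    (by rw [Module.finrank_fin_fun]; exact hlt') with hs | ⟨c, hc, h1, h0⟩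
  · obtain ⟨e1, e2⟩ := small_step (P := P) ρ hP (phaseOK_of_dim hP hdim 0) hs hg
    rw [Module.finrank_fin_fun, hcnt] at e1
    have hf : d ≤ finrank ℂ (fixU (Q := hypExt (hypExt P)) ρ) :=
      ih.le_finrank (descRep (Q := hypExt P) ρ) e2
    have hkeq : k + 1 = deg (binBase a b) 0 (t + 3) := by
      show k + 1 = d + cnt (tw (binBase a b) (t + 3)).form 0
      omega
    have hdvd := @dvd_class F _ _ _ _ _ _ (hypExt P) _ _ k ρ _ hirr (iso_hypExt hP) hs
      (small_mult (P := P) ρ hP hs hg).1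
    have hcop : Nat.Coprime (k * (Fintype.card F ^ 2 - 1))
        (Fintype.card F * Fintype.card (F × F × (tw (binBase a b) (t + 1)).carrier)) := by
      have hW : Fintype.card F * Fintype.card (F × F × (tw (binBase a b) (t + 1)).carrier)
          = Fintype.card F ^ (2 * (t + 2) + 3) := by
        rw [show Fintype.card (F × F × (tw (binBase a b) (t + 1)).carrier) = Fintype.card (tw (binBase a b) (t + 2)).carrier
          from rfl, card_tw, card_binBase]
        ring
      rw [hW]
      refine Nat.Coprime.pow_right _ ?_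
      obtain ⟨m, hm⟩ := dvd_deg_minus (a := a) (b := b) (t + 3)
      rw [← hkeq] at hm
      rw [← Nat.isCoprime_iff_coprime]
      refine ⟨1, -((m : ℤ) * Fintype.card F ^ 2 - m - Fintype.card F), ?_⟩
      have hm' : (k : ℤ) + 1 = Fintype.card F * m := by exact_mod_cast hm
      push_cast [Nat.cast_sub (Nat.one_le_pow 2 _ (Fintype.card_pos (α := F)))]
      linear_combination ((Fintype.card F : ℤ) ^ 2 - 1) * hm'
    have hdvd' := Int.natCast_dvd_natCast.2 (hcop.dvd_of_dvd_mul_right hdvd)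
    have c1 := cnt_minus_zero hab (t + 3 + 1)
    have c2 := cnt_minus_zero hab (t + 3)
    have p1 : 1 ≤ cnt (hypExt (hypExt (hypExt P))) 0 := cnt_pos
    have p2 : 1 ≤ cnt (hypExt (hypExt P)) 0 := cnt_pos
    push_cast [Nat.cast_sub (Nat.one_le_pow 2 _ (Fintype.card_pos (α := F))), Nat.cast_sub p1, Nat.cast_sub p2] at hdvd'
    refine minus_arith (q := (Fintype.card F : ℤ)) (by exact_mod_cast Fintype.one_lt_card) (j := t + 3) (by omega)
      (k := k) ?_ ?_ ?_ hdvd'
    · have := deg_minus hab (t + 3)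
      rw [← hkeq] at this
      push_cast at this
      exact this
    · rw [mul_sub, mul_one]
      have c1' : (Fintype.card F : ℤ) * cnt (hypExt (hypExt (hypExt P))) 0 = _ := c1
      linear_combination c1'
    · rw [mul_sub, mul_one]
      have c2' : (Fintype.card F : ℤ) * cnt (hypExt (hypExt P)) 0 = _ := c2
      linear_combination c2'
  · obtain ⟨e1, e2⟩ := single_level (P := P) ρ hP (phaseOK_of_dim hP hdim c) h1 h0
    rw [Module.finrank_fin_fun, if_neg hc, hcnt, cnt_minus hab hc] at e1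
    have hf : d ≤ finrank ℂ (fixU (Q := hypExt (hypExt P)) ρ) :=
      ih.le_finrank (descRep (Q := hypExt P) ρ) e2
    omega

end Cfsg.Agent.Lib.MinDegree.Orth
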