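import Mathlib
import Cfsg.Agent.Lib.MinDegree.Orth.Gram
import Cfsg.Agent.Lib.MinDegree.Orth.FixedVector
import Cfsg.Agent.Lib.Classical.Binary
import Cfsg.Agent.Lib.Classical.EichlerStandard

/-!
The field of two elements, three planes over the anisotropic plane: four orthogonal vectors in three lines.
-/

set_option autoImplicit false

namespace Cfsg.Agent.Lib.MinDegree.Orth

open QuadraticMap Module Cfsg.Agent.Lib.Classical

variable {F : Type*} [Field F] [Fintype F]

theorem eq_zero_or_one (h2 : Fintype.card F = 2) (x : F) : x = 0 ∨ x = 1 := by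
  classical
  have h : ({0, 1} : Finset F) = Finset.univ := Finset.eq_univ_of_card _ (by rw [Finset.card_pair zero_ne_one, h2])
  have hx := Finset.mem_univ x
  rw [← h] at hx
  simpa using hx

theorem two_eq_zero_of_card (h2 : Fintype.card F = 2) : (2 : F) = 0 := by
  rcases eq_zero_or_one h2 (2 : F) with h | h
  · exact h
  · exact absurd (show (1 : F) = 0 by linear_combination h) one_ne_zero

theorem psi0_one (h2 : Fintype.card F = 2) : psi0 F (1 : F) = -1 := by
  have hne : psi0 F (1 : F) ≠ 1 := fun h => one_ne_zero (psi0_eq_one_of_forall (F := F) (r := 1) fun t => by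
    rw [mul_one]
    rcases eq_zero_or_one h2 t with rfl | rfl
    · exact AddChar.map_zero_eq_one _
    · exact h)
  have hsq : psi0 F (1 : F) * psi0 F 1 = 1 := by
    rw [← AddChar.map_add_eq_mul, show (1 : F) + 1 = 2 by norm_num, two_eq_zero_of_card h2, AddChar.map_zero_eq_one]
  exact (mul_self_eq_one_iff.1 hsq).resolve_left hne

variable {a b : F}

theorem aniso_coeff (h2 : Fintype.card F = 2) (hab : BinAniso a b) : a = 1 ∧ b = 1 := by
  have hb : b = 1 := (eq_zero_or_one h2 b).resolve_left fun hb => one_ne_zero (hab 0 1 (by rw [hb]; ring)).2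
  refine ⟨(eq_zero_or_one h2 a).resolve_left fun ha => one_ne_zero (hab 1 1 ?_).1, hb⟩
  rw [ha, hb]
  linear_combination two_eq_zero_of_card h2

/-- the rotation of the anisotropic plane -/
def binTurn : (F × F) ≃ₗ[F] (F × F) where
  toFun v := (v.2, -(v.1 + v.2))
  invFun v := (-(v.1 + v.2), v.1)
  left_inv v := Prod.ext (by simp) rfl
  right_inv v := Prod.ext rfl (by simp)
  map_add' x y := Prod.ext rfl (by simp; ring)
  map_smul' c x := Prod.ext rfl (by simp; ring)

theorem binTurn_mem (h2 : Fintype.card F = 2) (hab : BinAniso a b) :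
    binTurn ∈ isoGroup (binQ a b) ∧ hypInd binTurn ∈ eichlerGroup (binQ a b) := by
  obtain ⟨rfl, rfl⟩ := aniso_coeff h2 hab
  have h0 := two_eq_zero_of_card h2
  refine ⟨fun v => ?_, ?_⟩
  · show binQ (1 : F) 1 (v.2, -(v.1 + v.2)) = binQ 1 1 v
    simp only [binQ_apply]
    ring
  have hb1 : binQ (1 : F) 1 ((1 : F), (0 : F)) = 1 := by simp [binQ_apply]
  have hb2 : binQ (1 : F) 1 ((0 : F), (1 : F)) = 1 := by simp [binQ_apply]
  have e : swapB (binQ (1 : F) 1) ((1 : F), (0 : F)) * swapB (binQ (1 : F) 1) ((0 : F), (1 : F)) = hypInd binTurn := by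
    refine LinearEquiv.ext fun p => ?_
    rw [LinearEquiv.mul_apply, swapB_apply (by rw [hb1]; exact one_ne_zero),
      swapB_apply (by rw [hb2]; exact one_ne_zero), hb1, hb2, hypInd_apply]
    simp only [polar, binQ_apply, Prod.fst_add, Prod.snd_add, Prod.smul_mk, smul_eq_mul, Prod.fst_sub, Prod.snd_sub,
      binTurn, LinearEquiv.coe_mk, LinearMap.coe_mk, AddHom.coe_mk, inv_one]
    refine Prod.ext (by ring) (Prod.ext (by ring) (Prod.ext ?_ ?_))
    · simp only [Prod.fst_sub]
      ring
    · simp only [Prod.snd_sub]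
      ring
  rw [← e]
  exact mul_mem (swapB_mem _) (swapB_mem _)

theorem binTurn_sub_surj (h2 : Fintype.card F = 2) (c : F × F) : ∃ v, binTurn v - v = c := by
  have h0 := two_eq_zero_of_card h2
  refine ⟨(c.2, c.1 + c.2), ?_⟩
  show (c.1 + c.2, -(c.2 + (c.1 + c.2))) - (c.2, c.1 + c.2) = c
  refine Prod.ext (by simp) ?_
  simp only [Prod.snd_sub]
  linear_combination (-(c.1 + 2 * c.2)) * h0

variable {U : Type*} [AddCommGroup U] [Module ℂ U] [FiniteDimensional ℂ U]
  (ρ : Representation ℂ (eichlerGroup (hypExt (hypExt (binQ a b)))) U)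

theorem planeSwap_braid {W : Type*} [AddCommGroup W] [Module F W] (P : QuadraticForm F W) :
    planeSwap (hypExt P) * hypInd (planeSwap P) * planeSwap (hypExt P) =
      hypInd (planeSwap P) * planeSwap (hypExt P) * hypInd (planeSwap P) := by
  refine LinearEquiv.ext fun p => ?_
  simp [LinearEquiv.mul_apply, planeSwap_apply, hypInd_apply]

/-- the exchange of the last two planes negates the vector -/
theorem planeE_neg [DecidableEq F] (h2 : Fintype.card F = 2) (hab : BinAniso a b) {U' : Type*} [AddCommGroup U']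
    [Module ℂ U'] [FiniteDimensional ℂ U'] (σ : Representation ℂ (eichlerGroup (hypExt (binQ a b))) U')
    (h0 : fixU σ = ⊥) {u : U'} (hu : u ∈ eigW σ ((1 : F), (0 : F), (0 : F × F))) (hu0 : u ≠ 0)
    (hle : finrank ℂ (eigW σ ((1 : F), (0 : F), (0 : F × F))) ≤ 1) : σ (planeE (binQ a b)) u = -u := by
  classical
  have hP : ∀ z, (∀ w, polar (binQ a b) z w = 0) → z = 0 := nondeg_binQ hab
  have hQ1 := nondeg_hypExt hP
  obtain ⟨hR, hRE⟩ := binTurn_mem h2 hab
  have hspan : ∀ y ∈ eigW σ ((1 : F), (0 : F), (0 : F × F)), ∃ c : ℂ, y = c • u := by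
    intro y hy
    by_contra hc
    push Not at hc
    have hli : LinearIndependent ℂ ![(⟨u, hu⟩ : eigW σ _), ⟨y, hy⟩] :=
      (LinearIndependent.pair_iff' (fun h => hu0 (congrArg Subtype.val h))).2 fun r h =>
        hc r (congrArg Subtype.val h).symm
    have := hli.fintype_card_le_finrank
    simp at *
    omega
  -- the innermost radical fixes it
  have hfix : ∀ c : F × F, σ (indE (binQ a b) (radE (binQ a b) c)) u = u := by
    have hmem : ∀ k : eichlerGroup (binQ a b), k.1 ((1 : F), (0 : F), (0 : F × F)) = ((1 : F), (0 : F), (0 : F × F)) →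
        ∃ c : ℂ, σ (indE (binQ a b) k) u = c • u := fun k hk => hspan _ (by
      have := ind_mem_eig σ k hu
      rwa [hk] at this)
    have hk1 : ∀ c : F × F, (radE (binQ a b) c).1 ((1 : F), (0 : F), (0 : F × F)) = ((1 : F), (0 : F), (0 : F × F)) := fun c => by
      show hypSiegel (binQ a b) c _ = _
      rw [hypSiegel_apply]
      simp
    choose χ hχ using fun c => hmem _ (hk1 c)
    let hE : eichlerGroup (binQ a b) := ⟨hypInd (binTurn : (F × F) ≃ₗ[F] (F × F)), hRE⟩
    obtain ⟨μ, hμ⟩ := hmem hE (by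
      show hypInd (binTurn : (F × F) ≃ₗ[F] (F × F)) ((1 : F), (0 : F), (0 : F × F)) = ((1 : F), (0 : F), (0 : F × F))
      rw [hypInd_apply, map_zero])
    have hμ0 : μ ≠ 0 := fun e => hu0 (rep_injective σ (indE (binQ a b) hE) (by rw [hμ, e, zero_smul, map_zero]))
    intro c
    obtain ⟨v, hv⟩ := binTurn_sub_surj h2 c
    have e1 : hE * radE (binQ a b) v = radE (binQ a b) c * radE (binQ a b) v * hE := Subtype.ext (by
      show hypInd (binTurn : (F × F) ≃ₗ[F] (F × F)) * hypSiegel (binQ a b) v = hypSiegel (binQ a b) c * hypSiegel (binQ a b) v * hypInd (binTurn : (F × F) ≃ₗ[F] (F × F))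
      rw [ind_siegel hR, hypSiegel_add, ← hv, sub_add_cancel])
    have e2 := congrArg (fun k => σ (indE (binQ a b) k) u) e1
    simp only [map_mul, Module.End.mul_apply, hμ, hχ, map_smul, smul_smul] at e2
    have hχv : χ v ≠ 0 := fun e => hu0 (rep_injective σ (indE (binQ a b) (radE (binQ a b) v)) (by rw [hχ, e, zero_smul, map_zero]))
    have e3 := smul_left_injective ℂ hu0 e2
    rw [hχ, show χ c = 1 from mul_right_cancel₀ (mul_ne_zero hμ0 hχv) (by linear_combination -e3), one_smul]
  -- the exchange of the last two planes negates it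
  have hw23 : σ (planeE (binQ a b)) u = -u := by
    have hcomp : ∀ w, projW σ w (σ (planeE (binQ a b)) u) ≠ 0 → w = ((1 : F), (0 : F), (0 : F × F)) := by
      intro w hw
      have he : ∀ t : F, zU σ (t, 0, 0) u = u := fun t => by
        rw [hu, chW_apply]
        simp [polar_hypExt, AddChar.map_zero_eq_one]
      obtain ⟨h1, hv⟩ := plane_component σ hP (w := (0 : F × F)) he
        (fun c => by rw [hfix, chW_zero, AddChar.zero_apply, one_smul]) hw
      rcases eq_zero_or_one h2 w.1 with hx | hx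
      · exfalso
        have hm := projW_mem σ w (σ (planeE (binQ a b)) u)
        rw [show w = 0 from Prod.ext hx (Prod.ext h1 hv), eigW_zero, h0, Submodule.mem_bot] at hm
        exact hw (by rw [show w = 0 from Prod.ext hx (Prod.ext h1 hv)]; exact hm)
      · exact Prod.ext hx (Prod.ext h1 hv)
    have hy : σ (planeE (binQ a b)) u ∈ eigW σ ((1 : F), (0 : F), (0 : F × F)) := by
      rw [← sum_projW σ hQ1 (σ (planeE (binQ a b)) u)]
      refine Submodule.sum_mem _ fun w _ => ?_
      by_cases hw : projW σ w (σ (planeE (binQ a b)) u) = 0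
      · rw [hw]; exact Submodule.zero_mem _
      · have := hcomp w hw
        subst this
        exact projW_mem σ _ _
    obtain ⟨l, hl⟩ := hspan _ hy
    have hl0 : l ≠ 0 := fun e => hu0 (rep_injective σ (planeE (binQ a b)) (by rw [hl, e, zero_smul, map_zero]))
    have hX : σ (rootE (binQ a b) 1) u = (-1 : ℂ) • u := by
      rw [show σ (rootE (binQ a b) 1) u = zU σ ((0 : F), (1 : F), (0 : F × F)) u from rfl, hu, chW_apply]
      simp [polar_hypExt, psi0_one h2]
    have hd : (1 : F) ≠ 0 := one_ne_zero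
    have h11 : (1 : F) = -(1 : F)⁻¹ := by rw [inv_one]; linear_combination two_eq_zero_of_card h2
    have e : rootE (binQ a b) 1 * planeE (binQ a b) = planeE (binQ a b) * (rootE (binQ a b) 1 * planeE (binQ a b) * rootE (binQ a b) 1) := Subtype.ext (by
      show hypSiegel (hypExt (binQ a b)) (0, 1, 0) * planeSwap (binQ a b) = planeSwap (binQ a b) *
        (hypSiegel (hypExt (binQ a b)) (0, 1, 0) * planeSwap (binQ a b) * hypSiegel (hypExt (binQ a b)) (0, 1, 0))
      have := plane_conj_root (P := (binQ a b)) (1 : F) 1 hd h11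
      rw [show (Units.mk0 (1 : F) hd) = 1 from Units.ext rfl, inv_one, scale_one, lev_one_one, mul_one] at this
      exact this)
    have e2 := congrArg (fun k => σ k u) e
    simp only [map_mul, Module.End.mul_apply, hl, hX, map_smul, smul_smul] at e2
    have e3 := smul_left_injective ℂ hu0 e2
    rw [hl, show l = -1 from mul_right_cancel₀ hl0 (by linear_combination -e3), neg_one_smul]
  exact hw23

set_option maxHeartbeats 1600000 in
/-- four orthogonal vectors in three lines -/
theorem false_of_vector [DecidableEq F] (h2 : Fintype.card F = 2) {W : Type*} [AddCommGroup W] [Module F W] [Fintype W]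
    {P : QuadraticForm F W} (hP : ∀ z, (∀ w, polar P z w = 0) → z = 0)
    (ρ : Representation ℂ (eichlerGroup (hypExt (hypExt P))) U) (hs : Small ρ) (u : fixU ρ)
    (hu : u ∈ eigW (descRep ρ) ((1 : F), (0 : F), (0 : W))) (hu0 : u ≠ 0) (hw23 : descRep ρ (planeE P) u = -u) :
    False := by
  classical
  have hQ1 := nondeg_hypExt hP
  have hQ2 := nondeg_hypExt hQ1
  haveI := finite_eichler (hypExt (hypExt P))
  letI := Fintype.ofFinite (eichlerGroup (hypExt (hypExt P)))
  -- in the whole representation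
  set z : U := u.1
  have hz0 : z ≠ 0 := fun e => hu0 (Subtype.ext e)
  set E12 := radE (hypExt (hypExt P)) ((0 : F), (1 : F), (0 : F × F × W))
  set E13 := radE (hypExt (hypExt P)) ((0 : F), (0 : F), ((0 : F), (1 : F), (0 : W)))
  set E23 := indE (hypExt P) (radE (hypExt P) ((0 : F), (1 : F), (0 : W)))
  set w := planeE (hypExt P)
  set w' := indE (hypExt P) (planeE P)
  have z12 : ρ E12 z = z := (mem_fixU ρ).1 u.2 _
  have z13 : ρ E13 z = z := (mem_fixU ρ).1 u.2 _
  have z23 : ρ E23 z = -z := by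
    refine (congrArg Subtype.val (hu ((0 : F), (1 : F), (0 : W)))).trans ?_
    rw [chW_apply]
    simp [polar_hypExt, psi0_one h2, z]
  have zw' : ρ w' z = -z := congrArg Subtype.val hw23
  have r1 : E13 * w = w * E23 := Subtype.ext (planeSwap_ind_siegel _).symm
  have r3 : w * E12 * w = E12 * w * E12 := by
    have hd : (1 : F) ≠ 0 := one_ne_zero
    have h11 : (1 : F) = -(1 : F)⁻¹ := by rw [inv_one]; linear_combination two_eq_zero_of_card h2
    have hsq : planeSwap (hypExt P) * planeSwap (hypExt P) = 1 := LinearEquiv.ext fun p => by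
      simp [LinearEquiv.mul_apply, planeSwap_apply]
      have hn : ∀ x : F, -x = x := fun x => by linear_combination (-x) * two_eq_zero_of_card h2
      simp [hn]
    refine Subtype.ext ?_
    show planeSwap (hypExt P) * hypSiegel _ _ * planeSwap (hypExt P) = hypSiegel _ _ * planeSwap (hypExt P) * hypSiegel _ _
    have := plane_conj_root (P := hypExt P) (1 : F) 1 hd h11
    rw [show (Units.mk0 (1 : F) hd) = 1 from Units.ext rfl, inv_one, scale_one, lev_one_one, mul_one] at this
    conv_lhs => rw [mul_assoc, this, ← mul_assoc, hsq, one_mul]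
  have r4 : w * w' * w = w' * w * w' := Subtype.ext (planeSwap_braid P)
  have r5 : w' * E13 = E12 * w' := Subtype.ext (by
    show hypInd (planeSwap P) * hypSiegel _ _ = hypSiegel _ _ * hypInd (planeSwap P)
    rw [ind_siegel (eichlerGroup_le _ planeSwap_mem), planeSwap_apply]
    simp
    rfl)
  have ap : ∀ (g h : eichlerGroup (hypExt (hypExt P))) (x : U), ρ g (ρ h x) = ρ (g * h) x := fun g h x => by
    rw [map_mul]; rfl
  set B := invForm ρ with hB
  have hinv := invForm_rep ρ
  have hbase : B z (ρ w z) = 0 := by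
    have h := hinv E13 z (ρ w z)
    rw [z13, ap, r1, ← ap, z23, map_neg, map_neg] at h
    linear_combination (-1 / 2 : ℂ) * h
  set h1 := ρ w z
  set h2' := ρ E12 h1
  set h3 := ρ w' h1
  set h4 := ρ E13 h3
  have wsq : ∀ x, ρ w (ρ w x) = x := fun x => by
    rw [ap, show w * w = 1 from Subtype.ext (LinearEquiv.ext fun p => by
      show planeSwap (hypExt P) (planeSwap (hypExt P) p) = p
      have hn : ∀ x : F, -x = x := fun x => by linear_combination (-x) * two_eq_zero_of_card h2
      simp [planeSwap_apply, hn]), map_one]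
    rfl
  have e3 : ρ E13 h1 = -h1 := by rw [ap, r1, ← ap, z23, map_neg]
  have e12 : ρ E12 h3 = -h3 := by rw [ap, ← r5, ← ap, e3, map_neg]
  have p12 : B h1 h2' = 0 := by
    rw [← hinv w h1 h2', wsq, ap, ap, r3, ← ap, z12, ← ap,
      show invForm ρ z = invForm ρ (ρ E12 z) by rw [z12], hinv, hbase]
  have p13 : B h1 h3 = 0 := by
    rw [← hinv w h1 h3, wsq, ap, ap, r4, ← ap, zw', map_neg, map_neg, ← ap,
      show invForm ρ z = -invForm ρ (ρ w' z) by rw [zw']; ext x; simp [invForm_apply], LinearMap.neg_apply, hinv, hbase]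
    simp
  have p23 : B h2' h3 = 0 := by
    have : B h2' h3 = -B (ρ E12 h1) (ρ E12 h3) := by rw [e12, map_neg, neg_neg]
    rw [this, hinv, p13, neg_zero]
  have p14 : B h1 h4 = 0 := by
    have hh : B (ρ E13 h1) (ρ E13 h3) = -B h1 h4 := by
      rw [e3]
      simp [hB, invForm_apply, h4]
    rw [hinv, p13] at hh
    exact neg_eq_zero.1 hh.symm
  have p34 : B h3 h4 = 0 := by
    have : h4 = ρ w' h2' := by
      show ρ E13 (ρ w' h1) = ρ w' (ρ E12 h1)
      have hw2 : w' * w' = 1 := Subtype.ext (LinearEquiv.ext fun p => by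
        show hypInd (planeSwap P) (hypInd (planeSwap P) p) = p
        have hn : ∀ x : F, -x = x := fun x => by linear_combination (-x) * two_eq_zero_of_card h2
        simp [planeSwap_apply, hypInd_apply, hn])
      have e : E13 * w' = w' * E12 := by
        calc E13 * w' = w' * (w' * E13) * w' := by rw [← mul_assoc w' w', hw2, one_mul]
          _ = w' * E12 * (w' * w') := by rw [r5, mul_assoc, mul_assoc, mul_assoc]
          _ = w' * E12 := by rw [hw2, mul_one]
      rw [ap, e, ← ap]
    rw [this, hinv, p12]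
  have p24 : B h2' h4 = 0 := by
    have hc : ρ E12 h4 = -h4 := by
      show ρ E12 (ρ E13 h3) = -ρ E13 h3
      rw [ap, show E12 * E13 = E13 * E12 from Subtype.ext (by
        show hypSiegel _ _ * hypSiegel _ _ = hypSiegel _ _ * hypSiegel _ _
        rw [hypSiegel_add, hypSiegel_add, add_comm]), ← ap, e12, map_neg]
    have : B h2' h4 = -B (ρ E12 h1) (ρ E12 h4) := by rw [hc, map_neg, neg_neg]
    rw [this, hinv, p14, neg_zero]
  -- supports
  have hsup : ∀ v, projW ρ v h1 ≠ 0 → v.2.1 = 0 ∧ v.2.2 = ((1 : F), (0 : F), (0 : W)) := fun v hv =>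
    plane_component ρ hQ1 (fun t => (mem_fixU ρ).1 u.2 _) (fun c => congrArg Subtype.val (hu c)) hv
  let L1 : F × F × (F × F × W) := (0, 0, (1, 0, 0))
  let L2 : F × F × (F × F × W) := (1, 0, (1, 0, 0))
  let L3 : F × F × (F × F × W) := (1, 0, 0)
  set L : Submodule ℂ U := eigW ρ L1 ⊔ eigW ρ L2 ⊔ eigW ρ L3
  have m1 : h1 ∈ eigW ρ L1 ⊔ eigW ρ L2 := by
    rw [← sum_projW ρ hQ2 h1]
    refine Submodule.sum_mem _ fun v _ => ?_
    by_cases hv : projW ρ v h1 = 0
    · rw [hv]; exact Submodule.zero_mem _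
    · obtain ⟨a1, a2⟩ := hsup v hv
      rcases eq_zero_or_one h2 v.1 with hx | hx
      · rw [show v = L1 from Prod.ext hx (Prod.ext a1 a2)]
        exact Submodule.mem_sup_left (projW_mem ρ _ _)
      · rw [show v = L2 from Prod.ext hx (Prod.ext a1 a2)]
        exact Submodule.mem_sup_right (projW_mem ρ _ _)
  have m2 : h2' ∈ eigW ρ L1 ⊔ eigW ρ L2 := by
    obtain ⟨x, hx, y, hy, hxy⟩ := Submodule.mem_sup.1 m1
    show ρ E12 h1 ∈ _
    rw [← hxy, map_add]
    refine Submodule.add_mem _ (Submodule.mem_sup_left ?_) (Submodule.mem_sup_right ?_)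
    · rw [show ρ E12 x = _ from hx _]; exact Submodule.smul_mem _ _ hx
    · rw [show ρ E12 y = _ from hy _]; exact Submodule.smul_mem _ _ hy
  have m3 : h3 ∈ eigW ρ L2 ⊔ eigW ρ L3 := by
    obtain ⟨x, hx, y, hy, hxy⟩ := Submodule.mem_sup.1 m1
    show ρ w' h1 ∈ _
    rw [← hxy, map_add]
    have hx' := ind_mem_eig ρ (planeE P) hx
    have hy' := ind_mem_eig ρ (planeE P) hy
    have hn : ∀ x : F, -x = x := fun x => by linear_combination (-x) * two_eq_zero_of_card h2
    rw [show (planeE P).1 L1 = L3 by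
      show planeSwap P L1 = L3
      simp [planeSwap_apply, L1, L3, Prod.ext_iff]] at hx'
    rw [show (planeE P).1 L2 = L2 by
      show planeSwap P L2 = L2
      simp [planeSwap_apply, L2, Prod.ext_iff, hn]] at hy'
    exact Submodule.add_mem _ (Submodule.mem_sup_right hx') (Submodule.mem_sup_left hy')
  have m4 : h4 ∈ eigW ρ L2 ⊔ eigW ρ L3 := by
    obtain ⟨x, hx, y, hy, hxy⟩ := Submodule.mem_sup.1 m3
    show ρ E13 h3 ∈ _
    rw [← hxy, map_add]
    refine Submodule.add_mem _ (Submodule.mem_sup_left ?_) (Submodule.mem_sup_right ?_)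
    · rw [show ρ E13 x = _ from hx _]; exact Submodule.smul_mem _ _ hx
    · rw [show ρ E13 y = _ from hy _]; exact Submodule.smul_mem _ _ hy
  have hL12 : eigW ρ L1 ⊔ eigW ρ L2 ≤ L := le_sup_left
  have hL23 : eigW ρ L2 ⊔ eigW ρ L3 ≤ L := sup_le_sup le_sup_right le_rfl
  let g : Fin 4 → L := ![⟨h1, hL12 m1⟩, ⟨h2', hL12 m2⟩, ⟨h3, hL23 m3⟩, ⟨h4, hL23 m4⟩]
  have hsymm : ∀ {x y : U}, B x y = 0 → B y x = 0 := fun {x y} h => by
    rw [hB, invForm_symm]
    rw [hB] at h
    rw [h, map_zero]
  have hnz : ∀ x : eichlerGroup (hypExt (hypExt P)), ∀ v : U, v ≠ 0 → ρ x v ≠ 0 := fun x v hv e =>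
    hv (rep_injective ρ x (e.trans (map_zero _).symm))
  have hli : LinearIndependent ℂ g := by
    rw [Fintype.linearIndependent_iff]
    intro c hc
    have hs : c 0 • h1 + c 1 • h2' + c 2 • h3 + c 3 • h4 = 0 := by
      have := congrArg Subtype.val hc
      simpa [g, Fin.sum_univ_four] using this
    have key : ∀ x : U, x ≠ 0 → ∀ r : ℂ, r * B x x = 0 → r = 0 := fun x hx r h =>
      (mul_eq_zero.1 h).resolve_right fun e => hx (eq_zero_of_invForm ρ e)
    have n1 : h1 ≠ 0 := hnz _ _ hz0
    have n2 : h2' ≠ 0 := hnz _ _ n1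
    have n3 : h3 ≠ 0 := hnz _ _ n1
    have n4 : h4 ≠ 0 := hnz _ _ n3
    intro i
    fin_cases i
    · refine key h1 n1 _ ?_
      have := congrArg (B h1) hs
      simpa [map_add, map_smul, p12, p13, p14] using this
    · refine key h2' n2 _ ?_
      have := congrArg (B h2') hs
      simpa [map_add, map_smul, hsymm p12, p23, p24] using this
    · refine key h3 n3 _ ?_
      have := congrArg (B h3) hs
      simpa [map_add, map_smul, hsymm p13, hsymm p23, p34] using this
    · refine key h4 n4 _ ?_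
      have := congrArg (B h4) hs
      simpa [map_add, map_smul, hsymm p14, hsymm p24, hsymm p34] using this
  have hdim : finrank ℂ L ≤ 3 := by
    have hne' : ∀ v : F × F × (F × F × W), (v = L1 ∨ v = L2 ∨ v = L3) → v ≠ 0 := by
      rintro v (rfl | rfl | rfl) e
      · exact one_ne_zero (congrArg (fun p : F × F × (F × F × W) => p.2.2.1) e)
      · exact one_ne_zero (congrArg Prod.fst e)
      · exact one_ne_zero (congrArg Prod.fst e)
    have hA := Submodule.finrank_add_le_finrank_add_finrank (eigW ρ L1 ⊔ eigW ρ L2) (eigW ρ L3)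
    have hB' := Submodule.finrank_add_le_finrank_add_finrank (eigW ρ L1) (eigW ρ L2)
    have d1 := hs.le_one L1 (hne' _ (Or.inl rfl))
    have d2 := hs.le_one L2 (hne' _ (Or.inr (Or.inl rfl)))
    have d3 := hs.le_one L3 (hne' _ (Or.inr (Or.inr rfl)))
    show finrank ℂ ↥(eigW ρ L1 ⊔ eigW ρ L2 ⊔ eigW ρ L3) ≤ 3
    omega
  have := hli.fintype_card_le_finrank
  rw [Fintype.card_fin] at this
  omega

/-- no such representation -/
theorem false_of_two [DecidableEq F] (h2 : Fintype.card F = 2) (hab : BinAniso a b) (hs : Small ρ)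
    (h0 : fixU (descRep ρ) = ⊥) (hne : eigW (descRep ρ) ((1 : F), (0 : F), (0 : F × F)) ≠ ⊥) : False := by
  obtain ⟨u, hu, hu0⟩ := Submodule.exists_mem_ne_zero_of_ne_bot hne
  have hP : ∀ z, (∀ w, polar (binQ a b) z w = 0) → z = 0 := nondeg_binQ hab
  have hw := planeE_neg h2 hab (descRep ρ) h0 hu hu0
    ((Small.desc ρ (nondeg_hypExt hP) hs).le_one _ fun e => one_ne_zero (congrArg Prod.fst e))
  exact false_of_vector h2 hP ρ hs u hu hu0 hw

end Cfsg.Agent.Lib.MinDegree.Orth
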