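import Mathlib
import Cfsg.Agent.Lib.MinDegree.Orth.MinusFamily
import Cfsg.Agent.Lib.MinDegree.Orth.AnisoBase
import Cfsg.Agent.Lib.MinDegree.Orth.MinusTwo

/-!
The bound for forms of Witt defect one: three planes over the anisotropic plane, and all larger ones.
-/

set_option autoImplicit false

namespace Cfsg.Agent.Lib.MinDegree.Orth

open QuadraticMap Module Cfsg.Agent.Lib.Classical

universe u

theorem base_arith_one {q k : ℤ} (hq : 2 ≤ q) (hk : k + 1 = q ^ 5 + q)
    (hdvd : k ∣ q ^ 5 * ((q ^ 4 + 1) * (q ^ 6 - 1))) : False := by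
  have hcop : IsCoprime k q := ⟨-1, q ^ 4 + 1, by linear_combination -hk⟩
  have h1 : k ∣ (q ^ 4 + 1) * (q ^ 6 - 1) := (hcop.pow_right (n := 5)).dvd_of_dvd_mul_left hdvd
  obtain ⟨c, hc⟩ := h1
  have h2 : k ∣ q ^ 2 - q + 1 := by
    -- `q (q⁴ + 1) = k + 1`
    refine ⟨q + (q ^ 6 - 1) - q * c, ?_⟩
    linear_combination (-(q ^ 6 - 1) - q) * hk - q * hc
  have hpos : (0 : ℤ) < q ^ 2 - q + 1 := by nlinarith
  have := Int.le_of_dvd hpos h2
  have h5 : (2 : ℤ) ^ 3 * q ^ 2 ≤ q ^ 3 * q ^ 2 :=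
    mul_le_mul_of_nonneg_right (pow_le_pow_left₀ (by norm_num) hq 3) (sq_nonneg q)
  nlinarith

theorem base_arith_two {q k : ℤ} (hq : 3 ≤ q) (hk : k + 2 = q ^ 5 + q)
    (hdvd : k ∣ q ^ 5 * ((q ^ 4 + 1) * (q ^ 6 - 1))) : False := by
  rcases eq_or_lt_of_le hq with rfl | hq4
  · obtain rfl : k = 244 := by linarith
    norm_num at hdvd
  obtain ⟨c, hc⟩ := hdvd
  set A := q ^ 4 + 1 with hA
  set X := (q - 1) ^ 2 with hX
  -- `q A = k + 2`
  have e1 : k ∣ 2 * q ^ 5 * X := ⟨q ^ 5 * (q ^ 6 - 1) + 2 * q ^ 6 - q * c, by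
    simp only [hX]
    linear_combination (-(q ^ 5 * (q ^ 6 - 1)) - 2 * q ^ 6) * hk - q * hc + (q ^ 6 * (q ^ 6 - 1)) * hA⟩
  obtain ⟨d, hd⟩ := e1
  have e2 : k ∣ 64 * X := by
    have hkA : q * A = k + 2 := by rw [hk, hA]; ring
    refine ⟨A ^ 5 * d - 2 * X * (k ^ 4 + 10 * k ^ 3 + 40 * k ^ 2 + 80 * k + 80), ?_⟩
    have h5 : (q * A) ^ 5 = (k + 2) ^ 5 := by rw [hkA]
    linear_combination A ^ 5 * hd - 2 * X * h5
  have hpos : (0 : ℤ) < 64 * X := by
    have : (0 : ℤ) < (q - 1) ^ 2 := by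
      have : (0 : ℤ) < q - 1 := by linarith
      positivity
    rw [hX]; linarith
  have := Int.le_of_dvd hpos e2
  have h5 : (4 : ℤ) ^ 3 * q ^ 2 ≤ q ^ 3 * q ^ 2 :=
    mul_le_mul_of_nonneg_right (pow_le_pow_left₀ (by norm_num) (by linarith) 3) (sq_nonneg q)
  nlinarith

variable {F : Type u} [Field F] [Fintype F] {a b : F}

/-- three planes -/
theorem degBound_minus_base (hab : BinAniso a b) :
    DegBound (eichlerGroup (tw (binBase a b) 2).form) (deg (binBase a b) 0 2) := by
  classical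
  intro k ρ hirr hmove
  obtain ⟨g, hg⟩ := hmove
  have hP : ∀ z, (∀ w, polar (binBase a b).form z w = 0) → z = 0 := nondeg_binQ hab
  haveI : Nontrivial (binBase a b).carrier := inferInstanceAs (Nontrivial (F × F))
  have ha := binBase_aniso hab
  set q := Fintype.card F with hqdef
  have hq : 2 ≤ q := Fintype.one_lt_card
  have hz : ∀ t, 1 ≤ cnt (tw (binBase a b) t).form 0 := fun t => cnt_pos
  have hqz : (q : ℤ) ≠ 0 := by omega
  have z1 : (cnt (tw (binBase a b) 1).form 0 : ℤ) = (q : ℤ) ^ 3 - q ^ 2 + q :=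
    mul_left_cancel₀ hqz (by rw [cnt_minus_zero hab 1]; ring)
  have z2 : (cnt (tw (binBase a b) 2).form 0 : ℤ) = (q : ℤ) ^ 5 - q ^ 3 + q ^ 2 :=
    mul_left_cancel₀ hqz (by rw [cnt_minus_zero hab 2]; ring)
  have z3 : (cnt (tw (binBase a b) 3).form 0 : ℤ) = (q : ℤ) ^ 7 - q ^ 4 + q ^ 3 :=
    mul_left_cancel₀ hqz (by rw [cnt_minus_zero hab 3]; ring)
  show (deg (binBase a b) 0 1) + cnt (tw (binBase a b) 2).form 0 ≤ k
  by_contra hlt
  push Not at hlt
  have hd1 : deg (binBase a b) 0 1 = cnt (tw (binBase a b) 1).form 0 := by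
    show 0 + cnt (tw (binBase a b) 1).form 0 = _
    rw [zero_add]
  have hz12 : deg (binBase a b) 0 1 + 2 ≤ cnt (tw (binBase a b) 2).form 0 := deg_minus_le 1
  have hcnt : ∀ c : F, cnt (hypExt (hypExt (binBase a b).form)) c = cnt (tw (binBase a b) 2).form c := fun _ => rfl
  have hlt' : k < 2 * (cnt (hypExt (hypExt (binBase a b).form)) 0 - 1) := by rw [hcnt]; omega
  rcases small_or_single (P := (binBase a b).form) ρ hP
    (fun c hc => by rw [hcnt, hcnt, cnt_minus hab hc]; exact Nat.le_add_right _ _)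
    (by rw [Module.finrank_fin_fun]; exact hlt') with hs | ⟨c, hc, h1, h0⟩
  · obtain ⟨e1, -⟩ := small_step (P := (binBase a b).form) ρ hP (phaseOK_aniso hP ha) hs hg
    have e2 := desc_base (P := (binBase a b).form) hP ha ρ hs hg
    rw [Module.finrank_fin_fun, hcnt] at e1
    rw [show cnt (hypExt (binBase a b).form) 0 = cnt (tw (binBase a b) 1).form 0 from rfl] at e2
    set f2 := finrank ℂ (fixU (descRep (Q := hypExt (binBase a b).form) ρ)) with hf2
    have hk2 : (k : ℤ) + 2 = f2 + ((q : ℤ) ^ 5 + q) := by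
      have e1' : (k : ℤ) + 1 = finrank ℂ (fixU (Q := hypExt (hypExt (binBase a b).form)) ρ) +
          (cnt (tw (binBase a b) 2).form 0 : ℤ) := by exact_mod_cast e1
      have e2' : (finrank ℂ (fixU (Q := hypExt (hypExt (binBase a b).form)) ρ) : ℤ) + 1 =
          f2 + (cnt (tw (binBase a b) 1).form 0 : ℤ) := by exact_mod_cast e2
      linear_combination e1' + e2' + z1 + z2
    have hf : f2 ≤ 1 := by
      have hlt2 : (k : ℤ) < (q : ℤ) ^ 5 + q := by
        have : (k : ℤ) < (deg (binBase a b) 0 1 : ℤ) + cnt (tw (binBase a b) 2).form 0 := by exact_mod_cast hlt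
        rw [hd1] at this
        linarith
      omega
    have hdvd := @dvd_class F _ _ _ _ _ _ (hypExt (binBase a b).form) _ _ k ρ _ hirr (iso_hypExt hP) hs
      (small_mult (P := (binBase a b).form) ρ hP hs hg).1
    have hdvd' := Int.natCast_dvd_natCast.2 hdvd
    have p1 : 1 ≤ cnt (hypExt (hypExt (hypExt (binBase a b).form))) 0 := cnt_pos
    have p2 : 1 ≤ cnt (hypExt (hypExt (binBase a b).form)) 0 := cnt_pos
    rw [show Fintype.card (F × F × (binBase a b).carrier) = q ^ 4 by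
      rw [Fintype.card_prod, Fintype.card_prod, card_binBase, ← hqdef]; ring, ← hqdef] at hdvd'
    push_cast [Nat.cast_sub (Nat.one_le_pow 2 q (by omega)), Nat.cast_sub p1, Nat.cast_sub p2] at hdvd'
    rw [show (cnt (hypExt (hypExt (hypExt (binBase a b).form))) 0 : ℤ) = _ from z3,
      show (cnt (hypExt (hypExt (binBase a b).form)) 0 : ℤ) = _ from z2] at hdvd'
    have hne : (q : ℤ) ^ 2 - 1 ≠ 0 := by
      have : (2 : ℤ) ≤ q := by exact_mod_cast hq
      nlinarith
    have hdvd2 : (k : ℤ) ∣ (q : ℤ) ^ 5 * (((q : ℤ) ^ 4 + 1) * ((q : ℤ) ^ 6 - 1)) := by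
      refine (mul_dvd_mul_iff_right hne).1 (hdvd'.trans (dvd_of_eq ?_))
      ring
    rcases Nat.le_one_iff_eq_zero_or_eq_one.1 hf with hf0 | hf1
    · rcases eq_or_lt_of_le hq with hq2 | hq3
      · -- the field of two elements
        have h0 : fixU (descRep (Q := hypExt (binBase a b).form) ρ) = ⊥ := Submodule.finrank_eq_zero.1 hf0
        refine false_of_two (a := a) (b := b) ρ hq2.symm hab hs h0 ?_
        intro hbot
        obtain ⟨-, hσ⟩ := small_step (P := (binBase a b).form) ρ hP (phaseOK_aniso hP ha) hs hg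
        have hQ1 := nondeg_hypExt hP
        have hsσ := Small.desc (Q := hypExt (binBase a b).form) ρ hQ1 hs
        obtain ⟨w, hw, hwne⟩ := exists_eig_ne_bot (descRep (Q := hypExt (binBase a b).form) ρ) hQ1 hσ
        by_cases hQw : hypExt (binBase a b).form w = 0
        · obtain ⟨K, hK, x, hx, hKw⟩ := exists_plane_form hP w hw
          rw [hQw, zero_div] at hKw
          have hx1 : x = 1 := (eq_zero_or_one hq2.symm x).resolve_left hx
          have h := finrank_eig_ind (P := (binBase a b).form) (descRep (Q := hypExt (binBase a b).form) ρ) ⟨K, hK⟩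
            (x, (0 : F), (0 : (binBase a b).carrier))
          rw [hKw, hx1] at h
          refine hwne (Submodule.finrank_eq_zero.1 (h.trans ?_))
          rw [show eigW (descRep (Q := hypExt (binBase a b).form) ρ) ((1 : F), (0 : F), (0 : (binBase a b).carrier)) = ⊥
            from hbot, finrank_bot]
        · exact hwne (hsσ.bot w hQw)
      · refine base_arith_two (q := (q : ℤ)) (by exact_mod_cast hq3) ?_ hdvd2
        rw [hk2, hf0]; push_cast; ring
    · refine base_arith_one (q := (q : ℤ)) (by exact_mod_cast hq) ?_ hdvd2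
      rw [hf1] at hk2; push_cast at hk2; linarith
  · have h := mult_mul_le (P := hypExt (binBase a b).form) ρ (iso_hypExt hP) {c}
    rw [Finset.sum_singleton, Module.finrank_fin_fun, h1, if_neg hc, one_mul, Nat.sub_zero, hcnt,
      cnt_minus hab hc] at h
    have hz13 : cnt (tw (binBase a b) 1).form 0 ≤ q ^ 3 := by
      have h' : ((cnt (tw (binBase a b) 1).form 0 : ℕ) : ℤ) ≤ ((q ^ 3 : ℕ) : ℤ) := by
        push_cast
        rw [z1]
        have : (2 : ℤ) ≤ q := by exact_mod_cast hq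
        nlinarith
      exact_mod_cast h'
    rw [← hqdef] at h
    norm_num at h
    omega

/-- towers over the anisotropic plane -/
theorem degBound_minus (hab : BinAniso a b) :
    ∀ t, DegBound (eichlerGroup (tw (binBase a b) (t + 2)).form) (deg (binBase a b) 0 (t + 2))
  | 0 => degBound_minus_base hab
  | t + 1 => degBound_minus_succ hab t (degBound_minus hab t)

end Cfsg.Agent.Lib.MinDegree.Orth
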