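import Mathlib
import Cfsg.Agent.Lib.MinDegree.Orth.AnisoBase
import Cfsg.Agent.Lib.MinDegree.Orth.ClassSize
import Cfsg.Agent.Lib.MinDegree.Orth.LeviFixed
import Cfsg.Agent.Lib.MinDegree.Orth.Tower

/-!
The bound in odd dimension.
-/

set_option autoImplicit false

namespace Cfsg.Agent.Lib.MinDegree.Orth

open QuadraticMap Module Cfsg.Agent.Lib.Classical

universe u

variable {F : Type u} [Field F] [Fintype F]

variable (F) in
/-- the one-dimensional base -/
noncomputable abbrev sqBase : QSp F := ⟨F, QuadraticMap.sq (R := F) (A := F)⟩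

theorem sqBase_apply (x : F) : (sqBase F).form x = x * x := rfl

theorem sqBase_aniso : ∀ w, (sqBase F).form w = 0 → w = 0 := fun w h =>
  mul_self_eq_zero.1 (by rwa [sqBase_apply] at h)

theorem cnt_sqBase : cnt (sqBase F).form 0 = 1 :=
  Nat.card_eq_one_iff_unique.2
    ⟨⟨fun a b => Subtype.ext ((sqBase_aniso a.1 a.2).trans (sqBase_aniso b.1 b.2).symm)⟩, ⟨⟨0, map_zero _⟩⟩⟩

theorem card_sqBase : Fintype.card (sqBase F).carrier = Fintype.card F := rfl

theorem cnt_odd : ∀ t, cnt (tw (sqBase F) t).form 0 = Fintype.card F ^ (2 * t)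
  | 0 => by rw [mul_zero, pow_zero]; exact cnt_sqBase
  | t + 1 => by
    rw [cnt_tw_succ, cnt_odd t, card_tw, card_sqBase]
    obtain ⟨q, hq⟩ := Nat.exists_eq_add_of_le (Fintype.card_pos (α := F))
    rw [hq]
    simp only [Nat.succ_eq_add_one, zero_add, add_tsub_cancel_left]
    ring

theorem deg_odd : ∀ t, deg (sqBase F) 1 t * (Fintype.card F ^ 2 - 1) + 1 = Fintype.card F ^ (2 * (t + 1))
  | 0 => by
    show 1 * (Fintype.card F ^ 2 - 1) + 1 = _
    have := Nat.one_le_pow 2 _ (Fintype.card_pos (α := F))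
    simp only [zero_add, mul_one, one_mul]
    omega
  | t + 1 => by
    show (deg (sqBase F) 1 t + cnt (tw (sqBase F) (t + 1)).form 0) * _ + 1 = _
    rw [cnt_odd, add_mul, add_right_comm, deg_odd t]
    obtain ⟨q, hq⟩ := Nat.exists_eq_add_of_le (Nat.one_le_pow 2 _ (Fintype.card_pos (α := F)))
    rw [pow_mul, pow_mul, hq, add_tsub_cancel_left]
    ring

theorem deg_odd_one : deg (sqBase F) 1 1 = Fintype.card F ^ 2 + 1 := by
  show 1 + cnt (tw (sqBase F) 1).form 0 = _
  rw [cnt_odd, add_comm]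

theorem odd_hb (hq : 4 ≤ Fintype.card F) :
    Fintype.card F * cnt (tw (sqBase F) 1).form 0 + deg (sqBase F) 1 1 ≤
      (Fintype.card F - 1) * Fintype.card (tw (sqBase F) 1).carrier := by
  rw [deg_odd_one, cnt_odd, card_tw, card_sqBase]
  obtain ⟨q, hq'⟩ := Nat.exists_eq_add_of_le hq
  rw [hq', show 4 + q - 1 = 3 + q by omega]
  ring_nf
  nlinarith

section unevenness

variable (hodd : Odd (Fintype.card F))

include hodd

theorem sq_nondeg : ∀ z, (∀ w, polar (sqBase F).form z w = 0) → z = 0 :=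
  nondeg_sq (two_ne_zero_of_odd_card hodd)

theorem sq_uneven : Uneven (sqBase F).form := by
  classical
  have h2 : (2 : F) ≠ 0 := two_ne_zero_of_odd_card hodd
  have hch : ringChar F ≠ 2 := fun h => h2 (by
    haveI : CharP F 2 := h ▸ ringChar.charP F
    exact CharTwo.two_eq_zero)
  obtain ⟨ν, hν⟩ := FiniteField.exists_nonsquare hch
  refine ⟨1, ν, one_ne_zero, fun h => hν (h ▸ IsSquare.zero), ?_⟩
  have h0 : cnt (sqBase F).form ν = 0 :=
    Nat.card_eq_zero.2 (Or.inl ⟨fun x => hν ⟨(x.1 : F), x.2.symm⟩⟩)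
  rw [h0]
  exact (Nat.card_pos_iff.2 ⟨⟨⟨(1 : F), mul_one (1 : F)⟩⟩, Subtype.finite⟩).ne'

theorem odd_uneven : ∀ t, Uneven (tw (sqBase F) t).form
  | 0 => sq_uneven hodd
  | t + 1 => (odd_uneven t).hypExt

end unevenness

/-- the complement fixes a vector -/
def LeviFixProp {W : Type u} [AddCommGroup W] [Module F W] [Fintype W] (P : QuadraticForm F W) : Prop :=
  ∀ (U : Type) [AddCommGroup U] [Module ℂ U] [FiniteDimensional ℂ U]
    (ρ : Representation ℂ (eichlerGroup (hypExt (hypExt P))) U), Small ρ → NoFix ρ → Nontrivial U →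
      ∃ u, u ≠ 0 ∧ Fix2 ρ u ∧ ∀ k, ρ (indE (hypExt P) k) u = u

theorem exists_moved {G : Type*} [Group G] {U : Type*} [AddCommGroup U] [Module ℂ U] {ρ : Representation ℂ G U}
    (hn : NoFix ρ) [Nontrivial U] : ∃ g, ρ g ≠ 1 := by
  by_contra h
  push Not at h
  obtain ⟨u, hu⟩ := exists_ne (0 : U)
  exact hu (hn u fun g => by rw [h g]; rfl)

/-- one more plane -/
theorem leviFix_step (hq : 3 < Fintype.card F) {W : Type u} [AddCommGroup W] [Module F W] [Fintype W] [Nontrivial W]
    {P : QuadraticForm F W} (hP : ∀ z, (∀ w, polar P z w = 0) → z = 0) (hu : Uneven P) (h : LeviFixProp P) :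
    LeviFixProp (hypExt P) := by
  classical
  intro U _ _ _ ρ hs hn _
  haveI := finite_eichler (hypExt (hypExt P))
  letI := Fintype.ofFinite (eichlerGroup (hypExt (hypExt P)))
  have hQ := nondeg_hypExt hP
  obtain ⟨g, hg⟩ := exists_moved hn
  obtain ⟨-, hσ⟩ := small_step ρ hQ (phaseOK_of_card hQ hq 0) hs hg
  set σ := descRep ρ
  haveI : Nontrivial (movingPart σ).toSubmodule := by
    by_contra hnt
    haveI := not_nontrivial_iff_subsingleton.1 hnt
    exact moving_ne_one σ hσ (LinearMap.ext fun v => Subsingleton.elim _ _)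
  obtain ⟨v, hv0, hv2, hvL⟩ := h _ (movingPart σ).toRepresentation
    ((Small.desc ρ (nondeg_hypExt hQ) hs).sub _) (noFix_movingPart σ) inferInstance
  have h1 : ∀ a, σ (radE (hypExt (hypExt P)) a) v.1 = v.1 := fun a => congrArg Subtype.val (hv2.1 a)
  have h2 : ∀ k, σ (indE (hypExt P) k) v.1 = v.1 := fun k => congrArg Subtype.val (hvL k)
  refine exists_levi_fixed ρ hq hQ hu.hypExt hs (u0 := v.1.1)
    ⟨⟨(mem_fixU ρ).1 v.1.2, fun a => congrArg Subtype.val (h1 a)⟩, fun k => congrArg Subtype.val (h2 k)⟩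
    fun e => hv0 (Subtype.ext (Subtype.ext e))

section base

variable (hodd : Odd (Fintype.card F)) (hq : 3 < Fintype.card F)

include hodd

omit hq in
theorem inK_of_fix2 {U : Type} [AddCommGroup U] [Module ℂ U] [FiniteDimensional ℂ U]
    (ρ : Representation ℂ (eichlerGroup (hypExt (hypExt (sqBase F).form))) U) (hs : Small ρ) (u : U)
    (hu : Fix2 ρ u) : InK ρ u := by
  have hP := sq_nondeg hodd
  have hs2 := Small.desc _ hP (Small.desc ρ (nondeg_hypExt hP) hs)
  haveI : Nontrivial (sqBase F).carrier := inferInstanceAs (Nontrivial F)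
  refine ⟨hu, fun k => ?_⟩
  let u1 : fixU ρ := ⟨u, (mem_fixU ρ).2 hu.1⟩
  let u2 : fixU (descRep ρ) := ⟨u1, (mem_fixU (descRep ρ)).2 fun a => Subtype.ext (hu.2 a)⟩
  have h := LinearMap.congr_fun (trivial_of_aniso hP sqBase_aniso (descRep (descRep ρ)) hs2 k) u2
  exact congrArg (fun x => x.1.1) h

include hq

/-- over a point some vector is fixed by both radicals -/
theorem exists_inK_base {U : Type} [AddCommGroup U] [Module ℂ U] [FiniteDimensional ℂ U] [Nontrivial U]
    (ρ : Representation ℂ (eichlerGroup (hypExt (hypExt (sqBase F).form))) U) (hs : Small ρ) (hn : NoFix ρ) :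
    ∃ u, u ≠ 0 ∧ InK ρ u := by
  classical
  have hP := sq_nondeg hodd
  haveI : Nontrivial (sqBase F).carrier := inferInstanceAs (Nontrivial F)
  haveI := finite_eichler (hypExt (hypExt (sqBase F).form))
  obtain ⟨S, hS⟩ := exists_irreducible_sub ρ
  obtain ⟨k, hk⟩ : ∃ k, k = finrank ℂ S.toSubmodule := ⟨_, rfl⟩
  set e := (Module.finBasisOfFinrankEq ℂ S.toSubmodule hk.symm).equivFun with he
  set π := Chars.conjRep S.toRepresentation e with hπ
  have hirr : π.IsIrreducible := Chars.isIrreducible_of_equiv (Chars.conjRepEquiv S.toRepresentation e)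
  let f : (Fin k → ℂ) →ₗ[ℂ] U := S.toSubmodule.subtype.comp e.symm.toLinearMap
  have hf : Function.Injective f := (Submodule.injective_subtype _).comp e.symm.injective
  have hfρ : ∀ g v, f (π g v) = ρ g (f v) := fun g v => by
    show ((e.symm (e (S.toRepresentation g (e.symm v)))) : U) = ρ g (e.symm v)
    rw [e.symm_apply_apply]
    rfl
  have hsπ : Small π := hs.of_injective hf hfρ
  haveI := Chars.nontrivial_of_isIrreducible π
  have hnπ : NoFix π := fun v hv => hf (by rw [map_zero]; exact hn _ fun g => by rw [← hfρ, hv g])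
  obtain ⟨g, hg⟩ := exists_moved hnπ
  by_cases h0 : fixU (descRep π) = ⊥
  · exfalso
    obtain ⟨e1, -⟩ := small_step π hP (phaseOK_aniso hP sqBase_aniso) hsπ hg
    have e2 := desc_base hP sqBase_aniso π hsπ hg
    rw [h0, finrank_bot] at e2
    rw [Module.finrank_fin_fun] at e1
    rw [show cnt (hypExt (hypExt (sqBase F).form)) 0 = Fintype.card F ^ 4 from cnt_odd 2] at e1
    rw [show cnt (hypExt (sqBase F).form) 0 = Fintype.card F ^ 2 from cnt_odd 1] at e2
    have hd := @dvd_class F _ _ _ _ _ _ (hypExt (sqBase F).form) _ _ k π _ hirr (iso_hypExt hP) hsπ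
      (small_mult π hP hsπ hg).1
    rw [show cnt (hypExt (hypExt (hypExt (sqBase F).form))) 0 = Fintype.card F ^ 6 from cnt_odd 3,
      show cnt (hypExt (hypExt (sqBase F).form)) 0 = Fintype.card F ^ 4 from cnt_odd 2,
      show Fintype.card (F × F × (sqBase F).carrier) = Fintype.card F ^ 3 by
        rw [Fintype.card_prod, Fintype.card_prod, card_sqBase]; ring] at hd
    set q := Fintype.card F
    have hd' := Int.natCast_dvd_natCast.2 hd
    push_cast [Nat.cast_sub (Nat.one_le_pow 2 q (by omega)), Nat.cast_sub (Nat.one_le_pow 6 q (by omega)),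
      Nat.cast_sub (Nat.one_le_pow 4 q (by omega))] at hd'
    have hk' : (k : ℤ) = ((q : ℤ) ^ 2 + 2) * ((q : ℤ) ^ 2 - 1) := by
      have e1' : (k : ℤ) + 1 = finrank ℂ (fixU π) + (q : ℤ) ^ 4 := by exact_mod_cast e1
      have e2' : (finrank ℂ (fixU π) : ℤ) + 1 = ((0 + q ^ 2 : ℕ) : ℤ) := by exact_mod_cast e2
      push_cast at e2'
      linear_combination e1' + e2'
    rw [hk'] at hd'
    set x : ℤ := (q : ℤ) ^ 2 with hx
    have hx25 : 16 ≤ x := by
      have : (4 : ℤ) ≤ q := by exact_mod_cast hq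
      nlinarith
    have h1 : x + 2 ∣ (x ^ 2 + x + 1) * (x + 1) * x ^ 2 := by
      refine (mul_dvd_mul_iff_right (show (x - 1) * (x - 1) ≠ 0 by nlinarith)).1 ?_
      refine (dvd_of_eq ?_).trans (hd'.trans (dvd_of_eq ?_))
      · ring
      · simp only [hx]; ring
    obtain ⟨c, hc⟩ := h1
    have h2 : x + 2 ∣ 12 := ⟨x ^ 4 + 2 * x ^ 2 - 3 * x + 6 - c, by linear_combination -hc⟩
    have := Int.le_of_dvd (by norm_num) h2
    omega
  · obtain ⟨w, hw, hw0⟩ := Submodule.exists_mem_ne_zero_of_ne_bot h0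
    refine ⟨f w.1, fun e => hw0 (Subtype.ext (hf (e.trans (map_zero f).symm))), inK_of_fix2 hodd ρ hs _
      ⟨fun a => ?_, fun a => ?_⟩⟩
    · rw [zU, ← hfρ]; exact congrArg f ((mem_fixU π).1 w.2 a)
    · rw [← hfρ]; exact congrArg f (congrArg Subtype.val ((mem_fixU (descRep π)).1 hw a))

theorem leviFix_base : LeviFixProp (sqBase F).form := by
  intro U _ _ _ ρ hs hn _
  haveI : Nontrivial (sqBase F).carrier := inferInstanceAs (Nontrivial F)
  obtain ⟨u, hu0, hu⟩ := exists_inK_base hodd hq ρ hs hn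
  exact exists_levi_fixed ρ hq (sq_nondeg hodd) (sq_uneven hodd) hs hu hu0

theorem leviFix_tw : ∀ t, LeviFixProp (tw (sqBase F) t).form
  | 0 => leviFix_base hodd hq
  | t + 1 => by
    haveI : Nontrivial (tw (sqBase F) t).carrier := by
      cases t with
      | zero => exact inferInstanceAs (Nontrivial F)
      | succ t => exact tw_nontrivial _ t
    exact leviFix_step hq (tw_nondeg (sq_nondeg hodd) t) (odd_uneven hodd t) (leviFix_tw t)

/-- the bound for towers over a point -/
theorem degBound_odd : ∀ t, DegBound (eichlerGroup (tw (sqBase F) (t + 2)).form) (deg (sqBase F) 1 (t + 2)) := by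
  classical
  intro t
  induction t with
  | zero =>
    intro k ρ hirr hmove
    obtain ⟨g, hg⟩ := hmove
    set P := (sqBase F).form
    have hP : ∀ z, (∀ w, polar P z w = 0) → z = 0 := sq_nondeg hodd
    haveI : Nontrivial (sqBase F).carrier := inferInstanceAs (Nontrivial F)
    show deg (sqBase F) 1 1 + cnt (tw (sqBase F) 2).form 0 ≤ k
    rw [deg_odd_one]
    by_contra hlt
    push Not at hlt
    have hsmall : @Small F _ _ _ _ _ (hypExt (hypExt P)) (Fin k → ℂ) _ _ ρ := by
      refine small_of_lt (P := P) ρ hq hP ?_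
      rw [Module.finrank_fin_fun]
      refine lt_of_lt_of_le hlt ?_
      rw [← deg_odd_one]
      exact deg_le (by omega) (odd_hb (by omega)) 1 le_rfl
    haveI := Chars.nontrivial_of_isIrreducible ρ
    have hn : NoFix ρ := @noFix_of_irreducible _ _ _ _ _ ρ hirr _ g hg
    obtain ⟨e1, -⟩ := small_step (P := P) ρ hP (phaseOK_aniso hP sqBase_aniso) hsmall hg
    have e2 := desc_base (P := P) hP sqBase_aniso ρ hsmall hg
    obtain ⟨u, hu0, hu⟩ := exists_inK_base hodd hq ρ hsmall hn
    have h3 := three_le_fix2 (P := P) ρ hq hP (sq_uneven hodd) hsmall hn (fun u hu => inK_of_fix2 hodd ρ hsmall u hu)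
      hu hu0
    have hle : finrank ℂ (fix2S (P := P) ρ) ≤ finrank ℂ (fixU (descRep (Q := hypExt P) ρ)) :=
      LinearMap.finrank_le_finrank_of_injective
        (f := ({ toFun := fun u => ⟨⟨u.1, (mem_fixU ρ).2 u.2.1⟩,
                    (mem_fixU (descRep (Q := hypExt P) ρ)).2 fun a => Subtype.ext (u.2.2 a)⟩
                 map_add' := fun _ _ => rfl
                 map_smul' := fun _ _ => rfl } :
            fix2S (P := P) ρ →ₗ[ℂ] fixU (descRep (Q := hypExt P) ρ)))
        fun a b h => Subtype.ext (congrArg (fun x => x.1.1) h)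
    rw [Module.finrank_fin_fun] at e1
    rw [show cnt (hypExt (hypExt P)) 0 = cnt (tw (sqBase F) 2).form 0 from rfl] at e1
    rw [show cnt (hypExt P) 0 = Fintype.card F ^ 2 from cnt_odd 1] at e2
    omega
  | succ t ih =>
    intro k ρ hirr hmove
    obtain ⟨g, hg⟩ := hmove
    haveI := finite_eichler (tw (sqBase F) (t + 2)).form
    letI := Fintype.ofFinite (eichlerGroup (tw (sqBase F) (t + 2)).form)
    haveI : Nontrivial (tw (sqBase F) (t + 1)).carrier := tw_nontrivial _ t
    set P := (tw (sqBase F) (t + 1)).form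
    have hP : ∀ z, (∀ w, polar P z w = 0) → z = 0 := tw_nondeg (sq_nondeg hodd) (t + 1)
    show deg (sqBase F) 1 (t + 2) + cnt (tw (sqBase F) (t + 3)).form 0 ≤ k
    by_contra hlt
    push Not at hlt
    have hsmall : @Small F _ _ _ _ _ (hypExt (hypExt P)) (Fin k → ℂ) _ _ ρ := by
      refine small_of_lt (P := P) ρ hq hP ?_
      rw [Module.finrank_fin_fun]
      exact lt_of_lt_of_le hlt (deg_le (by omega) (odd_hb (by omega)) (t + 2) (by omega))
    haveI := Chars.nontrivial_of_isIrreducible ρ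
    have hn : NoFix ρ := @noFix_of_irreducible _ _ _ _ _ ρ hirr _ g hg
    obtain ⟨e1, e2⟩ := small_step (P := P) ρ hP (phaseOK_of_card hP hq 0) hsmall hg
    obtain ⟨u, hu0, hu2, huL⟩ := leviFix_tw hodd hq (t + 1) (Fin k → ℂ) ρ hsmall hn inferInstance
    rw [Module.finrank_fin_fun, show cnt (hypExt (hypExt P)) 0 = cnt (tw (sqBase F) (t + 3)).form 0 from rfl] at e1
    set σ : Representation ℂ (eichlerGroup (tw (sqBase F) (t + 2)).form) (fixU (Q := hypExt (hypExt P)) ρ) :=
      descRep (Q := hypExt P) ρ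
    have h1 := finrank_moving_add σ (u := ⟨u, (mem_fixU ρ).2 hu2.1⟩) (fun k => Subtype.ext (huL k))
      fun e => hu0 (congrArg Subtype.val e)
    have h2 : deg (sqBase F) 1 (t + 2) ≤ finrank ℂ (movingPart σ).toSubmodule :=
      @DegBound.le_finrank _ _ _ _ ih (↥(movingPart σ).toSubmodule) _ _ _ (movingPart σ).toRepresentation _ (moving_ne_one σ e2)
    omega

end base

end Cfsg.Agent.Lib.MinDegree.Orth
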