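import Mathlib
import Cfsg.Agent.Lib.MinDegree.LinearPerm
import Cfsg.Agent.Lib.Classical.LowRank.PlusSix
import Cfsg.Agent.Lib.MinDegree.Orth.Tower

/-!
Three hyperbolic planes: `SL₄` covers the group.
-/

set_option autoImplicit false

namespace Cfsg.Agent.Lib.MinDegree.Orth

open Matrix Cfsg.Agent.Lib.Classical

theorem irreducible_comp_surj {G H : Type*} [Group G] [Group H] (φ : G →* H) (hφ : Function.Surjective φ)
    {U : Type*} [AddCommGroup U] [Module ℂ U] (ρ : Representation ℂ H U) (hρ : ρ.IsIrreducible) :
    Representation.IsIrreducible (ρ.comp φ : Representation ℂ G U) := by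
  haveI : Nontrivial (Subrepresentation (ρ.comp φ : Representation ℂ G U)) := by
    haveI := Chars.nontrivial_of_isIrreducible ρ
    exact ⟨⊥, ⊤, fun h => bot_ne_top (α := Submodule ℂ U) (congrArg Subrepresentation.toSubmodule h)⟩
  refine ⟨fun S => ?_⟩
  let S' : Subrepresentation ρ := ⟨S.toSubmodule, fun g v hv => by
    obtain ⟨x, rfl⟩ := hφ g
    exact S.apply_mem_toSubmodule x hv⟩
  rcases hρ.eq_bot_or_eq_top S' with h | h
  · left
    apply Subrepresentation.toSubmodule_injective
    exact congrArg (fun T : Subrepresentation ρ => T.toSubmodule) h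
  · right
    apply Subrepresentation.toSubmodule_injective
    exact congrArg (fun T : Subrepresentation ρ => T.toSubmodule) h

variable {F : Type*} [Field F] [Fintype F]

theorem exists_SL_four_onto :
    ∃ f : Matrix.SpecialLinearGroup (Fin 4) F →* Cfsg.Omega F (Cfsg.quadFormPlus 3 F), Function.Surjective f := by
  classical
  let φ : Matrix.SpecialLinearGroup (Fin 4) F →* Matrix (Fin 4) (Fin 4) F :=
    { toFun := fun g => g.1, map_one' := rfl, map_mul' := fun _ _ => rfl }
  have hdet : ∀ s, (φ s).det = 1 := fun s => s.2
  have hperf : commutator (Matrix.SpecialLinearGroup (Fin 4) F) = ⊤ :=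
    LinGroup.commutator_SL_fin_eq_top (by norm_num) (fun h => absurd h (by norm_num))
  have hne : ∃ s, LowRank.repAlt φ hdet s ≠ 1 := by
    refine ⟨Matrix.SpecialLinearGroup.transvection (show (0 : Fin 4) ≠ 1 by decide) (1 : F), fun h => ?_⟩
    have h1 := LowRank.mem_ker_modelHom.1 (MonoidHom.mem_ker.2 h) (Sum.elim 0 ![0, 0, 1])
    rw [LowRank.altAct_apply] at h1
    have h2 := congrFun (congrFun h1 0) 2
    simp [φ, LinGroup.coe_transvection, Matrix.transvection, LowRank.altEmb, Matrix.mul_apply, Fin.sum_univ_four,
      Matrix.vecMul, dotProduct, Matrix.single] at h2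
  have hker : (LowRank.repAlt φ hdet).ker ≤ Subgroup.center _ :=
    LowRank.ker_le_center_of_simple (LinGroup.isSimpleGroup_PSL_fin (by norm_num) (fun h => absurd h (by norm_num)))
      hperf _ hne
  have hcard : Nat.card (LowRank.repAlt φ hdet).ker = if Even (Fintype.card F) then 1 else 2 := by
    refine LowRank.natCard_ker_repAlt φ hdet (fun a b h => Subtype.ext h) (fun s hs => ?_) fun r hr => ?_
    · obtain ⟨r, -, hr⟩ := Matrix.SpecialLinearGroup.mem_center_iff.1 (hker hs)
      exact ⟨r, hr.symm⟩
    · refine ⟨⟨Matrix.scalar (Fin 4) r, ?_⟩, rfl⟩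
      simp [Matrix.scalar_apply]
      linear_combination (r ^ 2 + 1) * hr
  have hrange : (LowRank.repAlt φ hdet).range = Cfsg.Omega F (Cfsg.quadFormPlus 3 F) := by
    refine LowRank.range_eq_omega (StdForms.plusQ F 3) (StdForms.coe_plusQ F 3)
      (fun _ => StdForms.plusQ_nondegenerate 3) (by simp) _ (Or.inl hperf) ?_
    rw [natCard_isometryGroup_plus, hcard, LowRank.natCard_SL_four, Nat.card_eq_fintype_card]
    simp only [Finset.prod_range_succ, Finset.prod_range_zero]
    split_ifs <;> ring
  exact ⟨(MulEquiv.subgroupCongr hrange).toMonoidHom.comp (LowRank.repAlt φ hdet).rangeRestrict,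
    (MulEquiv.subgroupCongr hrange).surjective.comp (MonoidHom.rangeRestrict_surjective _)⟩

/-- the bound for three hyperbolic planes -/
theorem degBound_omega_six (hq : 4 ≤ Fintype.card F) :
    DegBound (Cfsg.Omega F (Cfsg.quadFormPlus 3 F)) (Fintype.card F + Fintype.card F ^ 2 + Fintype.card F ^ 3) := by
  classical
  obtain ⟨f, hf⟩ := exists_SL_four_onto (F := F)
  intro k σ hσ ⟨x, hx⟩
  obtain ⟨g, rfl⟩ := hf x
  have hirr := irreducible_comp_surj f hf σ hσ
  have hk2 : 2 ≤ k := by
    rcases Nat.lt_or_ge k 2 with hlt | hge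
    · exfalso
      -- a one-dimensional representation of a perfect group is trivial
      interval_cases k
      · exact hx (LinearMap.ext fun v => Subsingleton.elim _ _)
      · have hperf : commutator (Matrix.SpecialLinearGroup (Fin 4) F) = ⊤ :=
          LinGroup.commutator_SL_fin_eq_top (by norm_num) (fun h => absurd h (by norm_num))
        have hle : commutator (Matrix.SpecialLinearGroup (Fin 4) F) ≤
            (σ.comp f : Representation ℂ (Matrix.SpecialLinearGroup (Fin 4) F) (Fin 1 → ℂ)).ker := by
          rw [commutator_def, Subgroup.commutator_le]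
          intro a _ b _
          rw [MonoidHom.mem_ker, commutatorElement_def]
          have hcomm : ∀ A B : Module.End ℂ (Fin 1 → ℂ), A * B = B * A := fun A B => by
            refine LinearMap.ext fun v => funext fun i => ?_
            have key : ∀ (M : Module.End ℂ (Fin 1 → ℂ)) (v : Fin 1 → ℂ), M v = v 0 • M (fun _ => 1) := fun M v => by
              rw [← map_smul]; congr 1; funext j; simp [Subsingleton.elim j 0]
            simp only [Module.End.mul_apply]
            rw [key A (B v), key B v, key B (A v), key A v]
            simp only [Pi.smul_apply, smul_eq_mul, Subsingleton.elim i 0]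
            ring
          rw [map_mul, map_mul, map_mul, hcomm ((σ.comp f) a), mul_assoc ((σ.comp f) b), ← map_mul _ a a⁻¹,
            mul_inv_cancel, map_one, mul_one, ← map_mul, mul_inv_cancel, map_one]
        rw [hperf] at hle
        exact hx (MonoidHom.mem_ker.1 (hle (Subgroup.mem_top g)))
    · exact hge
  have h := sl_degree_bound (r := 3) (by norm_num) (fun h => absurd h (by norm_num)) (fun _ => hq)
    (σ.comp f) hirr hk2
  rw [slTarget, Finset.sum_range_succ, Finset.sum_range_succ, Finset.sum_range_succ, Finset.sum_range_zero] at h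
  simpa using h

end Cfsg.Agent.Lib.MinDegree.Orth
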