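import Mathlib
import Cfsg.Agent.Lib.MinDegree.Orth.PlusBase
import Cfsg.Agent.Lib.MinDegree.Orth.ClassSize

/-!
The bound for hyperbolic forms.
-/

set_option autoImplicit false

namespace Cfsg.Agent.Lib.MinDegree.Orth

open QuadraticMap Module Cfsg.Agent.Lib.Classical

universe u

/-- a tower seen in a standard model -/
theorem omega_bound {F : Type u} [Field F] [Fintype F] {B : QSp F}
    (hB : ∀ z, (∀ w, polar B.form z w = 0) → z = 0) {ι : Type} [Fintype ι] [DecidableEq ι]
    {Q0 : QuadraticForm F (ι → F)} {k : ℕ} (M : TwoPlaneModel Q0 (hypTower (k + 1) B.form)) :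
    Nonempty (eichlerGroup (tw B (k + 2)).form ≃* Cfsg.Omega F ⇑Q0) := by
  classical
  haveI : Module.Finite F B.carrier := Module.Finite.of_finite
  have e1 : eichlerGroup (hypExt (tw B (k + 1)).form) ≃* eichlerGroup (hypExt (hypTower (k + 1) B.form)) :=
    eichlerCongr ((LinearEquiv.refl F F).prodCongr ((LinearEquiv.refl F F).prodCongr (twTower B (k + 1)))) fun v => by
      rw [hypExt_apply, hypExt_apply]
      show v.1 * v.2.1 + hypTower (k + 1) B.form (twTower B (k + 1) v.2.2) = _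
      rw [twTower_spec]
  exact ⟨e1.trans (M.omegaEquiv (isotropicNondeg_hypTower hB k)).symm⟩

variable {F : Type u} [Field F] [Fintype F]

variable (F) in
/-- the empty base -/
noncomputable abbrev zeroBase : QSp F := ⟨Fin 0 → F, 0⟩

theorem zero_nondeg : ∀ z, (∀ w, polar (zeroBase F).form z w = 0) → z = 0 :=
  fun _ _ => Subsingleton.elim _ _

theorem card_zeroBase : Fintype.card (zeroBase F).carrier = 1 := by
  show Fintype.card (Fin 0 → F) = 1
  simp

theorem cnt_zeroBase : cnt (zeroBase F).form 0 = 1 :=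
  Nat.card_eq_one_iff_unique.2 ⟨⟨fun a b => Subtype.ext (Subsingleton.elim _ _)⟩, ⟨⟨0, map_zero _⟩⟩⟩

theorem cnt_plus : ∀ t, (Fintype.card F : ℤ) * cnt (tw (zeroBase F) t).form 0 =
    (Fintype.card F : ℤ) ^ (2 * t) + (Fintype.card F : ℤ) ^ (t + 1) - (Fintype.card F : ℤ) ^ t
  | 0 => by
    show (Fintype.card F : ℤ) * cnt (zeroBase F).form 0 = _
    rw [cnt_zeroBase]
    simp
  | t + 1 => by
    have ih := cnt_plus t
    rw [cnt_tw_succ, card_tw, card_zeroBase]
    push_cast [Nat.cast_sub (Fintype.card_pos (α := F))]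
    linear_combination (Fintype.card F : ℤ) * ih

theorem deg_plus : ∀ t, (deg (zeroBase F) 1 t : ℤ) * ((Fintype.card F : ℤ) ^ 2 - 1) =
    ((Fintype.card F : ℤ) ^ (t + 1) - 1) * ((Fintype.card F : ℤ) ^ t + (Fintype.card F : ℤ))
  | 0 => by
    show ((1 : ℕ) : ℤ) * _ = _
    push_cast
    ring
  | t + 1 => by
    have ih := deg_plus t
    have hc := cnt_plus (F := F) (t + 1)
    show ((deg (zeroBase F) 1 t + cnt (tw (zeroBase F) (t + 1)).form 0 : ℕ) : ℤ) * _ = _
    push_cast
    refine mul_left_cancel₀ (Nat.cast_ne_zero.2 Fintype.card_ne_zero : (Fintype.card F : ℤ) ≠ 0) ?_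
    linear_combination (Fintype.card F : ℤ) * ih + ((Fintype.card F : ℤ) ^ 2 - 1) * hc

theorem deg_plus_one : deg (zeroBase F) 1 1 = 2 * Fintype.card F := by
  show 1 + cnt (tw (zeroBase F) 1).form 0 = _
  rw [cnt_tw_succ, card_tw, card_zeroBase]
  show 1 + ((_ - 1) * (_ * 1) + _ * cnt (zeroBase F).form 0) = _
  rw [cnt_zeroBase]
  have := Fintype.card_pos (α := F)
  simp
  omega

theorem dvd_deg_plus : ∀ t, Fintype.card F ∣ deg (zeroBase F) 1 (t + 1)
  | 0 => by rw [deg_plus_one]; exact dvd_mul_left _ _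
  | t + 1 => by
    show _ ∣ deg (zeroBase F) 1 (t + 1) + cnt (tw (zeroBase F) (t + 2)).form 0
    refine dvd_add (dvd_deg_plus t) ?_
    rw [cnt_tw_succ, card_tw]
    refine dvd_add (Dvd.dvd.mul_left (Dvd.dvd.mul_right (dvd_pow_self _ (by omega)) _) _) (dvd_mul_right _ _)

theorem plus_arith {q : ℤ} (hq : 4 ≤ q) {t : ℕ} (ht : 1 ≤ t) {k X Y : ℤ}
    (hk : (k + 1) * (q ^ 2 - 1) = (q ^ (t + 3) - 1) * (q ^ (t + 2) + q))
    (hX : q * X = q ^ (2 * (t + 3)) + q ^ (t + 3 + 1) - q ^ (t + 3) - q)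
    (hY : q * Y = q ^ (2 * (t + 2)) + q ^ (t + 2 + 1) - q ^ (t + 2) - q)
    (hdvd : k * (q ^ 2 - 1) ∣ X * Y) : False := by
  have hX' : X = (q ^ (t + 3) - 1) * (q ^ (t + 2) + 1) :=
    mul_left_cancel₀ (by omega : q ≠ 0) (by rw [hX]; ring)
  have hY' : Y = (q ^ (t + 2) - 1) * (q ^ (t + 1) + 1) :=
    mul_left_cancel₀ (by omega : q ≠ 0) (by rw [hY]; ring)
  have hkk : k * (q ^ 2 - 1) = (q ^ (t + 2) - 1) * (q ^ (t + 3) + q ^ 2 + q - 1) := by linear_combination hk
  set H := q ^ (t + 3) + q ^ 2 + q - 1 with hH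
  have hne : q ^ (t + 2) - 1 ≠ 0 := by
    have : (4 : ℤ) ≤ q ^ (t + 2) := le_trans hq (le_self_pow₀ (by omega) (by omega))
    omega
  have h1 : H ∣ (q ^ (t + 3) - 1) * (q ^ (t + 2) + 1) * (q ^ (t + 1) + 1) := by
    refine (mul_dvd_mul_iff_left hne).1 ?_
    rw [← hkk]
    refine hdvd.trans (dvd_of_eq ?_)
    rw [hX', hY']
    ring
  obtain ⟨c, hc⟩ := h1
  set a := q ^ (t + 3) with ha
  set b : ℤ := 1 - q - q ^ 2 with hb
  have h2 : H ∣ q * (q ^ 2 - 1) ^ 2 := by
    refine ⟨(a ^ 2 + a * b + b ^ 2) + (q ^ 2 + q - 1) * (a + b) + (q ^ 3 - q ^ 2 - q) - q ^ 3 * c, ?_⟩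
    have e : q ^ 3 * ((a - 1) * (q ^ (t + 2) + 1) * (q ^ (t + 1) + 1)) = (a - 1) * (a + q) * (a + q ^ 2) := by
      simp only [ha]; ring
    have e2 := congrArg (fun z => q ^ 3 * z) hc
    rw [e] at e2
    linear_combination (norm := (simp only [hH, hb]; ring)) -e2
  have hcop : IsCoprime H q := ⟨-1, q ^ (t + 2) + q + 1, by simp only [hH, ha]; ring⟩
  have h3 : H ∣ (q ^ 2 - 1) ^ 2 := hcop.dvd_of_dvd_mul_left h2
  have hpos : (0 : ℤ) < (q ^ 2 - 1) ^ 2 := by
    have : (0 : ℤ) < q ^ 2 - 1 := by nlinarith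
    positivity
  have h4 := Int.le_of_dvd hpos h3
  have h5 : q ^ 4 ≤ a := by rw [ha]; exact pow_le_pow_right₀ (by omega) (by omega)
  nlinarith

theorem plus_hb (hq : 4 ≤ Fintype.card F) :
    Fintype.card F * cnt (tw (zeroBase F) 1).form 0 + deg (zeroBase F) 1 1 ≤
      (Fintype.card F - 1) * Fintype.card (tw (zeroBase F) 1).carrier := by
  rw [deg_plus_one, cnt_tw_succ, card_tw, card_tw, card_zeroBase]
  show _ * ((_ - 1) * (_ * 1) + _ * cnt (zeroBase F).form 0) + _ ≤ _
  rw [cnt_zeroBase]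
  obtain ⟨q, hq'⟩ := Nat.exists_eq_add_of_le hq
  rw [hq', show 4 + q - 1 = 3 + q by omega]
  ring_nf
  nlinarith

/-- the bound for towers of hyperbolic planes -/
theorem degBound_plus (hq : 4 ≤ Fintype.card F) :
    ∀ t, DegBound (eichlerGroup (tw (zeroBase F) (t + 2)).form) (deg (zeroBase F) 1 (t + 2)) := by
  classical
  intro t
  induction t with
  | zero =>
    obtain ⟨φ⟩ := omega_bound zero_nondeg (plusModel (F := F) 0)
    refine DegBound.congr φ.symm ?_
    rw [coe_plusForm]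
    have h : deg (zeroBase F) 1 2 = Fintype.card F + Fintype.card F ^ 2 + Fintype.card F ^ 3 := by
      have h2 := deg_plus (F := F) 2
      have hne : (Fintype.card F : ℤ) ^ 2 - 1 ≠ 0 := by
        have : (4 : ℤ) ≤ Fintype.card F := by exact_mod_cast hq
        nlinarith
      refine (Nat.cast_inj (R := ℤ)).1 (mul_right_cancel₀ hne (h2.trans ?_))
      push_cast
      ring
    rw [h]
    exact degBound_omega_six hq
  | succ t ih =>
    intro k ρ hirr hmove
    obtain ⟨g, hg⟩ := hmove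
    haveI := hirr
    haveI := finite_eichler (tw (zeroBase F) (t + 2)).form
    haveI : Nontrivial (tw (zeroBase F) (t + 1)).carrier := tw_nontrivial _ t
    set d := deg (zeroBase F) 1 (t + 2) with hd
    set S := (tw (zeroBase F) (t + 1))
    show d + cnt (tw (zeroBase F) (t + 3)).form 0 ≤ k
    by_contra hlt
    push Not at hlt
    have hP : ∀ z, (∀ w, polar S.form z w = 0) → z = 0 := tw_nondeg zero_nondeg (t + 1)
    have hsmall : @Small F _ _ _ _ _ (hypExt (hypExt S.form)) (Fin k → ℂ) _ _ ρ := by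
      refine small_of_lt (P := S.form) ρ (by omega) hP ?_
      rw [Module.finrank_fin_fun]
      exact lt_of_lt_of_le hlt (deg_le (by omega) (plus_hb hq) (t + 2) (by omega))
    have hphase := phaseOK_of_card hP (by omega) 0
    obtain ⟨e1, e2⟩ := small_step (P := S.form) ρ hP hphase hsmall hg
    rw [Module.finrank_fin_fun] at e1
    have hf : d ≤ finrank ℂ (fixU (Q := hypExt (hypExt S.form)) ρ) := ih.le_finrank (descRep (Q := hypExt S.form) ρ) e2
    have hcnt : cnt (hypExt (hypExt S.form)) 0 = cnt (tw (zeroBase F) (t + 3)).form 0 := rfl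
    rw [hcnt] at e1
    have hkeq : k + 1 = d + cnt (tw (zeroBase F) (t + 3)).form 0 := by omega
    have hdvd := @dvd_class F _ _ _ _ _ _ (hypExt S.form) _ _ k ρ _ hirr (iso_hypExt hP) hsmall
      (small_mult (P := S.form) ρ hP hsmall hg).1
    have hdeg : k + 1 = deg (zeroBase F) 1 (t + 2 + 1) := hkeq
    -- cancel the power of `q`
    have hcop : Nat.Coprime (k * (Fintype.card F ^ 2 - 1))
        (Fintype.card F * Fintype.card (F × F × S.carrier)) := by
      have hW : Fintype.card F * Fintype.card (F × F × S.carrier) = Fintype.card F ^ (2 * (t + 2) + 1) := by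
        rw [show Fintype.card (F × F × S.carrier) = Fintype.card (tw (zeroBase F) (t + 2)).carrier from rfl, card_tw,
          card_zeroBase]
        ring
      rw [hW]
      refine Nat.Coprime.pow_right _ ?_
      obtain ⟨m, hm⟩ := dvd_deg_plus (F := F) (t + 2)
      rw [← hdeg] at hm
      rw [← Nat.isCoprime_iff_coprime]
      refine ⟨1, -((m : ℤ) * Fintype.card F ^ 2 - m - Fintype.card F), ?_⟩
      have hm' : (k : ℤ) + 1 = Fintype.card F * m := by exact_mod_cast hm
      push_cast [Nat.cast_sub (Nat.one_le_pow 2 _ (Fintype.card_pos (α := F)))]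
      linear_combination ((Fintype.card F : ℤ) ^ 2 - 1) * hm'
    have hdvd' := Int.natCast_dvd_natCast.2 (hcop.dvd_of_dvd_mul_right hdvd)
    have c1 := cnt_plus (F := F) (t + 1 + 3)
    have c2 := cnt_plus (F := F) (t + 1 + 2)
    have p1 : 1 ≤ cnt (hypExt (hypExt (hypExt S.form))) 0 := cnt_pos
    have p2 : 1 ≤ cnt (hypExt (hypExt S.form)) 0 := cnt_pos
    push_cast [Nat.cast_sub (Nat.one_le_pow 2 _ (Fintype.card_pos (α := F))), Nat.cast_sub p1, Nat.cast_sub p2] at hdvd'
    refine plus_arith (q := (Fintype.card F : ℤ)) (by exact_mod_cast hq) (t := t + 1) (by omega) (k := k) ?_ ?_ ?_ hdvd'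
    · have := deg_plus (F := F) (t + 2 + 1)
      rw [← hdeg] at this
      push_cast at this
      exact this
    · rw [mul_sub, mul_one]
      have c1' : (Fintype.card F : ℤ) * cnt (hypExt (hypExt (hypExt S.form))) 0 = _ := c1
      linear_combination c1'
    · rw [mul_sub, mul_one]
      have c2' : (Fintype.card F : ℤ) * cnt (hypExt (hypExt S.form)) 0 = _ := c2
      linear_combination c2'

end Cfsg.Agent.Lib.MinDegree.Orth
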